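import Mathlib
import Groth.Agent.S4541
import Groth.Agent.S2467
import Groth.Agent.S2468
import Groth.Agent.Lib.Helper13.PBasis
import Groth.Prelude.Def_CAlgX

/-!
# Field extensions of a perfect field are formally smooth (no finiteness hypothesis)
-/

set_option autoImplicit false

namespace Groth.Agent.Lib.Helper96

universe u v w

/-- Any field extension of a perfect field of characteristic `p` is formally smooth
(existence of `p`-bases, S2467, and S4541). -/
theorem formallySmooth_of_perfectRing_charP (p : ℕ) [Fact p.Prime] {F L : Type u} [Field F]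
    [Field L] [Algebra F L] [CharP F p] [PerfectRing F p] [CharP L p] :
    Algebra.FormallySmooth F L := by
  have hS : EGA41.IsPGenerating p F (Subtype.val : ↥(Set.univ : Set L) → L) :=
    (Groth.Agent.Lib.Helper13.PBasis.adjoin_eq_top_iff_pGenerating p _).mp
      (eq_top_iff.mpr fun b _ => Algebra.subset_adjoin ⟨⟨b, trivial⟩, rfl⟩)
  obtain ⟨B, -, -, hB⟩ := Groth.Agent.S2467.result p Set.univ (∅ : Set L) (Set.empty_subset _) hS
    (Groth.Agent.S2468.pIndependent_of_isEmpty (k := F) p _)
  exact (Groth.Agent.S4541.result p (Subtype.val : B → L) hB).1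

/-- Any extension of a field of characteristic zero is formally smooth. -/
theorem formallySmooth_of_charZero {E : Type v} {F : Type w} [Field E] [Field F] [Algebra E F]
    [CharZero E] : Algebra.FormallySmooth E F := by
  obtain ⟨s, hs⟩ := exists_isTranscendenceBasis E F
  haveI : Algebra.IsAlgebraic (IntermediateField.adjoin E (Set.range ((↑) : s → F))) F :=
    hs.isAlgebraic_field
  haveI : CharZero (IntermediateField.adjoin E (Set.range ((↑) : s → F))) :=
    charZero_of_injective_algebraMap
      (algebraMap E (IntermediateField.adjoin E (Set.range ((↑) : s → F)))).injective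
  exact Algebra.FormallySmooth.of_algebraicIndependent_of_isSeparable hs.1

/-- Formally smooth ⇒ adically formally smooth for any ideal. -/
theorem isAdicFormallySmooth_of_formallySmooth {R S : Type u} [CommRing R] [CommRing S]
    [Algebra R S] [Algebra.FormallySmooth R S] (𝔫 : Ideal S) :
    CAlgX.IsAdicFormallySmooth R S 𝔫 :=
  fun A _ _ J hJ ψ _ => Algebra.FormallySmooth.comp_surjective R S J hJ ψ

end Groth.Agent.Lib.Helper96
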