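import Mathlib

/-!
# Formal smoothness lifts along nilpotent thickenings of a flat map

Nilpotent version of Stacks 031L (Mathlib has the square-zero case
`RingHom.FormallySmooth.of_flat_of_ker_eq_map_of_square_zero`):
if `f : R →+* S` is flat, `qR : R ↠ R'`, `qS : S ↠ S'` with `ker qS = (ker qR) S`,
`(ker qR)^n = 0` and the induced `g : R' →+* S'` is formally smooth, then so is `f`.
-/

namespace Groth.Agent.Lib.Helper96

/-- Flatness is stable under base change along a quotient map (`RingHom` form). -/
theorem flat_quotientMap {R S : Type*} [CommRing R] [CommRing S] (f : R →+* S) (hf : f.Flat)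
    (J : Ideal R) :
    (Ideal.quotientMap (J.map f) f Ideal.le_comap_map : R ⧸ J →+* S ⧸ J.map f).Flat := by
  algebraize [f]
  have h : Module.Flat (R ⧸ J) (S ⧸ J.map (algebraMap R S)) :=
    Module.Flat.of_linearEquiv
      (Algebra.TensorProduct.quotIdealMapEquivQuotTensor S J).toLinearEquiv
  have e : (Ideal.quotientMap (J.map f) f Ideal.le_comap_map).toAlgebra =
      (Ideal.Quotient.algebraQuotientMapQuotient :
        Algebra (R ⧸ J) (S ⧸ J.map (algebraMap R S))) :=
    Algebra.algebra_ext _ _ (fun r => rfl)
  unfold RingHom.Flat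
  rw [e]
  exact h

theorem ker_lift_eq_map {R R'' R' : Type*} [CommRing R] [CommRing R''] [CommRing R']
    (π : R →+* R'') (hπ : Function.Surjective π) (q' : R'' →+* R') (q : R →+* R')
    (h : q'.comp π = q) : RingHom.ker q' = (RingHom.ker q).map π := by
  rw [← h, ← RingHom.comap_ker, Ideal.map_comap_of_surjective π hπ]

/-- **Nilpotent version of Stacks 031L.** -/
theorem formallySmooth_of_flat_of_nilpotent : ∀ (n : ℕ) {R S R' S' : Type*}
    [CommRing R] [CommRing S] [CommRing R'] [CommRing S']
    (f : R →+* S) (_ : f.Flat) (qR : R →+* R') (qS : S →+* S') (g : R' →+* S')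
    (_ : Function.Surjective qR) (_ : Function.Surjective qS)
    (_ : qS.comp f = g.comp qR) (_ : (RingHom.ker qR) ^ n = ⊥)
    (_ : RingHom.ker qS = (RingHom.ker qR).map f) (_ : g.FormallySmooth),
    f.FormallySmooth := by
  intro n
  induction n with
  | zero =>
    intro R S R' S' _ _ _ _ f flat qR qS g surjR surjS comm nil eqmap smoothq
    refine RingHom.FormallySmooth.of_flat_of_ker_eq_map_of_square_zero f flat qR qS g surjR surjS
      comm ?_ eqmap smoothq
    rw [eq_bot_iff, ← nil]
    exact Ideal.pow_le_pow_right (by omega)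
  | succ n ih =>
    intro R S R' S' _ _ _ _ f flat qR qS g surjR surjS comm nil eqmap smoothq
    by_cases hn : n + 1 ≤ 2
    · refine RingHom.FormallySmooth.of_flat_of_ker_eq_map_of_square_zero f flat qR qS g surjR
        surjS comm ?_ eqmap smoothq
      rw [eq_bot_iff, ← nil]
      exact Ideal.pow_le_pow_right hn
    · have hn2 : 2 ≤ n := by omega
      have hJK : (RingHom.ker qR) ^ n ≤ RingHom.ker qR := Ideal.pow_le_self (by omega)
      have hJ1 : ∀ a ∈ (RingHom.ker qR) ^ n, qR a = 0 := fun a ha => hJK ha
      have hJ2 : ∀ a ∈ ((RingHom.ker qR) ^ n).map f, qS a = 0 := by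
        intro a ha
        have : a ∈ RingHom.ker qS := by
          rw [eqmap]
          exact Ideal.map_mono hJK ha
        exact this
      have hcomm' : (Ideal.Quotient.lift (((RingHom.ker qR) ^ n).map f) qS hJ2).comp
          (Ideal.quotientMap (((RingHom.ker qR) ^ n).map f) f Ideal.le_comap_map) =
          g.comp (Ideal.Quotient.lift ((RingHom.ker qR) ^ n) qR hJ1) := by
        apply Ideal.Quotient.ringHom_ext
        ext a
        simpa using congrArg (fun φ => φ a) comm
      have hkR : RingHom.ker (Ideal.Quotient.lift ((RingHom.ker qR) ^ n) qR hJ1) =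
          (RingHom.ker qR).map (Ideal.Quotient.mk ((RingHom.ker qR) ^ n)) :=
        ker_lift_eq_map _ Ideal.Quotient.mk_surjective _ _ (by ext a; simp)
      have hkS : RingHom.ker (Ideal.Quotient.lift (((RingHom.ker qR) ^ n).map f) qS hJ2) =
          (RingHom.ker qS).map (Ideal.Quotient.mk (((RingHom.ker qR) ^ n).map f)) :=
        ker_lift_eq_map _ Ideal.Quotient.mk_surjective _ _ (by ext a; simp)
      have smooth'' : (Ideal.quotientMap (((RingHom.ker qR) ^ n).map f) f
          Ideal.le_comap_map).FormallySmooth := by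
        refine ih (Ideal.quotientMap (((RingHom.ker qR) ^ n).map f) f Ideal.le_comap_map)
          (flat_quotientMap f flat _)
          (Ideal.Quotient.lift ((RingHom.ker qR) ^ n) qR hJ1)
          (Ideal.Quotient.lift (((RingHom.ker qR) ^ n).map f) qS hJ2) g
          (Ideal.Quotient.lift_surjective_of_surjective _ _ surjR)
          (Ideal.Quotient.lift_surjective_of_surjective _ _ surjS) hcomm' ?_ ?_ smoothq
        · rw [hkR, ← Ideal.map_pow, Ideal.map_quotient_self]
        · rw [hkS, hkR, eqmap, Ideal.map_map, Ideal.map_map]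
          congr 1
      refine RingHom.FormallySmooth.of_flat_of_ker_eq_map_of_square_zero f flat
        (Ideal.Quotient.mk ((RingHom.ker qR) ^ n))
        (Ideal.Quotient.mk (((RingHom.ker qR) ^ n).map f))
        (Ideal.quotientMap (((RingHom.ker qR) ^ n).map f) f Ideal.le_comap_map)
        Ideal.Quotient.mk_surjective Ideal.Quotient.mk_surjective ?_ ?_ ?_ smooth''
      · ext a; simp
      · rw [Ideal.mk_ker, eq_bot_iff, ← nil, ← pow_mul]
        exact Ideal.pow_le_pow_right (by nlinarith)
      · rw [Ideal.mk_ker, Ideal.mk_ker]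

end Groth.Agent.Lib.Helper96
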