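import Mathlib

/-!
# `Λ ⧸ (m)` is the base change of `Λ` along `ℤ → ZMod m`; flatness over `ZMod m`
-/

namespace Groth.Agent.Lib.Helper96

universe u

theorem intCast_zmod_smul {m : ℕ} {Q : Type*} [AddCommMonoid Q] [Module ℤ Q] [Module (ZMod m) Q]
    [IsScalarTower ℤ (ZMod m) Q] (j : ℤ) (q : Q) : (j : ZMod m) • q = j • q := by
  have : (j : ZMod m) = j • (1 : ZMod m) := by simp
  rw [this, smul_assoc, one_smul]

/-- `Λ ⧸ (m)` is the base change of the `ℤ`-module `Λ` to `ZMod m`, for any `ZMod m`-module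
structure on the quotient. -/
theorem isBaseChange_zmod_quotient {Λ : Type u} [CommRing Λ] (m : ℕ) (I : Ideal Λ)
    (hI : I = Ideal.span {(m : Λ)}) [Module (ZMod m) (Λ ⧸ I)] :
    IsBaseChange (ZMod m) (I.mkQ.restrictScalars ℤ : Λ →ₗ[ℤ] Λ ⧸ I) := by
  apply IsBaseChange.of_lift_unique
  intro Q _ _ _ _ g
  letI : AddCommGroup Q := Module.addCommMonoidToAddCommGroup ℤ
  have hker : I.restrictScalars ℤ ≤ LinearMap.ker g := by
    intro x hx
    rw [Submodule.restrictScalars_mem, hI, Ideal.mem_span_singleton'] at hx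
    obtain ⟨y, rfl⟩ := hx
    rw [LinearMap.mem_ker]
    have h1 : y * (m : Λ) = (m : ℤ) • y := by simp [mul_comm]
    rw [h1, map_smul, ← intCast_zmod_smul (m := m)]
    simp
  let h : Λ ⧸ I →ₗ[ℤ] Q := (Submodule.liftQ (I.restrictScalars ℤ) g hker).comp
    (Submodule.Quotient.restrictScalarsEquiv ℤ I).symm.toLinearMap
  have hh : ∀ x : Λ, h (Submodule.Quotient.mk x) = g x := by
    intro x
    have e : (Submodule.Quotient.restrictScalarsEquiv ℤ I).symm (Submodule.Quotient.mk x) =
        Submodule.Quotient.mk x := by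
      rw [LinearEquiv.symm_apply_eq]
      rfl
    simp only [h, LinearMap.coe_comp, LinearEquiv.coe_coe, Function.comp_apply]
    rw [e]
    exact Submodule.liftQ_apply _ _ _
  refine ⟨{ toFun := h, map_add' := h.map_add, map_smul' := ?_ }, ?_, ?_⟩
  · intro c x
    obtain ⟨j, rfl⟩ := ZMod.intCast_surjective c
    simp only [RingHom.id_apply]
    rw [intCast_zmod_smul, intCast_zmod_smul, map_smul]
  · ext x
    exact hh x
  · intro g' hg'
    ext x
    obtain ⟨y, rfl⟩ := Submodule.Quotient.mk_surjective I x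
    have := congrArg (fun φ => φ y) hg'
    simp only [LinearMap.coe_comp, Function.comp_apply, LinearMap.coe_restrictScalars,
      Submodule.mkQ_apply] at this
    rw [this]
    exact (hh y).symm

/-- If `Λ` is flat over `ℤ`, then `Λ ⧸ (m)` is flat over `ZMod m`. -/
theorem flat_zmod_quotient {Λ : Type u} [CommRing Λ] [Module.Flat ℤ Λ] (m : ℕ) (I : Ideal Λ)
    (hI : I = Ideal.span {(m : Λ)}) [Module (ZMod m) (Λ ⧸ I)] :
    Module.Flat (ZMod m) (Λ ⧸ I) :=
  Module.Flat.isBaseChange ℤ (ZMod m) Λ (Λ ⧸ I) (isBaseChange_zmod_quotient m I hI)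

/-- The kernel of the reduction `ZMod n → ZMod m` (`m ∣ n`) is generated by `m`. -/
theorem ker_zmod_castHom {m n : ℕ} (h : m ∣ n) :
    RingHom.ker (ZMod.castHom h (ZMod m)) = Ideal.span {(m : ZMod n)} := by
  apply le_antisymm
  · intro x hx
    obtain ⟨j, rfl⟩ := ZMod.intCast_surjective x
    rw [RingHom.mem_ker, map_intCast, ZMod.intCast_zmod_eq_zero_iff_dvd] at hx
    obtain ⟨i, rfl⟩ := hx
    rw [Ideal.mem_span_singleton']
    exact ⟨(i : ZMod n), by push_cast; ring⟩
  · rw [Ideal.span_le, Set.singleton_subset_iff, SetLike.mem_coe, RingHom.mem_ker, map_natCast]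
    exact ZMod.natCast_self m

end Groth.Agent.Lib.Helper96
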