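import Mathlib
import Groth.Agent.S9455
import Groth.Agent.Lib.Helper96.PerfectSmooth

/-!
# Lifting homomorphisms out of Cohen rings (EGA 0_IV 19.8)

* `LiftSq W 𝔴`: ring homomorphisms out of `W`, continuous for the `𝔴`-adic topology, lift along
  square-zero extensions (no base ring; test rings in any universe).
* `liftSq_cohenRing`: holds for a complete DVR with maximal ideal `(p)` (via S9455).
* `liftSq_field_charZero`: holds for fields of characteristic zero.
* `exists_lift_of_liftSq`: such `W` lift along `C → C/J` for `C` complete Noetherian local.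
-/

set_option autoImplicit false

namespace Groth.Agent.Lib.Helper96

open IsLocalRing

universe u v

/-- Lifting property along square-zero extensions for `𝔴`-adically continuous ring maps. -/
def LiftSq (W : Type u) [CommRing W] (𝔴 : Ideal W) : Prop :=
  ∀ (A : Type v) [CommRing A] (J : Ideal A), J ^ 2 = ⊥ →
    ∀ ψ : W →+* A ⧸ J, (∃ k : ℕ, ∀ x ∈ 𝔴 ^ k, ψ x = 0) →
      ∃ χ : W →+* A, (Ideal.Quotient.mk J).comp χ = ψ

/-- Version of `LiftSq` for an arbitrary surjection with square-zero kernel. -/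
theorem LiftSq.of_surjective {W : Type u} [CommRing W] {𝔴 : Ideal W} (h : LiftSq.{u, v} W 𝔴)
    {A : Type v} {B : Type*} [CommRing A] [CommRing B] (π : A →+* B) (hπ : Function.Surjective π)
    (hker : RingHom.ker π ^ 2 = ⊥) (ψ : W →+* B) (hψ : ∃ k : ℕ, ∀ x ∈ 𝔴 ^ k, ψ x = 0) :
    ∃ χ : W →+* A, π.comp χ = ψ := by
  obtain ⟨k, hk⟩ := hψ
  obtain ⟨χ, hχ⟩ := h A (RingHom.ker π) hker
    ((RingHom.quotientKerEquivOfSurjective hπ).symm.toRingHom.comp ψ)
    ⟨k, fun x hx => by simp [hk x hx]⟩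
  refine ⟨χ, ?_⟩
  ext w
  have h1 := congrArg (fun f : W →+* A ⧸ RingHom.ker π =>
    RingHom.quotientKerEquivOfSurjective hπ (f w)) hχ
  simpa using h1

/-- A Cohen ring has the lifting property (reduce modulo `p^m`, then S9455). -/
theorem liftSq_cohenRing (Λ : Type u) [CommRing Λ] [IsDomain Λ]
    [IsDiscreteValuationRing Λ] [IsAdicComplete (maximalIdeal Λ) Λ] (p : ℕ) (hp : p.Prime)
    (hm : maximalIdeal Λ = Ideal.span {(p : Λ)}) :
    LiftSq.{u, v} Λ (maximalIdeal Λ) := by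
  intro A _ J hJ ψ ⟨k, hk⟩
  have hpm : (p : Λ) ∈ maximalIdeal Λ := by rw [hm]; exact Ideal.mem_span_singleton_self _
  have hpow : ∀ j, k ≤ j → ψ ((p : Λ) ^ j) = 0 := fun j hj =>
    hk _ (Ideal.pow_le_pow_right hj (Ideal.pow_mem_pow hpm j))
  have h1 : (p : A) ^ (k + 1) ∈ J := by
    rw [← Ideal.Quotient.eq_zero_iff_mem, map_pow, map_natCast]
    have := hpow (k + 1) (by omega)
    rwa [map_pow, map_natCast] at this
  have hpA : ((p ^ (2 * (k + 1)) : ℕ) : A) = 0 := by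
    have h2 : (p : A) ^ (2 * (k + 1)) ∈ J ^ 2 := by
      rw [mul_comm, pow_mul]
      exact Ideal.pow_mem_pow h1 2
    rw [hJ, Ideal.mem_bot] at h2
    rw [Nat.cast_pow]
    exact h2
  letI : Algebra (ZMod (p ^ (2 * (k + 1)))) A := (ZMod.castHom (ringChar.dvd hpA) A).toAlgebra
  have hΛm : ((p ^ (2 * (k + 1)) : ℕ) : Λ ⧸ Ideal.span {((p : Λ) ^ (2 * (k + 1)))}) = 0 := by
    rw [← map_natCast (Ideal.Quotient.mk (Ideal.span {((p : Λ) ^ (2 * (k + 1)))})),
      Nat.cast_pow, Ideal.Quotient.eq_zero_iff_mem]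
    exact Ideal.mem_span_singleton_self _
  letI : Algebra (ZMod (p ^ (2 * (k + 1)))) (Λ ⧸ Ideal.span {((p : Λ) ^ (2 * (k + 1)))}) :=
    (ZMod.castHom (ringChar.dvd hΛm) _).toAlgebra
  haveI : Algebra.FormallySmooth (ZMod (p ^ (2 * (k + 1))))
      (Λ ⧸ Ideal.span {((p : Λ) ^ (2 * (k + 1)))}) :=
    Groth.Agent.S9455.result Λ p hp hm (2 * (k + 1)) (by omega)
  have hkill : ∀ a ∈ Ideal.span {((p : Λ) ^ (2 * (k + 1)))}, ψ a = 0 := by
    intro a ha
    rw [Ideal.mem_span_singleton'] at ha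
    obtain ⟨c, rfl⟩ := ha
    rw [map_mul, hpow _ (by omega), mul_zero]
  let ψ' : (Λ ⧸ Ideal.span {((p : Λ) ^ (2 * (k + 1)))}) →ₐ[ZMod (p ^ (2 * (k + 1)))] A ⧸ J :=
    { Ideal.Quotient.lift _ ψ hkill with
      commutes' := fun c => by
        simp only [RingHom.toMonoidHom_eq_coe, OneHom.toFun_eq_coe, MonoidHom.toOneHom_coe,
          MonoidHom.coe_coe]
        exact RingHom.congr_fun (Subsingleton.elim
          ((Ideal.Quotient.lift _ ψ hkill).comp (algebraMap _ _))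
          (algebraMap _ _)) c }
  obtain ⟨χ, hχ⟩ := Algebra.FormallySmooth.comp_surjective (ZMod (p ^ (2 * (k + 1))))
    (Λ ⧸ Ideal.span {((p : Λ) ^ (2 * (k + 1)))}) J hJ ψ'
  refine ⟨(χ : (Λ ⧸ Ideal.span {((p : Λ) ^ (2 * (k + 1)))}) →+* A).comp
    (Ideal.Quotient.mk _), ?_⟩
  ext x
  have := congrArg (fun f : (Λ ⧸ Ideal.span {((p : Λ) ^ (2 * (k + 1)))}) →ₐ[_] A ⧸ J =>
    f (Ideal.Quotient.mk _ x)) hχ
  simpa [ψ'] using this

/-- A field of characteristic zero has the lifting property. -/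
theorem liftSq_field_charZero (W : Type u) [Field W] [CharZero W] (𝔴 : Ideal W) :
    LiftSq.{u, v} W 𝔴 := by
  intro A _ J hJ ψ _
  have hnil : IsNilpotent J := ⟨2, hJ⟩
  have hunit : ∀ y : nonZeroDivisors ℤ, IsUnit (Int.castRingHom A (y : ℤ)) := by
    intro y
    have hy : (y : ℤ) ≠ 0 := nonZeroDivisors.ne_zero y.2
    rw [← hnil.isUnit_quotient_mk_iff]
    have h1 : Ideal.Quotient.mk J (Int.castRingHom A (y : ℤ)) = ψ ((y : ℤ) : W) := by
      simp
    rw [h1]
    exact (IsUnit.mk0 _ (Int.cast_ne_zero.mpr hy)).map ψ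
  letI : Algebra ℚ A :=
    (IsLocalization.lift (M := nonZeroDivisors ℤ) (S := ℚ) (g := Int.castRingHom A) hunit).toAlgebra
  haveI : Algebra.FormallySmooth ℚ W := formallySmooth_of_charZero
  obtain ⟨χ, hχ⟩ := Algebra.FormallySmooth.comp_surjective ℚ W J hJ ψ.toRatAlgHom
  refine ⟨χ, ?_⟩
  ext x
  have := congrArg (fun f : W →ₐ[ℚ] A ⧸ J => f x) hχ
  simpa using this

/-- factorization of a ring hom through an injective ring hom whose range contains its image -/
theorem exists_comp_eq_of_injective_of_mem_range {W T P : Type*} [CommRing W] [CommRing T]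
    [CommRing P] (ι : T →+* P) (hι : Function.Injective ι) (f : W →+* P)
    (hf : ∀ w, f w ∈ ι.range) : ∃ g : W →+* T, ι.comp g = f := by
  let e : T ≃+* ι.range := RingEquiv.ofBijective ι.rangeRestrict
    ⟨fun a b h => hι (congrArg Subtype.val h), ι.rangeRestrict_surjective⟩
  have he : ∀ x : ι.range, ι (e.symm x) = x := fun x => by
    have := e.apply_symm_apply x
    exact congrArg Subtype.val this
  refine ⟨e.symm.toRingHom.comp (f.codRestrict ι.range hf), ?_⟩
  ext w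
  simp [he]

section Lift

variable {W : Type u} [CommRing W] (𝔴 : Ideal W)
  {C : Type v} [CommRing C] [IsLocalRing C] [IsNoetherianRing C]
  (J : Ideal C) (u : W →+* C ⧸ J)

/-- the invariant of the inductive construction -/
def LiftInv (n : ℕ) (v : W →+* C ⧸ maximalIdeal C ^ n) : Prop :=
  (Ideal.Quotient.factor (le_sup_left : maximalIdeal C ^ n ≤ maximalIdeal C ^ n ⊔ J)).comp v =
    (Ideal.Quotient.factor (le_sup_right : J ≤ maximalIdeal C ^ n ⊔ J)).comp u ∧
  ∀ x ∈ 𝔴, v x ∈ (maximalIdeal C).map (Ideal.Quotient.mk (maximalIdeal C ^ n))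

variable {𝔴 J u}

theorem liftInv_step (hW : LiftSq.{u, v} W 𝔴) (n : ℕ) (hn : 1 ≤ n)
    (v : W →+* C ⧸ maximalIdeal C ^ n) (hv : LiftInv 𝔴 J u n v) :
    ∃ v' : W →+* C ⧸ maximalIdeal C ^ (n + 1), LiftInv 𝔴 J u (n + 1) v' ∧
      (Ideal.Quotient.factorPow (maximalIdeal C) n.le_succ).comp v' = v := by
  obtain ⟨hv1, hv2⟩ := hv
  have hK1 : maximalIdeal C ^ (n + 1) ≤
      maximalIdeal C ^ n ⊓ (maximalIdeal C ^ (n + 1) ⊔ J) :=
    le_inf (Ideal.pow_le_pow_right n.le_succ) le_sup_left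
  have hsurj := Ideal.Quotient.factor_surjective hK1
  have hker : RingHom.ker (Ideal.Quotient.factor hK1) ^ 2 = ⊥ := by
    rw [Ideal.Quotient.factor_ker, ← Ideal.map_pow]
    refine Ideal.map_mk_eq_bot_of_le ?_
    calc (maximalIdeal C ^ n ⊓ (maximalIdeal C ^ (n + 1) ⊔ J)) ^ 2
        ≤ (maximalIdeal C ^ n) ^ 2 := Ideal.pow_right_mono inf_le_left 2
      _ = maximalIdeal C ^ (n * 2) := (pow_mul _ _ _).symm
      _ ≤ maximalIdeal C ^ (n + 1) := Ideal.pow_le_pow_right (by omega)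
  -- the two projections of `T = C ⧸ K`
  have hι : Function.Injective
      ((Ideal.Quotient.factor (inf_le_left :
          maximalIdeal C ^ n ⊓ (maximalIdeal C ^ (n + 1) ⊔ J) ≤ maximalIdeal C ^ n)).prod
        (Ideal.Quotient.factor (inf_le_right :
          maximalIdeal C ^ n ⊓ (maximalIdeal C ^ (n + 1) ⊔ J) ≤
            maximalIdeal C ^ (n + 1) ⊔ J))) := by
    rw [injective_iff_map_eq_zero]
    intro t ht
    obtain ⟨t, rfl⟩ := Ideal.Quotient.mk_surjective t
    rw [RingHom.prod_apply, Prod.mk_eq_zero, Ideal.Quotient.factor_mk, Ideal.Quotient.factor_mk,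
      Ideal.Quotient.eq_zero_iff_mem, Ideal.Quotient.eq_zero_iff_mem] at ht
    rw [Ideal.Quotient.eq_zero_iff_mem]
    exact ⟨ht.1, ht.2⟩
  have hf : ∀ w, (v.prod ((Ideal.Quotient.factor
      (le_sup_right : J ≤ maximalIdeal C ^ (n + 1) ⊔ J)).comp u)) w ∈
      ((Ideal.Quotient.factor (inf_le_left :
          maximalIdeal C ^ n ⊓ (maximalIdeal C ^ (n + 1) ⊔ J) ≤ maximalIdeal C ^ n)).prod
        (Ideal.Quotient.factor (inf_le_right :
          maximalIdeal C ^ n ⊓ (maximalIdeal C ^ (n + 1) ⊔ J) ≤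
            maximalIdeal C ^ (n + 1) ⊔ J))).range := by
    intro w
    obtain ⟨c, hc⟩ := Ideal.Quotient.mk_surjective (v w)
    obtain ⟨d, hd⟩ := Ideal.Quotient.mk_surjective (u w)
    have h1 := congrArg (fun φ : W →+* C ⧸ (maximalIdeal C ^ n ⊔ J) => φ w) hv1
    simp only [RingHom.comp_apply, ← hc, ← hd, Ideal.Quotient.factor_mk] at h1
    rw [Ideal.Quotient.eq, Submodule.mem_sup] at h1
    obtain ⟨μ, hμ, j, hj, hμj⟩ := h1
    refine ⟨Ideal.Quotient.mk _ (c - μ), ?_⟩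
    rw [RingHom.prod_apply, RingHom.prod_apply, Ideal.Quotient.factor_mk,
      Ideal.Quotient.factor_mk, RingHom.comp_apply, ← hc, ← hd, Ideal.Quotient.factor_mk]
    refine Prod.ext ?_ ?_
    · simp only
      rw [map_sub, Ideal.Quotient.eq_zero_iff_mem.mpr hμ, sub_zero]
    · simp only
      rw [Ideal.Quotient.eq]
      have : c - μ - d = j := by linear_combination -hμj
      rw [this]
      exact Ideal.mem_sup_right hj
  obtain ⟨g, hg⟩ := exists_comp_eq_of_injective_of_mem_range _ hι _ hf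
  have hg1 : (Ideal.Quotient.factor (inf_le_left :
      maximalIdeal C ^ n ⊓ (maximalIdeal C ^ (n + 1) ⊔ J) ≤ maximalIdeal C ^ n)).comp g = v := by
    ext w
    have := congrArg (fun φ : W →+* _ × _ => (φ w).1) hg
    simpa using this
  have hg2 : (Ideal.Quotient.factor (inf_le_right :
      maximalIdeal C ^ n ⊓ (maximalIdeal C ^ (n + 1) ⊔ J) ≤
        maximalIdeal C ^ (n + 1) ⊔ J)).comp g =
      (Ideal.Quotient.factor (le_sup_right : J ≤ maximalIdeal C ^ (n + 1) ⊔ J)).comp u := by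
    ext w
    have := congrArg (fun φ : W →+* _ × _ => (φ w).2) hg
    simpa using this
  -- continuity of `g`
  have hmn : maximalIdeal C ⊔ maximalIdeal C ^ n = maximalIdeal C :=
    sup_eq_left.mpr (Ideal.pow_le_self (by omega))
  have hgm : 𝔴.map g ≤ (maximalIdeal C).map (Ideal.Quotient.mk _) := by
    rw [Ideal.map_le_iff_le_comap]
    intro x hx
    rw [Ideal.mem_comap]
    obtain ⟨t, ht⟩ := Ideal.Quotient.mk_surjective (g x)
    have h1 := hv2 x hx
    rw [← hg1, RingHom.comp_apply, ← ht, Ideal.Quotient.factor_mk,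
      Ideal.mem_quotient_iff_mem_sup, hmn] at h1
    rw [← ht]
    exact Ideal.mem_map_of_mem _ h1
  have hgcont : ∀ x ∈ 𝔴 ^ (n + 1), g x = 0 := by
    intro x hx
    have h1 : g x ∈ (𝔴 ^ (n + 1)).map g := Ideal.mem_map_of_mem g hx
    rw [Ideal.map_pow] at h1
    have h2 := Ideal.pow_right_mono hgm (n + 1) h1
    rw [← Ideal.map_pow, Ideal.map_mk_eq_bot_of_le hK1] at h2
    exact h2
  obtain ⟨χ, hχ⟩ := hW.of_surjective _ hsurj hker g ⟨n + 1, hgcont⟩
  have hfac : (Ideal.Quotient.factorPow (maximalIdeal C) n.le_succ).comp χ = v := by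
    rw [← hg1, ← hχ, ← RingHom.comp_assoc, Ideal.Quotient.factor_comp]
  refine ⟨χ, ⟨?_, ?_⟩, hfac⟩
  · rw [← hg2, ← hχ, ← RingHom.comp_assoc, Ideal.Quotient.factor_comp]
  · intro x hx
    obtain ⟨s, hs⟩ := Ideal.Quotient.mk_surjective (χ x)
    have h1 := hv2 x hx
    rw [← hfac, RingHom.comp_apply, ← hs] at h1
    change Ideal.Quotient.factor _ (Ideal.Quotient.mk _ s) ∈ _ at h1
    rw [Ideal.Quotient.factor_mk, Ideal.mem_quotient_iff_mem_sup, hmn] at h1
    rw [← hs]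
    exact Ideal.mem_map_of_mem _ h1

theorem liftInv_one (hJ : J ≠ ⊤)
    (hu : ∀ x ∈ 𝔴, u x ∈ (maximalIdeal C).map (Ideal.Quotient.mk J)) :
    ∃ v : W →+* C ⧸ maximalIdeal C ^ (0 + 1), LiftInv 𝔴 J u (0 + 1) v := by
  have hJm : J ≤ maximalIdeal C ^ (0 + 1) := by
    rw [zero_add, pow_one]; exact IsLocalRing.le_maximalIdeal hJ
  refine ⟨(Ideal.Quotient.factor hJm).comp u, ?_, ?_⟩
  · rw [← RingHom.comp_assoc, Ideal.Quotient.factor_comp]
  · intro x hx
    have h1 := Ideal.mem_map_of_mem (Ideal.Quotient.factor hJm) (hu x hx)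
    rwa [Ideal.map_map, Ideal.Quotient.factor_comp_mk] at h1

/-- the inductively constructed compatible system of lifts -/
noncomputable def liftSeq (hW : LiftSq.{u, v} W 𝔴) (hJ : J ≠ ⊤)
    (hu : ∀ x ∈ 𝔴, u x ∈ (maximalIdeal C).map (Ideal.Quotient.mk J)) :
    (n : ℕ) → {v : W →+* C ⧸ maximalIdeal C ^ (n + 1) // LiftInv 𝔴 J u (n + 1) v}
  | 0 => ⟨(liftInv_one hJ hu).choose, (liftInv_one hJ hu).choose_spec⟩
  | n + 1 =>
    ⟨(liftInv_step hW (n + 1) (by omega) (liftSeq hW hJ hu n).1 (liftSeq hW hJ hu n).2).choose,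
      (liftInv_step hW (n + 1) (by omega) (liftSeq hW hJ hu n).1
        (liftSeq hW hJ hu n).2).choose_spec.1⟩

theorem liftSeq_compat (hW : LiftSq.{u, v} W 𝔴) (hJ : J ≠ ⊤)
    (hu : ∀ x ∈ 𝔴, u x ∈ (maximalIdeal C).map (Ideal.Quotient.mk J)) (n : ℕ) :
    (Ideal.Quotient.factorPow (maximalIdeal C) (n + 1).le_succ).comp (liftSeq hW hJ hu (n + 1)).1 =
      (liftSeq hW hJ hu n).1 :=
  (liftInv_step hW (n + 1) (by omega) (liftSeq hW hJ hu n).1
    (liftSeq hW hJ hu n).2).choose_spec.2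

/-- **Lifting along `C → C/J`** for `C` a complete Noetherian local ring, for rings `W` with the
square-zero lifting property `LiftSq` (EGA 0_IV 19.8.6 style). -/
theorem exists_lift_of_liftSq [IsAdicComplete (maximalIdeal C) C] (hW : LiftSq.{u, v} W 𝔴)
    (hJ : J ≠ ⊤) (hu : ∀ x ∈ 𝔴, u x ∈ (maximalIdeal C).map (Ideal.Quotient.mk J)) :
    ∃ v : W →+* C, (Ideal.Quotient.mk J).comp v = u := by
  have ha : StrictMono (fun n : ℕ => n + 1) := fun a b h => Nat.succ_lt_succ h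
  let v : W →+* C := IsAdicComplete.StrictMono.liftRingHom (maximalIdeal C) ha
    (fun n => (liftSeq hW hJ hu n).1) (fun {n} => liftSeq_compat hW hJ hu n)
  have hv : ∀ n (w : W), Ideal.Quotient.mk (maximalIdeal C ^ (n + 1)) (v w) =
      (liftSeq hW hJ hu n).1 w := fun n w =>
    IsAdicComplete.StrictMono.mk_liftRingHom (maximalIdeal C) ha
      (fun n => (liftSeq hW hJ hu n).1) (fun {n} => liftSeq_compat hW hJ hu n) w
  refine ⟨v, ?_⟩
  ext w
  obtain ⟨d, hd⟩ := Ideal.Quotient.mk_surjective (u w)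
  rw [RingHom.comp_apply, ← hd, Ideal.Quotient.eq]
  -- `v w - d ∈ m^(n+1) ⊔ J` for all `n`
  have hmem : ∀ n, v w - d ∈ maximalIdeal C ^ (n + 1) ⊔ J := by
    intro n
    have h1 := congrArg (fun φ : W →+* C ⧸ (maximalIdeal C ^ (n + 1) ⊔ J) => φ w)
      (liftSeq hW hJ hu n).2.1
    simp only [RingHom.comp_apply, ← hd, ← hv n w, Ideal.Quotient.factor_mk] at h1
    exact Ideal.Quotient.eq.mp h1
  haveI : Nontrivial (C ⧸ J) := Ideal.Quotient.nontrivial_iff.mpr hJ
  haveI : IsLocalRing (C ⧸ J) :=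
    IsLocalRing.of_surjective' (Ideal.Quotient.mk J) Ideal.Quotient.mk_surjective
  have hne : (maximalIdeal C).map (Ideal.Quotient.mk J) ≠ ⊤ := by
    intro h
    have h1 : (Ideal.Quotient.mk J) 1 ∈ (maximalIdeal C).map (Ideal.Quotient.mk J) := by
      rw [h]; trivial
    rw [Ideal.mem_quotient_iff_mem_sup, sup_eq_left.mpr (IsLocalRing.le_maximalIdeal hJ)] at h1
    exact (Ideal.ne_top_iff_one _).mp (IsLocalRing.maximalIdeal.isMaximal C).ne_top h1
  have hkrull := Ideal.iInf_pow_eq_bot_of_isLocalRing _ hne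
  have h0 : Ideal.Quotient.mk J (v w - d) ∈
      ⨅ i, ((maximalIdeal C).map (Ideal.Quotient.mk J)) ^ i := by
    rw [Ideal.mem_iInf]
    intro i
    rw [← Ideal.map_pow, Ideal.mem_quotient_iff_mem_sup]
    refine (sup_le_sup_right (Ideal.pow_le_pow_right (Nat.le_succ i)) J) (hmem i)
  rw [hkrull, Ideal.mem_bot, Ideal.Quotient.eq_zero_iff_mem] at h0
  exact h0

end Lift

end Groth.Agent.Lib.Helper96
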