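import Mathlib
import Groth.Agent.Lib.Helper76.PSCRing
import Groth.Agent.Lib.Helper76.PSCohen

/-!
# Power series rings over a discrete valuation ring are regular (helper96)
-/

set_option autoImplicit false

namespace Groth.Agent.Lib.Helper96

open MvPowerSeries IsLocalRing
open Groth.Agent.Lib.Helper76.PSComplete Groth.Agent.Lib.Helper76.PSCRing

/-- `dim R + d ≤ dim R⟦X₁, …, X_d⟧`. -/
theorem ringKrullDim_add_le_mvPowerSeries (R : Type*) [CommRing R] (d : ℕ) :
    ringKrullDim R + (d : WithBot ℕ∞) ≤ ringKrullDim (MvPowerSeries (Fin d) R) := by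
  induction d with
  | zero =>
    have e : MvPowerSeries (Fin 0) R ≃+* R := (MvPowerSeries.isEmptyEquiv (Fin 0) R).toRingEquiv
    rw [ringKrullDim_eq_of_ringEquiv e]
    simp
  | succ n ih =>
    rw [ringKrullDim_eq_of_ringEquiv (MvPowerSeries.finSuccEquiv R n).toRingEquiv]
    refine le_trans ?_ ringKrullDim_succ_le_ringKrullDim_powerseries
    push_cast
    rw [← add_assoc]
    exact add_le_add_left ih 1

/-- Power series rings (finitely many variables) over a local principal ideal domain which is not a
field, e.g. a discrete valuation ring, are regular local rings. -/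
theorem isRegularLocalRing_mvPowerSeries_of_principal (Λ : Type*) [CommRing Λ] [IsDomain Λ]
    [IsLocalRing Λ] [IsPrincipalIdealRing Λ] (hΛ : ¬ IsField Λ) (π : Λ)
    (hπ : maximalIdeal Λ = Ideal.span {π}) (n : ℕ) :
    IsRegularLocalRing (MvPowerSeries (Fin n) Λ) := by
  classical
  apply IsRegularLocalRing.of_spanFinrank_maximalIdeal_le
  have hdim : ((1 + n : ℕ) : WithBot ℕ∞) ≤ ringKrullDim (MvPowerSeries (Fin n) Λ) := by
    have h1 := ringKrullDim_add_le_mvPowerSeries Λ n
    rw [IsPrincipalIdealRing.ringKrullDim_eq_one Λ hΛ] at h1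
    push_cast
    exact h1
  refine le_trans ?_ hdim
  have hm : maximalIdeal (MvPowerSeries (Fin n) Λ) =
      Ideal.span ({C π} ∪ Set.range (X : Fin n → MvPowerSeries (Fin n) Λ)) := by
    rw [maximalIdeal_eq_sup, hπ, Ideal.map_span, Set.image_singleton, Ideal.span_union]
    rfl
  rw [hm]
  have hfin : ({C π} ∪ Set.range (X : Fin n → MvPowerSeries (Fin n) Λ)).Finite :=
    (Set.finite_singleton _).union (Set.finite_range _)
  have h1 : (Ideal.span ({C π} ∪ Set.range (X : Fin n → MvPowerSeries (Fin n) Λ))).spanFinrank ≤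
      ({C π} ∪ Set.range (X : Fin n → MvPowerSeries (Fin n) Λ)).ncard :=
    Submodule.spanFinrank_span_le_ncard_of_finite hfin
  have h2 : ({C π} ∪ Set.range (X : Fin n → MvPowerSeries (Fin n) Λ)).ncard ≤ 1 + n := by
    refine (Set.ncard_union_le _ _).trans ?_
    rw [Set.ncard_singleton]
    have h3 : (Set.range (X : Fin n → MvPowerSeries (Fin n) Λ)).ncard ≤ n := by
      rw [← Set.image_univ]
      refine (Set.ncard_image_le (Set.finite_univ)).trans ?_
      simp
    omega
  exact_mod_cast h1.trans h2

end Groth.Agent.Lib.Helper96
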