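import Mathlib

/-!
# Localizations of regular rings are regular (helper96)
-/

set_option autoImplicit false

universe u

namespace Groth.Agent.Lib.Helper96

/-- A localization of a regular ring is a regular ring. -/
theorem isRegularRing_of_isLocalization {R : Type*} [CommRing R] [IsRegularRing R]
    (M : Submonoid R) (S : Type*) [CommRing S] [Algebra R S] [IsLocalization M S] :
    IsRegularRing S := by
  haveI : IsNoetherianRing S := IsLocalization.isNoetherianRing M S inferInstance
  rw [isRegularRing_iff]
  intro P hP
  haveI : IsLocalization.AtPrime (Localization.AtPrime P) (P.comap (algebraMap R S)) :=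
    IsLocalization.isLocalization_isLocalization_atPrime_isLocalization M
      (Localization.AtPrime P) P
  let e : Localization.AtPrime (P.comap (algebraMap R S)) ≃ₐ[R] Localization.AtPrime P :=
    IsLocalization.algEquiv (P.comap (algebraMap R S)).primeCompl _ _
  exact IsRegularLocalRing.of_ringEquiv e.toRingEquiv

end Groth.Agent.Lib.Helper96
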