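import Mathlib
import Groth.Agent.Lib.Helper76.PSComplete
import Groth.Prelude.Def_CAlgX

/-!
# Adic formal smoothness of power series rings

If `Λ` is (adically) formally smooth over `R` for the `𝔪`-adic topology, then
`Λ⟦x₁,…,xₙ⟧` is formally smooth over `R` for any ideal `𝔫` containing `𝔪` and the variables.
Uses helper76's evaluation map `evC` (universal property of power series rings).
-/

set_option autoImplicit false

namespace Groth.Agent.Lib.Helper96

open MvPowerSeries Groth.Agent.Lib.Helper76.PSComplete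

universe u

/-- Every module is adically complete for a nilpotent ideal. -/
theorem isAdicComplete_of_pow_eq_bot {R M : Type*} [CommRing R] [AddCommGroup M] [Module R M]
    (I : Ideal R) (N : ℕ) (h : I ^ N = ⊥) : IsAdicComplete I M where
  haus' := by
    intro x hx
    have := hx N
    rw [h, Submodule.bot_smul] at this
    simpa [SModEq.zero] using this
  prec' := by
    intro f hf
    refine ⟨f N, fun n => ?_⟩
    rcases le_total n N with hn | hn
    · exact hf hn
    · have h1 := hf hn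
      rw [h, Submodule.bot_smul, SModEq.bot] at h1
      rw [h1]

theorem evC_congr {A : Type*} [CommRing A] {σ : Type*} [Finite σ] {B : Type*} [CommRing B]
    [Algebra A B] (I : Ideal B) [IsAdicComplete I B] {b b' : σ → B} (hb : ∀ s, b s ∈ I)
    (hb' : ∀ s, b' s ∈ I) (h : b = b') : evC (A := A) I b hb = evC I b' hb' := by
  subst h; rfl

/-- Two algebra maps out of a power series ring (finitely many variables) into a ring complete for
an ideal containing the images of the variables agree if they agree on the variables. -/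
theorem mvPowerSeries_algHom_ext {A : Type*} [CommRing A] {σ : Type*} [Finite σ] {B : Type*}
    [CommRing B] [Algebra A B] (I : Ideal B) [IsAdicComplete I B]
    (ψ₁ ψ₂ : MvPowerSeries σ A →ₐ[A] B) (h1 : ∀ s, ψ₁ (X s) ∈ I)
    (h : ∀ s, ψ₁ (X s) = ψ₂ (X s)) : ψ₁ = ψ₂ := by
  have h2 : ∀ s, ψ₂ (X s) ∈ I := fun s => h s ▸ h1 s
  rw [evC_unique I ψ₁ h1, evC_unique I ψ₂ h2]
  exact evC_congr I _ _ (funext h)

theorem isAdicFormallySmooth_mvPowerSeries {R Λ : Type u} [CommRing R] [CommRing Λ] [Algebra R Λ]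
    (𝔪 : Ideal Λ) (n : ℕ) (𝔫 : Ideal (MvPowerSeries (Fin n) Λ))
    (h𝔪 : ∀ l ∈ 𝔪, algebraMap Λ (MvPowerSeries (Fin n) Λ) l ∈ 𝔫)
    (hX : ∀ i, (X i : MvPowerSeries (Fin n) Λ) ∈ 𝔫)
    (hΛ : CAlgX.IsAdicFormallySmooth R Λ 𝔪) :
    CAlgX.IsAdicFormallySmooth R (MvPowerSeries (Fin n) Λ) 𝔫 := by
  intro A _ _ J hJ ψ ⟨k, hk⟩
  -- Step 1: lift on coefficients
  have hmap : ∀ x ∈ 𝔪 ^ k, algebraMap Λ (MvPowerSeries (Fin n) Λ) x ∈ 𝔫 ^ k := by
    intro x hx
    have h1 : 𝔪.map (algebraMap Λ (MvPowerSeries (Fin n) Λ)) ≤ 𝔫 := by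
      rw [Ideal.map_le_iff_le_comap]
      exact fun l hl => h𝔪 l hl
    have h2 := Ideal.mem_map_of_mem (algebraMap Λ (MvPowerSeries (Fin n) Λ)) hx
    rw [Ideal.map_pow] at h2
    exact Ideal.pow_right_mono h1 k h2
  obtain ⟨φ, hφ⟩ := hΛ A J hJ (ψ.comp (IsScalarTower.toAlgHom R Λ (MvPowerSeries (Fin n) Λ)))
    ⟨k, fun x hx => by
      rw [AlgHom.comp_apply, IsScalarTower.coe_toAlgHom']
      exact hk _ (hmap x hx)⟩
  -- Step 2: `A` as a `Λ`-algebra
  letI : Algebra Λ A := φ.toRingHom.toAlgebra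
  haveI : IsScalarTower R Λ A := IsScalarTower.of_algebraMap_eq (fun r => (φ.commutes r).symm)
  have hφ' : ∀ l : Λ, Ideal.Quotient.mk J (φ l) =
      ψ (algebraMap Λ (MvPowerSeries (Fin n) Λ) l) := fun l => by
    have := congrArg (fun f : Λ →ₐ[R] A ⧸ J => f l) hφ
    simpa using this
  let ψ' : MvPowerSeries (Fin n) Λ →ₐ[Λ] A ⧸ J :=
    { (ψ : MvPowerSeries (Fin n) Λ →+* A ⧸ J) with
      commutes' := fun l => by
        simp only [RingHom.toMonoidHom_eq_coe, OneHom.toFun_eq_coe, MonoidHom.toOneHom_coe,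
          MonoidHom.coe_coe, RingHom.coe_coe]
        rw [← hφ' l]
        rfl }
  have hψ' : ∀ F, ψ' F = ψ F := fun F => rfl
  -- Step 3: lifts of the variables
  let b : Fin n → A := fun s => Function.surjInv Ideal.Quotient.mk_surjective (ψ (X s))
  have hb : ∀ s, Ideal.Quotient.mk J (b s) = ψ (X s) := fun s => Function.surjInv_eq _ _
  have hbnil : ∀ s, b s ∈ nilradical A := by
    intro s
    refine ⟨2 * k, ?_⟩
    have h1 : b s ^ k ∈ J := by
      rw [← Ideal.Quotient.eq_zero_iff_mem, map_pow, hb, ← map_pow]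
      exact hk _ (Ideal.pow_mem_pow (hX s) k)
    have h2 : b s ^ (2 * k) ∈ J ^ 2 := by
      rw [mul_comm, pow_mul]
      exact Ideal.pow_mem_pow h1 2
    rwa [hJ] at h2
  let I : Ideal A := Ideal.span (Set.range b)
  have hbI : ∀ s, b s ∈ I := fun s => Ideal.subset_span ⟨s, rfl⟩
  have hIfg : I.FG := ⟨(Set.finite_range b).toFinset, by simp [I]⟩
  have hInil : IsNilpotent I := by
    rw [hIfg.isNilpotent_iff_le_nilradical, Ideal.span_le]
    rintro _ ⟨s, rfl⟩
    exact hbnil s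
  obtain ⟨N, hN⟩ := hInil
  haveI : IsAdicComplete I A := isAdicComplete_of_pow_eq_bot I N hN
  have hN' : (I.map (Ideal.Quotient.mk J)) ^ N = ⊥ := by
    rw [← Ideal.map_pow, hN]
    exact Ideal.map_bot
  haveI : IsAdicComplete (I.map (Ideal.Quotient.mk J)) (A ⧸ J) :=
    isAdicComplete_of_pow_eq_bot _ N hN'
  let χ' : MvPowerSeries (Fin n) Λ →ₐ[Λ] A := evC I b hbI
  have hχ : (Ideal.Quotient.mkₐ Λ J).comp χ' = ψ' := by
    refine mvPowerSeries_algHom_ext (I.map (Ideal.Quotient.mk J)) _ _ (fun s => ?_) (fun s => ?_)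
    · rw [AlgHom.comp_apply, evC_X]
      exact Ideal.mem_map_of_mem _ (hbI s)
    · rw [AlgHom.comp_apply, evC_X, hψ', ← hb s]
      rfl
  refine ⟨χ'.restrictScalars R, ?_⟩
  ext F
  have := congrArg (fun f : MvPowerSeries (Fin n) Λ →ₐ[Λ] A ⧸ J => f F) hχ
  rw [← hψ' F]
  simpa using this

end Groth.Agent.Lib.Helper96
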