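import Mathlib
import Groth.Agent.S4542
import Groth.Agent.Lib.Helper76.PSCohen
import Groth.Agent.Lib.Helper76.PSCRing
import Groth.Prelude.Def_CAlgX

/-!
# Formally smooth complete local algebras with a coefficient field are power series rings (helper96)

* `exists_algEquiv_mvPowerSeries_of_formallySmoothAdic`: let `k` be a field, `B` a complete
  Noetherian local `k`-algebra which is formally smooth over `k` for the adic topology of its
  maximal ideal (`EGA41.IsFormallySmoothAdic k ⊥ B 𝔫`), and `K` a field with a `k`-algebra map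
  `K → B` inducing an isomorphism onto the residue field of `B`. Then `B ≅ K[[X_1, …, X_d]]` as
  `K`-algebras. In particular `B` is regular.

The proof: take a surjection `ψ : K[[X]] → B` with `d` minimal, so that `ker ψ ⊆ 𝔭²`. By formal
smoothness (EGA 0_IV 19.3.10 = S4542) `ψ` has a `k`-algebra section `v`; the endomorphism `v ∘ ψ`
of `K[[X]]` is congruent to the identity modulo `𝔭²`, hence is onto, hence injective (Noetherian),
and it kills `ker ψ`.
-/

set_option autoImplicit false

universe u

namespace Groth.Agent.Lib.Helper96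

open MvPowerSeries IsLocalRing
open Groth.Agent.Lib.Helper76.LT Groth.Agent.Lib.Helper76.PSInv
open Groth.Agent.Lib.Helper76.PSComplete Groth.Agent.Lib.Helper76.PSCRing

/-- An endomorphism of a complete Noetherian local ring which is congruent to the identity modulo
the square of the maximal ideal is bijective. -/
theorem bijective_of_sub_mem_sq {P : Type*} [CommRing P] [IsLocalRing P] [IsNoetherianRing P]
    [IsAdicComplete (maximalIdeal P) P] (θ : P →+* P)
    (hθ : ∀ F, θ F - F ∈ maximalIdeal P ^ 2) : Function.Bijective θ := by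
  have hsq : maximalIdeal P ^ 2 ≤ maximalIdeal P := Ideal.pow_le_self two_ne_zero
  have hle : (maximalIdeal P).map θ ≤ maximalIdeal P := by
    rw [Ideal.map_le_iff_le_comap]
    intro F hF
    have := Ideal.add_mem _ (hsq (hθ F)) hF
    rwa [sub_add_cancel] at this
  have hge : maximalIdeal P ≤ (maximalIdeal P).map θ ⊔ maximalIdeal P ^ 2 := by
    intro F hF
    have h1 : θ F ∈ (maximalIdeal P).map θ := Ideal.mem_map_of_mem θ hF
    have h2 := Ideal.sub_mem _ (Ideal.mem_sup_left h1)
      (Ideal.mem_sup_right (hθ F) : θ F - F ∈ (maximalIdeal P).map θ ⊔ maximalIdeal P ^ 2)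
    rwa [sub_sub_cancel] at h2
  have hmap : (maximalIdeal P).map θ = maximalIdeal P :=
    eq_maximalIdeal_of_le_sup_sq _ hle hge
  have hsurj : Function.Surjective θ := by
    refine surjective_of_map_maximalIdeal θ hmap fun s => ⟨s, ?_⟩
    have := (maximalIdeal P).neg_mem (hsq (hθ s))
    rwa [neg_sub] at this
  exact ⟨injective_of_surjective_endo θ hsurj, hsurj⟩

/-- Lifting a basis of the cotangent space to elements of the maximal ideal. -/
theorem exists_lift_basis_cotangentSpace (B : Type*) [CommRing B] [IsLocalRing B]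
    [IsNoetherianRing B] :
    ∃ (d : ℕ) (b : Fin d → B) (hb : ∀ i, b i ∈ maximalIdeal B),
      LinearIndependent (ResidueField B)
        (fun i : Fin d => (maximalIdeal B).toCotangent ⟨b i, hb i⟩) ∧
      Submodule.span (ResidueField B)
        (Set.range (fun i : Fin d => (maximalIdeal B).toCotangent ⟨b i, hb i⟩)) = ⊤ := by
  classical
  let β := Module.finBasis (ResidueField B) (CotangentSpace B)
  set d := Module.finrank (ResidueField B) (CotangentSpace B)
  choose c hc using fun i : Fin d => Ideal.toCotangent_surjective (maximalIdeal B) (β i)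
  refine ⟨d, fun i => (c i : B), fun i => (c i).2, ?_, ?_⟩
  · have : (fun i : Fin d => (maximalIdeal B).toCotangent ⟨(c i : B), (c i).2⟩) = β := by
      funext i; exact hc i
    rw [this]; exact β.linearIndependent
  · have : (fun i : Fin d => (maximalIdeal B).toCotangent ⟨(c i : B), (c i).2⟩) = β := by
      funext i; exact hc i
    rw [this]; exact β.span_eq

/-- **Formally smooth complete local algebras with a coefficient field are power series rings.** -/
theorem exists_algEquiv_mvPowerSeries_of_formallySmoothAdic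
    (k K B : Type u) [Field k] [Field K] [Algebra k K] [CommRing B] [IsLocalRing B]
    [IsNoetherianRing B] [IsAdicComplete (maximalIdeal B) B] [Algebra k B] [Algebra K B]
    [IsScalarTower k K B]
    (hK : Function.Surjective ((residue B).comp (algebraMap K B)))
    (hfs : EGA41.IsFormallySmoothAdic k ⊥ B (maximalIdeal B)) :
    ∃ d : ℕ, Nonempty (MvPowerSeries (Fin d) K ≃ₐ[K] B) := by
  classical
  obtain ⟨d, b, hb, hli, hsp⟩ := exists_lift_basis_cotangentSpace B
  let ψ : MvPowerSeries (Fin d) K →ₐ[K] B := evC (maximalIdeal B) b hb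
  have hψX : ∀ i, ψ (X i) = b i := evC_X (maximalIdeal B) b hb
  have hψm : ∀ i, ψ (X i) ∈ maximalIdeal B := fun i => by rw [hψX]; exact hb i
  have hfun : (fun i : Fin d => (maximalIdeal B).toCotangent ⟨ψ (X i), hψm i⟩) =
      (fun i : Fin d => (maximalIdeal B).toCotangent ⟨b i, hb i⟩) := by
    funext i
    congr 1
    exact Subtype.ext (hψX i)
  have hli' : LinearIndependent (ResidueField B)
      (fun i : Fin d => (maximalIdeal B).toCotangent ⟨ψ (X i), hψm i⟩) := by
    rw [hfun]; exact hli
  have hsp' : Submodule.span (ResidueField B)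
      (Set.range (fun i : Fin d => (maximalIdeal B).toCotangent ⟨ψ (X i), hψm i⟩)) = ⊤ := by
    rw [hfun]; exact hsp
  have hsurj : Function.Surjective ψ := surjective_of_cotangent_span hK ψ hψm hsp'
  have hker : ∀ F, ψ F = 0 → F ∈ maximalIdeal (MvPowerSeries (Fin d) K) ^ 2 := by
    intro F hF
    have := ord_two_of_mem_ker ψ hψm hli' hF
    rw [maximalIdeal_eq_varIdeal]
    exact mem_varIdeal_pow_of_ord this
  haveI : IsAdicComplete (maximalIdeal (MvPowerSeries (Fin d) K)) (MvPowerSeries (Fin d) K) := by
    rw [maximalIdeal_eq_varIdeal]; infer_instance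
  let ψk : MvPowerSeries (Fin d) K →ₐ[k] B := ψ.restrictScalars k
  have hsurjk : Function.Surjective ψk := hsurj
  have hJle : RingHom.ker ψk ≤ maximalIdeal (MvPowerSeries (Fin d) K) ^ 2 :=
    fun F hF => hker F hF
  have hJle1 : RingHom.ker ψk ≤ maximalIdeal (MvPowerSeries (Fin d) K) :=
    hJle.trans (Ideal.pow_le_self two_ne_zero)
  haveI : Nontrivial (MvPowerSeries (Fin d) K ⧸ RingHom.ker ψk) :=
    Ideal.Quotient.nontrivial_iff.mpr (fun h => by
      rw [h] at hJle1
      exact (Ideal.IsMaximal.ne_top (maximalIdeal.isMaximal _)) (top_le_iff.mp hJle1))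
  haveI : IsLocalRing (MvPowerSeries (Fin d) K ⧸ RingHom.ker ψk) :=
    IsLocalRing.of_surjective' (Ideal.Quotient.mk (RingHom.ker ψk)) Ideal.Quotient.mk_surjective
  haveI : IsHausdorff ((maximalIdeal (MvPowerSeries (Fin d) K)).map
      (Ideal.Quotient.mk (RingHom.ker ψk))) (MvPowerSeries (Fin d) K ⧸ RingHom.ker ψk) := by
    refine IsHausdorff.of_isLocalRing _ _ fun htop => ?_
    have h1 : (1 : MvPowerSeries (Fin d) K ⧸ RingHom.ker ψk) ∈
        (maximalIdeal (MvPowerSeries (Fin d) K)).map (Ideal.Quotient.mk (RingHom.ker ψk)) := by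
      rw [htop]; trivial
    rw [Ideal.mem_map_iff_of_surjective _ Ideal.Quotient.mk_surjective] at h1
    obtain ⟨x, hx, hx1⟩ := h1
    have h2 : x - 1 ∈ RingHom.ker ψk := by
      rw [← Ideal.Quotient.eq, hx1, map_one]
    have h3 := Ideal.sub_mem _ hx (hJle1 h2)
    rw [sub_sub_cancel] at h3
    exact (Ideal.ne_top_iff_one _).mp (Ideal.IsMaximal.ne_top (maximalIdeal.isMaximal _)) h3
  let u : B →ₐ[k] MvPowerSeries (Fin d) K ⧸ RingHom.ker ψk :=
    (Ideal.quotientKerAlgEquivOfSurjective hsurjk).symm.toAlgHom
  have hu_apply : ∀ F, u (ψ F) = Ideal.Quotient.mk (RingHom.ker ψk) F := by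
    intro F
    show (Ideal.quotientKerAlgEquivOfSurjective hsurjk).symm (ψ F) = _
    rw [AlgEquiv.symm_apply_eq]
    rfl
  have hu : ∃ m : ℕ, ((maximalIdeal B) ^ m).map u.toRingHom ≤
      (maximalIdeal (MvPowerSeries (Fin d) K)).map (Ideal.Quotient.mk (RingHom.ker ψk)) := by
    refine ⟨1, ?_⟩
    rw [pow_one, Ideal.map_le_iff_le_comap]
    intro y hy
    obtain ⟨F, rfl⟩ := hsurj y
    rw [Ideal.mem_comap]
    show u (ψ F) ∈ _
    rw [hu_apply]
    refine Ideal.mem_map_of_mem _ ?_
    rw [mem_maximalIdeal, mem_nonunits_iff]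
    intro hF
    exact (mem_maximalIdeal _).mp hy (hF.map ψ)
  obtain ⟨v, -, hv⟩ := Groth.Agent.S4542.result (A := k) (B := B) (C := MvPowerSeries (Fin d) K)
    ⊥ (maximalIdeal B) (maximalIdeal (MvPowerSeries (Fin d) K)) hfs
    ⟨1, by rw [pow_one, Ideal.map_bot]; exact bot_le⟩ (RingHom.ker ψk)
    ⟨1, by rw [pow_one]; exact hJle1⟩ u hu
  have hψv : ∀ y, ψ (v y) = y := by
    intro y
    have h1 : Ideal.Quotient.mk (RingHom.ker ψk) (v y) = u y := DFunLike.congr_fun hv y
    obtain ⟨F, rfl⟩ := hsurj y
    rw [hu_apply, Ideal.Quotient.eq] at h1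
    have h2 : ψ (v (ψ F) - F) = 0 := h1
    rwa [map_sub, sub_eq_zero] at h2
  let θ : MvPowerSeries (Fin d) K →+* MvPowerSeries (Fin d) K :=
    (v : B →+* MvPowerSeries (Fin d) K).comp (ψ : MvPowerSeries (Fin d) K →+* B)
  have hθ : ∀ F, θ F - F ∈ maximalIdeal (MvPowerSeries (Fin d) K) ^ 2 := by
    intro F
    apply hker
    show ψ (v (ψ F) - F) = 0
    rw [map_sub, hψv, sub_self]
  have hbij := bijective_of_sub_mem_sq θ hθ
  have hinj : Function.Injective ψ := by
    rw [injective_iff_map_eq_zero]
    intro F hF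
    apply hbij.1
    show v (ψ F) = θ 0
    rw [hF, map_zero, map_zero]
  exact ⟨d, ⟨AlgEquiv.ofBijective ψ ⟨hinj, hsurj⟩⟩⟩

/-- Consequence: such a `B` is a regular local ring. -/
theorem isRegularLocalRing_of_formallySmoothAdic
    (k K B : Type u) [Field k] [Field K] [Algebra k K] [CommRing B] [IsLocalRing B]
    [IsNoetherianRing B] [IsAdicComplete (maximalIdeal B) B] [Algebra k B] [Algebra K B]
    [IsScalarTower k K B]
    (hK : Function.Surjective ((residue B).comp (algebraMap K B)))
    (hfs : EGA41.IsFormallySmoothAdic k ⊥ B (maximalIdeal B)) :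
    IsRegularLocalRing B := by
  obtain ⟨d, ⟨e⟩⟩ := exists_algEquiv_mvPowerSeries_of_formallySmoothAdic k K B hK hfs
  exact IsRegularLocalRing.of_ringEquiv e.toRingEquiv

/-- **Coefficient field of the completion** (as a `k`-algebra map): if the residue field of the
Noetherian local `k`-algebra `A` is formally smooth over `k`, there is a `k`-algebra map from it
to the completion of `A` lifting the canonical identification of residue fields. -/
theorem exists_coeff_section (k A : Type u) [Field k] [CommRing A] [Algebra k A]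
    [IsNoetherianRing A] [IsLocalRing A] [Algebra.FormallySmooth k (ResidueField A)] :
    ∃ g : ResidueField A →ₐ[k] AdicCompletion (maximalIdeal A) A,
      ∀ x, residue (AdicCompletion (maximalIdeal A) A) (g x) =
        IsLocalRing.ResidueField.map (algebraMap A (AdicCompletion (maximalIdeal A) A)) x := by
  let τ : ResidueField A →ₐ[k] AdicCompletion (maximalIdeal A) A ⧸
      maximalIdeal (AdicCompletion (maximalIdeal A) A) :=
    { toRingHom := IsLocalRing.ResidueField.map
        (algebraMap A (AdicCompletion (maximalIdeal A) A))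
      commutes' := fun c => by
        show IsLocalRing.ResidueField.map (algebraMap A (AdicCompletion (maximalIdeal A) A))
          (residue A (algebraMap k A c)) = _
        rw [IsLocalRing.ResidueField.map_residue, ← IsScalarTower.algebraMap_apply]
        rfl }
  obtain ⟨g, hg⟩ := Algebra.FormallySmooth.exists_mkₐ_comp_eq_of_isAdicComplete
    (R := k) (A := ResidueField A) (S := AdicCompletion (maximalIdeal A) A)
    (I := maximalIdeal (AdicCompletion (maximalIdeal A) A)) τ
  exact ⟨g, fun x => congrArg (fun ψ : ResidueField A →ₐ[k] AdicCompletion (maximalIdeal A) A ⧸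
      maximalIdeal (AdicCompletion (maximalIdeal A) A) => ψ x) hg⟩

/-- Transport of adic formal smoothness (for the maximal-ideal topology) along an isomorphism of
local algebras. -/
theorem isAdicFormallySmooth_of_algEquiv {R S T : Type u} [CommRing R] [CommRing S] [CommRing T]
    [Algebra R S] [Algebra R T] [IsLocalRing S] [IsLocalRing T] (e : S ≃ₐ[R] T)
    (h : CAlgX.IsAdicFormallySmooth R T (maximalIdeal T)) :
    CAlgX.IsAdicFormallySmooth R S (maximalIdeal S) := by
  intro C _ _ J hJ ψ ⟨m, hm⟩
  obtain ⟨χ, hχ⟩ := h C J hJ (ψ.comp e.symm.toAlgHom) ⟨m, fun F hF => by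
    apply hm
    have h1 : (maximalIdeal T).map (e.symm.toRingEquiv : T →+* S) = maximalIdeal S :=
      map_ringEquiv_maximalIdeal e.symm.toRingEquiv
    have h2 := Ideal.mem_map_of_mem (e.symm.toRingEquiv : T →+* S) hF
    rw [Ideal.map_pow, h1] at h2
    exact h2⟩
  refine ⟨χ.comp e.toAlgHom, ?_⟩
  ext y
  have := DFunLike.congr_fun hχ (e y)
  simpa using this

end Groth.Agent.Lib.Helper96
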