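import Mathlib
import Groth.Agent.S2453
import Groth.Agent.Lib.Helper96.PerfectSmooth
import Groth.Agent.Lib.Helper33.RegularRing

/-!
# Adic formal smoothness over a field implies regularity (helper96)

* `isAdicFormallySmooth_of_tower`: transitivity `k₀ → k → A` with `k` formally smooth over `k₀`.
* `isRegular_and_completion_of_adicFormallySmooth`: a Noetherian local `k`-algebra, `k` a field,
  which is formally smooth over `k` for the adic topology of its maximal ideal is regular, and its
  completion is a power series ring over the residue field (as a ring).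
-/

set_option autoImplicit false

universe u

namespace Groth.Agent.Lib.Helper96

open IsLocalRing

/-- Transitivity of adic formal smoothness over a formally smooth (discrete) base extension. -/
theorem isAdicFormallySmooth_of_tower (k₀ k A : Type u) [CommRing k₀] [CommRing k] [CommRing A]
    [Algebra k₀ k] [Algebra k A] [Algebra k₀ A] [IsScalarTower k₀ k A]
    [Algebra.FormallySmooth k₀ k] (𝔫 : Ideal A) (h : CAlgX.IsAdicFormallySmooth k A 𝔫) :
    CAlgX.IsAdicFormallySmooth k₀ A 𝔫 := by
  intro C _ _ J hJ ψ hψ
  let ψ₀ : k →ₐ[k₀] C ⧸ J := ψ.comp (IsScalarTower.toAlgHom k₀ k A)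
  obtain ⟨χ₀, hχ₀⟩ := Algebra.FormallySmooth.comp_surjective k₀ k J hJ ψ₀
  letI : Algebra k C := (χ₀ : k →+* C).toAlgebra
  haveI : IsScalarTower k₀ k C := IsScalarTower.of_algebraMap_eq (fun x => (χ₀.commutes x).symm)
  let ψk : A →ₐ[k] C ⧸ J :=
    { (ψ : A →+* C ⧸ J) with
      commutes' := fun c => by
        have := DFunLike.congr_fun hχ₀ c
        exact this.symm }
  obtain ⟨χ, hχ⟩ := h C J hJ ψk hψ
  refine ⟨χ.restrictScalars k₀, ?_⟩
  ext a
  exact DFunLike.congr_fun hχ a

/-- **Adic formal smoothness over a field implies regularity**, and the completion is then a power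
series ring over the residue field (as a ring). Reduce to the prime field, over which every
extension is separable, and use S2453. -/
theorem isRegular_and_completion_of_adicFormallySmooth {k A : Type u} [Field k] [CommRing A]
    [IsLocalRing A] [IsNoetherianRing A] [Algebra k A]
    (h : CAlgX.IsAdicFormallySmooth k A (maximalIdeal A)) :
    IsRegularLocalRing A ∧ ∃ n : ℕ, Nonempty
      (AdicCompletion (maximalIdeal A) A ≃+* MvPowerSeries (Fin n) (ResidueField A)) := by
  have key : Algebra.FormallySmooth (⊥ : Subfield k) k ∧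
      Algebra.FormallySmooth (⊥ : Subfield k) (ResidueField A) := by
    obtain ⟨p, hp⟩ := CharP.exists k
    rcases CharP.char_is_prime_or_zero k p with hp' | rfl
    · haveI : Fact p.Prime := ⟨hp'⟩
      haveI : CharP (⊥ : Subfield k) p :=
        (RingHom.charP_iff _ (algebraMap (⊥ : Subfield k) k).injective p).mpr inferInstance
      haveI : Fintype (⊥ : Subfield k) := Subfield.fintypeBot k p
      haveI : PerfectRing (⊥ : Subfield k) p := PerfectRing.ofFiniteOfIsReduced p _
      haveI : CharP (ResidueField A) p :=
        charP_of_injective_algebraMap (algebraMap k (ResidueField A)).injective p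
      exact ⟨formallySmooth_of_perfectRing_charP p, formallySmooth_of_perfectRing_charP p⟩
    · haveI : CharZero k := CharP.charP_to_charZero k
      haveI : CharZero (⊥ : Subfield k) :=
        (RingHom.charZero_iff (algebraMap (⊥ : Subfield k) k).injective).mpr inferInstance
      exact ⟨formallySmooth_of_charZero, formallySmooth_of_charZero⟩
  obtain ⟨h1, h2⟩ := key
  haveI := h1
  haveI := h2
  haveI : Algebra.IsGeometricallyReduced (⊥ : Subfield k) (ResidueField A) :=
    Groth.Agent.S2451.result.mp h2
  have h0 := isAdicFormallySmooth_of_tower (⊥ : Subfield k) k A _ h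
  have tfae := Groth.Agent.S2453.result (k := (⊥ : Subfield k)) (A := A)
  exact ⟨(tfae.out 0 3).mp h0, (tfae.out 0 2).mp h0⟩

open TensorProduct in
/-- Base change and localization: if `A` is formally smooth over `k` for the `𝔪`-adic topology, then
for every prime `n` of `k' ⊗ A` containing the image of `𝔪`, the local ring `(k' ⊗ A)_n` is
formally smooth over `k'` for the adic topology of its maximal ideal. -/
theorem isAdicFormallySmooth_localization_tensor (k k' A : Type u) [CommRing k] [CommRing k']
    [CommRing A] [Algebra k k'] [Algebra k A] (𝔪 : Ideal A)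
    (h : CAlgX.IsAdicFormallySmooth k A 𝔪) (n : Ideal (k' ⊗[k] A)) [n.IsPrime]
    (hn : 𝔪.map (Algebra.TensorProduct.includeRight : A →ₐ[k] k' ⊗[k] A).toRingHom ≤ n) :
    CAlgX.IsAdicFormallySmooth k' (Localization.AtPrime n)
      (maximalIdeal (Localization.AtPrime n)) := by
  intro C _ _ J hJ ψ ⟨m, hm⟩
  letI : Algebra k C := ((algebraMap k' C).comp (algebraMap k k')).toAlgebra
  haveI : IsScalarTower k k' C := IsScalarTower.of_algebraMap_eq (fun x => rfl)
  let ι : A →+* Localization.AtPrime n :=
    (algebraMap (k' ⊗[k] A) (Localization.AtPrime n)).comp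
      (Algebra.TensorProduct.includeRight : A →ₐ[k] k' ⊗[k] A).toRingHom
  have hι_apply : ∀ a, ι a = algebraMap (k' ⊗[k] A) (Localization.AtPrime n) ((1 : k') ⊗ₜ[k] a) :=
    fun a => rfl
  let ψA : A →ₐ[k] C ⧸ J :=
    { (ψ : Localization.AtPrime n →+* C ⧸ J).comp ι with
      commutes' := fun c => by
        show ψ (algebraMap (k' ⊗[k] A) (Localization.AtPrime n)
          ((1 : k') ⊗ₜ[k] (algebraMap k A c))) = _
        have e1 : ((1 : k') ⊗ₜ[k] (algebraMap k A c) : k' ⊗[k] A) =
            algebraMap k' (k' ⊗[k] A) (algebraMap k k' c) := by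
          rw [Algebra.TensorProduct.algebraMap_apply, Algebra.algebraMap_self, RingHom.id_apply,
            Algebra.algebraMap_eq_smul_one, Algebra.algebraMap_eq_smul_one (A := k'),
            TensorProduct.tmul_smul, TensorProduct.smul_tmul']
        rw [e1, ← IsScalarTower.algebraMap_apply k' (k' ⊗[k] A) (Localization.AtPrime n),
          ψ.commutes]
        rfl }
  have hψA_apply : ∀ a, ψA a = ψ (ι a) := fun a => rfl
  have hι : 𝔪.map ι ≤ maximalIdeal (Localization.AtPrime n) := by
    rw [Ideal.map_le_iff_le_comap]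
    intro a ha
    have h1 : (Algebra.TensorProduct.includeRight : A →ₐ[k] k' ⊗[k] A).toRingHom a ∈ n :=
      hn (Ideal.mem_map_of_mem _ ha)
    exact (IsLocalization.AtPrime.to_map_mem_maximal_iff (Localization.AtPrime n) n _).mpr h1
  have hψA : ∃ m : ℕ, ∀ x ∈ 𝔪 ^ m, ψA x = 0 := by
    refine ⟨m, fun x hx => hm _ ?_⟩
    have h1 := Ideal.mem_map_of_mem ι hx
    rw [Ideal.map_pow] at h1
    exact Ideal.pow_right_mono hι m h1
  obtain ⟨χA, hχA⟩ := h C J hJ ψA hψA
  have hχA_apply : ∀ a, Ideal.Quotient.mk J (χA a) = ψ (ι a) := fun a =>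
    DFunLike.congr_fun hχA a
  let χ' : k' ⊗[k] A →ₐ[k'] C :=
    Algebra.TensorProduct.lift (Algebra.ofId k' C) χA (fun _ _ => Commute.all _ _)
  have hχ' : ∀ t, Ideal.Quotient.mk J (χ' t) =
      ψ (algebraMap (k' ⊗[k] A) (Localization.AtPrime n) t) := by
    intro t
    induction t using TensorProduct.induction_on with
    | zero => simp
    | tmul x a =>
      have e2 : (x ⊗ₜ[k] a : k' ⊗[k] A) = algebraMap k' (k' ⊗[k] A) x * ((1 : k') ⊗ₜ[k] a) := by
        rw [Algebra.TensorProduct.algebraMap_apply, Algebra.algebraMap_self, RingHom.id_apply,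
          Algebra.TensorProduct.tmul_mul_tmul, mul_one, one_mul]
      have e3 : χ' (x ⊗ₜ[k] a) = algebraMap k' C x * χA a := by
        simp [χ', Algebra.TensorProduct.lift_tmul, Algebra.ofId_apply]
      rw [e3, map_mul, hχA_apply, e2, map_mul, map_mul, ← hι_apply,
        ← IsScalarTower.algebraMap_apply k' (k' ⊗[k] A) (Localization.AtPrime n), ψ.commutes]
      rfl
    | add t₁ t₂ h₁ h₂ => rw [map_add, map_add, h₁, h₂, map_add, map_add]
  have hunit : ∀ y : n.primeCompl, IsUnit (χ' y) := by
    intro y
    rw [← IsNilpotent.isUnit_quotient_mk_iff (I := J) ⟨2, hJ⟩, hχ']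
    exact (IsLocalization.map_units (Localization.AtPrime n) y).map ψ
  let χ : Localization.AtPrime n →ₐ[k'] C := IsLocalization.liftAlgHom (M := n.primeCompl) hunit
  refine ⟨χ, ?_⟩
  apply AlgHom.coe_ringHom_injective
  apply IsLocalization.ringHom_ext n.primeCompl
  refine RingHom.ext fun t => ?_
  show Ideal.Quotient.mk J (χ (algebraMap _ _ t)) = ψ (algebraMap _ _ t)
  rw [← hχ']
  congr 1
  exact IsLocalization.lift_eq _ t

open TensorProduct in
/-- **Adic formal smoothness over a field implies geometric regularity.** -/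
theorem isGeometricallyRegular_of_adicFormallySmooth {k A : Type u} [Field k] [CommRing A]
    [IsLocalRing A] [IsNoetherianRing A] [Algebra k A]
    (h : CAlgX.IsAdicFormallySmooth k A (maximalIdeal A)) : CAlg.IsGeometricallyRegular k A := by
  intro k' _ _ hfin
  haveI : IsNoetherianRing (A ⊗[k] k') := Algebra.FiniteType.isNoetherianRing A _
  haveI : IsNoetherianRing (k' ⊗[k] A) :=
    isNoetherianRing_of_ringEquiv (A ⊗[k] k') (Algebra.TensorProduct.comm k A k').toRingEquiv
  refine Groth.Agent.Lib.Helper33.isRegularRing_of_forall_isMaximal _ fun n hn => ?_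
  have hcomp : (Algebra.TensorProduct.includeRight : A →ₐ[k] k' ⊗[k] A).toRingHom =
      ((Algebra.TensorProduct.comm k A k').toRingEquiv : A ⊗[k] k' →+* k' ⊗[k] A).comp
        (algebraMap A (A ⊗[k] k')) := by
    refine RingHom.ext fun a => ?_
    simp [Algebra.TensorProduct.algebraMap_apply]
  have hint : (Algebra.TensorProduct.includeRight : A →ₐ[k] k' ⊗[k] A).toRingHom.IsIntegral := by
    rw [hcomp]
    refine RingHom.IsIntegral.trans _ _ ?_ ?_
    · exact algebraMap_isIntegral_iff.mpr inferInstance
    · exact RingHom.isIntegral_of_surjective _ (Algebra.TensorProduct.comm k A k').surjective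
  have hcomap : n.comap (Algebra.TensorProduct.includeRight : A →ₐ[k] k' ⊗[k] A).toRingHom =
      maximalIdeal A := by
    have := Ideal.isMaximal_comap_of_isIntegral_of_isMaximal' _ hint n
    exact IsLocalRing.eq_maximalIdeal this
  have hle : (maximalIdeal A).map
      (Algebra.TensorProduct.includeRight : A →ₐ[k] k' ⊗[k] A).toRingHom ≤ n := by
    rw [Ideal.map_le_iff_le_comap, hcomap]
  have hL := isAdicFormallySmooth_localization_tensor k k' A _ h n hle
  haveI : IsNoetherianRing (Localization.AtPrime n) :=
    IsLocalization.isNoetherianRing n.primeCompl _ inferInstance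
  exact (isRegular_and_completion_of_adicFormallySmooth hL).1

end Groth.Agent.Lib.Helper96
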