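import Mathlib
import Groth.Prelude.Def_CAlgX

/-!
# Adic formal smoothness in a tower `k₀ → k → A` via extension of derivations (helper96)

* `isAdicFormallySmooth_of_torsion`: dévissage — to check adic formal smoothness it suffices to lift
  through square-zero extensions whose kernel is killed by (lifts of) `𝔫`.
* `exists_derivation_extension`: for a local `k`-algebra `A` with residue field `K` such that
  `Ω_{k/ℤ} ⊗ K → Ω_{A/ℤ} ⊗ K` is injective, every derivation `k → N` into an `A`-module killed by the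
  maximal ideal extends to `A`.
* `injective_of_isAdicFormallySmooth`: conversely adic formal smoothness over `k` gives the injectivity.
* `isAdicFormallySmooth_of_tower_of_injective`: `A` formally smooth over `k₀` + injectivity ⇒
  formally smooth over `k`.
-/

set_option autoImplicit false

universe u v

namespace Groth.Agent.Lib.Helper96

open IsLocalRing TensorProduct

section Devissage

variable {R S : Type u} [CommRing R] [CommRing S] [Algebra R S]

theorem isAdicFormallySmooth_of_torsion_aux (𝔫 : Ideal S)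
    (H : ∀ (E : Type u) [CommRing E] [Algebra R E] (J : Ideal E), J ^ 2 = ⊥ →
      ∀ ψ : S →ₐ[R] E ⧸ J, (∃ ν : ℕ, ∀ x ∈ 𝔫 ^ ν, ψ x = 0) →
      (∀ a ∈ 𝔫, ∀ e : E, Ideal.Quotient.mk J e = ψ a → ∀ j ∈ J, e * j = 0) →
      ∃ χ : S →ₐ[R] E, (Ideal.Quotient.mkₐ R J).comp χ = ψ) :
    ∀ (n : ℕ) (E : Type u) [CommRing E] [Algebra R E] (J : Ideal E), J ^ 2 = ⊥ →
      ∀ ψ : S →ₐ[R] E ⧸ J, (∃ ν : ℕ, ∀ x ∈ 𝔫 ^ ν, ψ x = 0) →
      (Ideal.comap (Ideal.Quotient.mk J) (Ideal.map ψ 𝔫)) ^ n * J = ⊥ →
      ∃ χ : S →ₐ[R] E, (Ideal.Quotient.mkₐ R J).comp χ = ψ := by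
  intro n
  induction n with
  | zero =>
    intro E _ _ J hJ ψ hψ h0
    rw [pow_zero, one_mul] at h0
    refine H E J hJ ψ hψ ?_
    intro a _ e _ j hj
    rw [h0, Ideal.mem_bot] at hj
    rw [hj, mul_zero]
  | succ n ih =>
    intro E _ _ J hJ ψ hψ hn
    set I : Ideal E := Ideal.comap (Ideal.Quotient.mk J) (Ideal.map ψ 𝔫) with hI
    let J₁ : Ideal E := I * J
    have hJ₁J : J₁ ≤ J := Ideal.mul_le_right
    let J' : Ideal (E ⧸ J₁) := J.map (Ideal.Quotient.mkₐ R J₁)
    have hJ' : J' ^ 2 = ⊥ := by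
      rw [← Ideal.map_pow, hJ, Ideal.map_bot]
    let eq := DoubleQuot.quotQuotEquivQuotOfLEₐ R hJ₁J
    let ψ' : S →ₐ[R] (E ⧸ J₁) ⧸ J' := eq.symm.toAlgHom.comp ψ
    have hψ' : ∃ ν : ℕ, ∀ x ∈ 𝔫 ^ ν, ψ' x = 0 := by
      obtain ⟨ν, hν⟩ := hψ
      refine ⟨ν, fun x hx => ?_⟩
      show eq.symm (ψ x) = 0
      rw [hν x hx, map_zero]
    have hq : ∀ e : E, eq (Ideal.Quotient.mk J' (Ideal.Quotient.mk J₁ e)) =
        Ideal.Quotient.mk J e := fun e => DoubleQuot.quotQuotEquivQuotOfLE_quotQuotMk e hJ₁J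
    obtain ⟨χ₁, hχ₁⟩ := H (E ⧸ J₁) J' hJ' ψ' hψ' (by
      intro a ha e₁ he₁ j' hj'
      obtain ⟨e, rfl⟩ := Ideal.Quotient.mk_surjective e₁
      obtain ⟨j, hj, rfl⟩ :=
        (Ideal.mem_map_iff_of_surjective _ (Ideal.Quotient.mkₐ_surjective R J₁)).mp hj'
      have he : e ∈ I := by
        rw [hI, Ideal.mem_comap, ← hq e, he₁]
        show eq (eq.symm (ψ a)) ∈ _
        rw [AlgEquiv.apply_symm_apply]
        exact Ideal.mem_map_of_mem _ ha
      show Ideal.Quotient.mk J₁ e * Ideal.Quotient.mk J₁ j = 0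
      rw [← map_mul, Ideal.Quotient.eq_zero_iff_mem]
      exact Ideal.mul_mem_mul he hj)
    have hχ₁ψ : ∀ a, eq (Ideal.Quotient.mk J' (χ₁ a)) = ψ a := by
      intro a
      have h1 := DFunLike.congr_fun hχ₁ a
      change Ideal.Quotient.mk J' (χ₁ a) = eq.symm (ψ a) at h1
      rw [h1, AlgEquiv.apply_symm_apply]
    have hJ₁sq : J₁ ^ 2 = ⊥ := by
      rw [eq_bot_iff, ← hJ]
      exact Ideal.pow_right_mono hJ₁J 2
    have hχ₁kill : ∃ ν : ℕ, ∀ x ∈ 𝔫 ^ ν, χ₁ x = 0 := by
      obtain ⟨ν, hν⟩ := hψ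
      have hmem : ∀ y ∈ 𝔫 ^ ν, χ₁ y ∈ J' := by
        intro y hy
        rw [← Ideal.Quotient.eq_zero_iff_mem]
        apply eq.injective
        rw [hχ₁ψ y, hν y hy, map_zero]
      refine ⟨ν + ν, fun x hx => ?_⟩
      rw [pow_add] at hx
      refine Submodule.mul_induction_on hx ?_ ?_
      · intro y hy z hz
        rw [map_mul]
        have h2 : χ₁ y * χ₁ z ∈ J' ^ 2 := by
          rw [pow_two]
          exact Ideal.mul_mem_mul (hmem y hy) (hmem z hz)
        rwa [hJ', Ideal.mem_bot] at h2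
      · intro y z hy hz
        rw [map_add, hy, hz, add_zero]
    have hI₁ : Ideal.comap (Ideal.Quotient.mk J₁) (Ideal.map χ₁ 𝔫) ≤ I := by
      intro e he
      rw [Ideal.mem_comap] at he
      rw [hI, Ideal.mem_comap, ← hq e]
      have h2 : Ideal.map χ₁ 𝔫 ≤ Ideal.comap
          ((eq : (E ⧸ J₁) ⧸ J' →+* E ⧸ J).comp (Ideal.Quotient.mk J')) (Ideal.map ψ 𝔫) := by
        rw [Ideal.map_le_iff_le_comap]
        intro a ha
        rw [Ideal.mem_comap, Ideal.mem_comap]
        show eq (Ideal.Quotient.mk J' (χ₁ a)) ∈ _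
        rw [hχ₁ψ a]
        exact Ideal.mem_map_of_mem _ ha
      exact h2 he
    obtain ⟨χ, hχ⟩ := ih E J₁ hJ₁sq χ₁ hχ₁kill (by
      rw [eq_bot_iff, ← hn]
      calc _ ≤ I ^ n * (I * J) := Ideal.mul_mono (Ideal.pow_right_mono hI₁ n) le_rfl
        _ = I ^ (n + 1) * J := by rw [pow_succ, mul_assoc])
    refine ⟨χ, ?_⟩
    ext a
    have h1 := DFunLike.congr_fun hχ a
    change Ideal.Quotient.mk J₁ (χ a) = χ₁ a at h1
    show Ideal.Quotient.mk J (χ a) = ψ a
    rw [← hχ₁ψ a, ← h1]
    exact (hq _).symm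

/-- **Dévissage**: to check adic formal smoothness it suffices to lift through square-zero
extensions `E → E/J` such that (lifts of) elements of `𝔫` kill `J`. -/
theorem isAdicFormallySmooth_of_torsion (𝔫 : Ideal S)
    (H : ∀ (E : Type u) [CommRing E] [Algebra R E] (J : Ideal E), J ^ 2 = ⊥ →
      ∀ ψ : S →ₐ[R] E ⧸ J, (∃ ν : ℕ, ∀ x ∈ 𝔫 ^ ν, ψ x = 0) →
      (∀ a ∈ 𝔫, ∀ e : E, Ideal.Quotient.mk J e = ψ a → ∀ j ∈ J, e * j = 0) →
      ∃ χ : S →ₐ[R] E, (Ideal.Quotient.mkₐ R J).comp χ = ψ) :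
    CAlgX.IsAdicFormallySmooth R S 𝔫 := by
  intro E _ _ J hJ ψ hψ
  obtain ⟨ν, hν⟩ := hψ
  refine isAdicFormallySmooth_of_torsion_aux 𝔫 H ν E J hJ ψ ⟨ν, hν⟩ ?_
  have h1 : (Ideal.comap (Ideal.Quotient.mk J) (Ideal.map ψ 𝔫)) ^ ν ≤ J := by
    refine (Ideal.le_comap_pow _ ν).trans ?_
    rw [← Ideal.map_pow]
    have h2 : Ideal.map ψ (𝔫 ^ ν) = ⊥ := by
      rw [eq_bot_iff, Ideal.map_le_iff_le_comap]
      intro x hx
      rw [Ideal.mem_comap, Ideal.mem_bot]
      exact hν x hx
    rw [h2]
    intro e he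
    rw [Ideal.mem_comap, Ideal.mem_bot, Ideal.Quotient.eq_zero_iff_mem] at he
    exact he
  rw [eq_bot_iff, ← hJ, pow_two]
  exact Ideal.mul_mono h1 le_rfl

end Devissage

section Ext

variable {k A : Type u} [Field k] [CommRing A] [IsLocalRing A] [Algebra k A]

/-- `K`-linear maps out of `K ⊗_A (A ⊗_k Ω_{k/ℤ})` are determined by the values on `1 ⊗ (1 ⊗ dc)`. -/
theorem hom_ext_baseChange_kaehler {P : Type*} [AddCommGroup P] [Module (ResidueField A) P]
    (φ₁ φ₂ : ResidueField A ⊗[A] (A ⊗[k] Ω[k⁄ℤ]) →ₗ[ResidueField A] P)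
    (h : ∀ c : k, φ₁ (1 ⊗ₜ[A] (1 ⊗ₜ[k] KaehlerDifferential.D ℤ k c)) =
      φ₂ (1 ⊗ₜ[A] (1 ⊗ₜ[k] KaehlerDifferential.D ℤ k c))) : φ₁ = φ₂ := by
  have h1 : ∀ ω : Ω[k⁄ℤ], φ₁ (1 ⊗ₜ[A] (1 ⊗ₜ[k] ω)) = φ₂ (1 ⊗ₜ[A] (1 ⊗ₜ[k] ω)) := by
    intro ω
    have hω : ω ∈ Submodule.span k (Set.range (KaehlerDifferential.D ℤ k)) := by
      rw [KaehlerDifferential.span_range_derivation]; trivial
    induction hω using Submodule.span_induction with
    | mem x hx => obtain ⟨c, rfl⟩ := hx; exact h c
    | zero => simp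
    | add x y _ _ hx hy => simp only [TensorProduct.tmul_add, map_add, hx, hy]
    | smul c x _ hx =>
      have e1 : (1 : ResidueField A) ⊗ₜ[A] ((1 : A) ⊗ₜ[k] (c • x)) =
          (algebraMap k (ResidueField A) c) • ((1 : ResidueField A) ⊗ₜ[A] ((1 : A) ⊗ₜ[k] x)) := by
        rw [TensorProduct.tmul_smul, ← algebraMap_smul A c ((1 : A) ⊗ₜ[k] x),
          TensorProduct.tmul_smul, TensorProduct.smul_tmul', TensorProduct.smul_tmul',
          Algebra.smul_def, mul_one, smul_eq_mul, mul_one, ← IsScalarTower.algebraMap_apply]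
      rw [e1, map_smul, map_smul, hx]
  have h2 : ∀ y : A ⊗[k] Ω[k⁄ℤ], φ₁ (1 ⊗ₜ[A] y) = φ₂ (1 ⊗ₜ[A] y) := by
    intro y
    induction y using TensorProduct.induction_on with
    | zero => simp
    | add x y hx hy => simp only [TensorProduct.tmul_add, map_add, hx, hy]
    | tmul a ω =>
      have e1 : (1 : ResidueField A) ⊗ₜ[A] (a ⊗ₜ[k] ω) =
          (residue A a) • ((1 : ResidueField A) ⊗ₜ[A] ((1 : A) ⊗ₜ[k] ω)) := by
        have e2 : a ⊗ₜ[k] ω = a • ((1 : A) ⊗ₜ[k] ω) := by
          rw [TensorProduct.smul_tmul', smul_eq_mul, mul_one]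
        rw [e2, TensorProduct.tmul_smul, TensorProduct.smul_tmul', TensorProduct.smul_tmul',
          Algebra.smul_def, mul_one, smul_eq_mul, mul_one]
        rfl
      rw [e1, map_smul, map_smul, h1]
  ext x
  induction x using TensorProduct.induction_on with
  | zero => simp
  | add x y hx hy => simp only [map_add, hx, hy]
  | tmul κ y =>
    have e0 : κ ⊗ₜ[A] y = κ • ((1 : ResidueField A) ⊗ₜ[A] y) := by
      rw [TensorProduct.smul_tmul', smul_eq_mul, mul_one]
    rw [e0, map_smul, map_smul, h2]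

/-- **Extension of derivations.**  If `Ω_{k/ℤ} ⊗ K → Ω_{A/ℤ} ⊗ K` is injective, every additive map
`δ : k → N` satisfying the Leibniz rule, with values in an `A`-module killed by the maximal ideal,
extends to a derivation `A → N`. -/
theorem exists_derivation_extension
    (hinj : Function.Injective
      ((KaehlerDifferential.mapBaseChange ℤ k A).lTensor (ResidueField A)))
    {N : Type*} [AddCommGroup N] [Module A N] (hN : ∀ a ∈ maximalIdeal A, ∀ x : N, a • x = 0)
    (δ : k → N) (hadd : ∀ c c', δ (c + c') = δ c + δ c')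
    (hmul : ∀ c c', δ (c * c') = algebraMap k A c • δ c' + algebraMap k A c' • δ c) :
    ∃ D : Derivation ℤ A N, ∀ c, D (algebraMap k A c) = δ c := by
  classical
  letI : Module k N := Module.compHom N (algebraMap k A)
  haveI : IsScalarTower k A N := ⟨fun c a x => by
    show (c • a) • x = algebraMap k A c • (a • x)
    rw [Algebra.smul_def, mul_smul]⟩
  have htors : Module.IsTorsionBySet A N (maximalIdeal A : Set A) := by
    intro x a
    exact hN a.1 a.2 x
  letI : Module (ResidueField A) N := htors.module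
  haveI : IsScalarTower A (ResidueField A) N := ⟨fun a κ x => by
    obtain ⟨b, rfl⟩ := IsLocalRing.residue_surjective κ
    have e : a • residue A b = residue A (a * b) := by
      rw [Algebra.smul_def, map_mul]; rfl
    rw [e]
    show (a * b) • x = a • (b • x)
    rw [mul_smul]⟩
  -- the derivation `δ`
  have h1 : δ 1 = 0 := by
    have := hmul 1 1
    rw [mul_one, map_one, one_smul] at this
    exact (add_eq_left.mp this.symm)
  let δ' : Derivation ℤ k N :=
    { toLinearMap := (AddMonoidHom.mk' δ hadd).toIntLinearMap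
      map_one_eq_zero' := h1
      leibniz' := fun c c' => hmul c c' }
  let l : Ω[k⁄ℤ] →ₗ[k] N := δ'.liftKaehlerDifferential
  have hl : ∀ c, l (KaehlerDifferential.D ℤ k c) = δ c := fun c =>
    δ'.liftKaehlerDifferential_comp_D c
  let lA : A ⊗[k] Ω[k⁄ℤ] →ₗ[A] N := l.liftBaseChange A
  let lK : ResidueField A ⊗[A] (A ⊗[k] Ω[k⁄ℤ]) →ₗ[ResidueField A] N :=
    lA.liftBaseChange (ResidueField A)
  let uK := (KaehlerDifferential.mapBaseChange ℤ k A).baseChange (ResidueField A)
  have huK : LinearMap.ker uK = ⊥ := by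
    rw [LinearMap.ker_eq_bot]
    exact hinj
  obtain ⟨r, hr⟩ := LinearMap.exists_leftInverse_of_injective uK huK
  let φ' : ResidueField A ⊗[A] Ω[A⁄ℤ] →ₗ[ResidueField A] N := lK ∘ₗ r
  let D : Derivation ℤ A N :=
    ((φ'.restrictScalars A) ∘ₗ (TensorProduct.mk A (ResidueField A) Ω[A⁄ℤ] 1)).compDer
      (KaehlerDifferential.D ℤ A)
  refine ⟨D, fun c => ?_⟩
  show lK (r ((1 : ResidueField A) ⊗ₜ[A] KaehlerDifferential.D ℤ A (algebraMap k A c))) = δ c
  have e1 : (1 : ResidueField A) ⊗ₜ[A] KaehlerDifferential.D ℤ A (algebraMap k A c) =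
      uK (1 ⊗ₜ[A] (1 ⊗ₜ[k] KaehlerDifferential.D ℤ k c)) := by
    show _ = (1 : ResidueField A) ⊗ₜ[A] (KaehlerDifferential.mapBaseChange ℤ k A
      (1 ⊗ₜ[k] KaehlerDifferential.D ℤ k c))
    rw [KaehlerDifferential.mapBaseChange_tmul, one_smul, KaehlerDifferential.map_D]
  rw [e1]
  have e2 : r (uK (1 ⊗ₜ[A] (1 ⊗ₜ[k] KaehlerDifferential.D ℤ k c))) =
      1 ⊗ₜ[A] (1 ⊗ₜ[k] KaehlerDifferential.D ℤ k c) := LinearMap.congr_fun hr _
  rw [e2]
  show (1 : ResidueField A) • ((1 : A) • l (KaehlerDifferential.D ℤ k c)) = δ c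
  rw [one_smul, one_smul, hl]

/-- **Tower criterion.**  If the local `k`-algebra `A` is formally smooth over a subring `k₀` of `k`
(adic topology of the maximal ideal) and `Ω_{k/ℤ} ⊗ K → Ω_{A/ℤ} ⊗ K` is injective, then `A` is
formally smooth over `k`. -/
theorem isAdicFormallySmooth_of_tower_of_injective (k₀ : Type u) [CommRing k₀] [Algebra k₀ k]
    [Algebra k₀ A] [IsScalarTower k₀ k A]
    (h₀ : CAlgX.IsAdicFormallySmooth k₀ A (maximalIdeal A))
    (hinj : Function.Injective
      ((KaehlerDifferential.mapBaseChange ℤ k A).lTensor (ResidueField A))) :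
    CAlgX.IsAdicFormallySmooth k A (maximalIdeal A) := by
  refine isAdicFormallySmooth_of_torsion _ ?_
  intro E _ _ J hJ ψ hψ htor
  letI : Algebra k₀ E := Algebra.compHom E (algebraMap k₀ k)
  haveI : IsScalarTower k₀ k E := IsScalarTower.of_algebraMap_eq (fun x => rfl)
  let ψ₀ : A →ₐ[k₀] E ⧸ J := ψ.restrictScalars k₀
  obtain ⟨χ₀, hχ₀⟩ := h₀ E J hJ ψ₀ hψ
  have hχ₀' : ∀ a, Ideal.Quotient.mk J (χ₀ a) = ψ a := fun a => DFunLike.congr_fun hχ₀ a
  have hsq : ∀ x ∈ J, ∀ y ∈ J, x * y = 0 := by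
    intro x hx y hy
    have : x * y ∈ J ^ 2 := by rw [pow_two]; exact Ideal.mul_mem_mul hx hy
    rwa [hJ, Ideal.mem_bot] at this
  letI : Algebra A E := (χ₀ : A →+* E).toAlgebra
  have hsmul : ∀ (a : A) (x : J), ((a • x : J) : E) = χ₀ a * x := fun a x => rfl
  have hN : ∀ a ∈ maximalIdeal A, ∀ x : J, a • x = 0 := by
    intro a ha x
    apply Subtype.ext
    rw [hsmul]
    exact htor a ha (χ₀ a) (hχ₀' a) x x.2
  have hδmem : ∀ c : k, algebraMap k E c - χ₀ (algebraMap k A c) ∈ J := by
    intro c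
    rw [← Ideal.Quotient.eq, hχ₀', AlgHom.commutes]
    rfl
  let δ : k → J := fun c => ⟨algebraMap k E c - χ₀ (algebraMap k A c), hδmem c⟩
  have hadd : ∀ c c', δ (c + c') = δ c + δ c' := by
    intro c c'
    apply Subtype.ext
    show algebraMap k E (c + c') - χ₀ (algebraMap k A (c + c')) =
      (algebraMap k E c - χ₀ (algebraMap k A c)) + (algebraMap k E c' - χ₀ (algebraMap k A c'))
    rw [map_add, map_add, map_add]
    ring
  have hmul : ∀ c c', δ (c * c') = algebraMap k A c • δ c' + algebraMap k A c' • δ c := by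
    intro c c'
    apply Subtype.ext
    show algebraMap k E (c * c') - χ₀ (algebraMap k A (c * c')) =
      χ₀ (algebraMap k A c) * (algebraMap k E c' - χ₀ (algebraMap k A c')) +
      χ₀ (algebraMap k A c') * (algebraMap k E c - χ₀ (algebraMap k A c))
    have h0 := hsq _ (hδmem c) _ (hδmem c')
    rw [map_mul, map_mul, map_mul]
    linear_combination h0
  obtain ⟨D, hD⟩ := exists_derivation_extension hinj hN δ hadd hmul
  let χ : A →ₐ[k] E :=
    { toFun := fun a => χ₀ a + (D a : E)
      map_one' := by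
        show χ₀ 1 + ((D 1 : J) : E) = 1
        rw [map_one, Derivation.map_one_eq_zero]
        simp
      map_mul' := by
        intro a b
        show χ₀ (a * b) + ((D (a * b) : J) : E) = (χ₀ a + (D a : E)) * (χ₀ b + (D b : E))
        rw [Derivation.leibniz, map_mul]
        have h0 := hsq _ (D a).2 _ (D b).2
        show χ₀ a * χ₀ b + (χ₀ a * (D b : E) + χ₀ b * (D a : E)) = _
        linear_combination -h0
      map_zero' := by
        show χ₀ 0 + ((D 0 : J) : E) = 0
        rw [map_zero, map_zero]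
        simp
      map_add' := by
        intro a b
        show χ₀ (a + b) + ((D (a + b) : J) : E) = (χ₀ a + (D a : E)) + (χ₀ b + (D b : E))
        rw [map_add, map_add]
        push_cast
        ring
      commutes' := by
        intro c
        show χ₀ (algebraMap k A c) + ((D (algebraMap k A c) : J) : E) = algebraMap k E c
        rw [hD c]
        show χ₀ (algebraMap k A c) + (algebraMap k E c - χ₀ (algebraMap k A c)) = _
        ring }
  refine ⟨χ, ?_⟩
  ext a
  show Ideal.Quotient.mk J (χ₀ a + (D a : E)) = ψ a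
  rw [map_add, hχ₀', Ideal.Quotient.eq_zero_iff_mem.mpr (D a).2, add_zero]

end Ext

/-- Dual numbers over `K` as a bare commutative ring (a synonym of `TrivSqZeroExt K K` carrying no
algebra structure, so that a twisted one can be installed). -/
def DualNum (K : Type u) [CommRing K] : Type u := TrivSqZeroExt K K

noncomputable instance (K : Type u) [CommRing K] : CommRing (DualNum K) :=
  inferInstanceAs (CommRing (TrivSqZeroExt K K))

namespace DualNum

variable {K : Type u} [CommRing K]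

/-- first projection -/
def fst : DualNum K →+* K := (TrivSqZeroExt.fstHom K K K).toRingHom

/-- second projection -/
def snd (x : DualNum K) : K := TrivSqZeroExt.snd (show TrivSqZeroExt K K from x)

/-- the inclusion of `K` -/
def inl : K →+* DualNum K := TrivSqZeroExt.inlHom K K

/-- constructor -/
def mk (a b : K) : DualNum K := (TrivSqZeroExt.inl a + TrivSqZeroExt.inr b : TrivSqZeroExt K K)

theorem ext' {x y : DualNum K} (h1 : fst x = fst y) (h2 : snd x = snd y) : x = y :=
  TrivSqZeroExt.ext h1 h2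

@[simp] theorem fst_mk (a b : K) : fst (mk a b) = a := by
  show TrivSqZeroExt.fst (TrivSqZeroExt.inl a + TrivSqZeroExt.inr b : TrivSqZeroExt K K) = a
  simp

@[simp] theorem snd_mk (a b : K) : snd (mk a b) = b := by
  show TrivSqZeroExt.snd (TrivSqZeroExt.inl a + TrivSqZeroExt.inr b : TrivSqZeroExt K K) = b
  simp

@[simp] theorem fst_inl (a : K) : fst (inl a) = a := rfl

@[simp] theorem snd_inl (a : K) : snd (inl a) = 0 := rfl

theorem snd_zero : snd (0 : DualNum K) = 0 := rfl

theorem snd_one : snd (1 : DualNum K) = 0 := rfl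

theorem snd_add (x y : DualNum K) : snd (x + y) = snd x + snd y := rfl

theorem snd_mul (x y : DualNum K) : snd (x * y) = fst x * snd y + fst y * snd x := by
  have h := TrivSqZeroExt.snd_mul (show TrivSqZeroExt K K from x) (show TrivSqZeroExt K K from y)
  simp only [smul_eq_mul, MulOpposite.smul_eq_mul_unop, MulOpposite.unop_op] at h
  rw [mul_comm (TrivSqZeroExt.snd _)] at h
  exact h

end DualNum

section Conv

variable {k A : Type u} [Field k] [CommRing A] [IsLocalRing A] [Algebra k A]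

/-- If `A` is formally smooth over `k` for the adic topology of the maximal ideal then
`Ω_{k/ℤ} ⊗ K → Ω_{A/ℤ} ⊗ K` is injective (every derivation `k → K` extends to `A`). -/
theorem injective_of_isAdicFormallySmooth
    (h : CAlgX.IsAdicFormallySmooth k A (maximalIdeal A)) :
    Function.Injective
      ((KaehlerDifferential.mapBaseChange ℤ k A).lTensor (ResidueField A)) := by
  classical
  let uK := (KaehlerDifferential.mapBaseChange ℤ k A).baseChange (ResidueField A)
  have key : ∀ φ : ResidueField A ⊗[A] (A ⊗[k] Ω[k⁄ℤ]) →ₗ[ResidueField A] ResidueField A,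
      ∃ φ' : ResidueField A ⊗[A] Ω[A⁄ℤ] →ₗ[ResidueField A] ResidueField A, φ' ∘ₗ uK = φ := by
    intro φ
    let ι : Ω[k⁄ℤ] →ₗ[k] ResidueField A ⊗[A] (A ⊗[k] Ω[k⁄ℤ]) :=
      ((TensorProduct.mk A (ResidueField A) (A ⊗[k] Ω[k⁄ℤ]) 1).restrictScalars k) ∘ₗ
        (TensorProduct.mk k A Ω[k⁄ℤ] 1)
    let D₀ : Derivation ℤ k (ResidueField A) :=
      ((φ.restrictScalars k) ∘ₗ ι).compDer (KaehlerDifferential.D ℤ k)
    have hD₀ : ∀ c, D₀ c = φ (1 ⊗ₜ[A] (1 ⊗ₜ[k] KaehlerDifferential.D ℤ k c)) := fun c => rfl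
    let f : k →+* DualNum (ResidueField A) :=
      { toFun := fun c => DualNum.mk (algebraMap k (ResidueField A) c) (D₀ c)
        map_one' := by
          apply DualNum.ext'
          · rw [DualNum.fst_mk, map_one, map_one]
          · rw [DualNum.snd_mk, Derivation.map_one_eq_zero, DualNum.snd_one]
        map_mul' := by
          intro c c'
          apply DualNum.ext'
          · rw [DualNum.fst_mk, map_mul DualNum.fst, DualNum.fst_mk, DualNum.fst_mk, map_mul]
          · rw [DualNum.snd_mul, DualNum.snd_mk, DualNum.snd_mk, DualNum.snd_mk, DualNum.fst_mk,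
              DualNum.fst_mk, Derivation.leibniz, Algebra.smul_def, Algebra.smul_def]
        map_zero' := by
          apply DualNum.ext'
          · rw [DualNum.fst_mk, map_zero, map_zero]
          · rw [DualNum.snd_mk, map_zero, DualNum.snd_zero]
        map_add' := by
          intro c c'
          apply DualNum.ext'
          · rw [DualNum.fst_mk, map_add DualNum.fst, DualNum.fst_mk, DualNum.fst_mk, map_add]
          · rw [DualNum.snd_add, DualNum.snd_mk, DualNum.snd_mk, DualNum.snd_mk, map_add] }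
    have hf : ∀ c, f c = DualNum.mk (algebraMap k (ResidueField A) c) (D₀ c) := fun c => rfl
    letI alg : Algebra k (DualNum (ResidueField A)) := f.toAlgebra
    let J : Ideal (DualNum (ResidueField A)) := RingHom.ker (DualNum.fst (K := ResidueField A))
    have hJ : J ^ 2 = ⊥ := by
      rw [eq_bot_iff, pow_two, Ideal.mul_le]
      intro x hx y hy
      rw [Ideal.mem_bot]
      have hx' : DualNum.fst x = 0 := hx
      have hy' : DualNum.fst y = 0 := hy
      apply DualNum.ext'
      · rw [map_mul, hx', zero_mul, map_zero]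
      · rw [DualNum.snd_mul, hx', hy', zero_mul, zero_mul, add_zero, DualNum.snd_zero]
    let ψ : A →ₐ[k] DualNum (ResidueField A) ⧸ J :=
      { toRingHom := (Ideal.Quotient.mk J).comp (DualNum.inl.comp (residue A))
        commutes' := by
          intro c
          show Ideal.Quotient.mk J (DualNum.inl (residue A (algebraMap k A c))) =
            Ideal.Quotient.mk J (f c)
          rw [Ideal.Quotient.eq]
          show DualNum.fst (DualNum.inl (residue A (algebraMap k A c)) - f c) = 0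
          rw [map_sub, DualNum.fst_inl, hf, DualNum.fst_mk,
            IsScalarTower.algebraMap_apply k A (ResidueField A), ResidueField.algebraMap_eq,
            sub_self] }
    have hψ : ∃ ν : ℕ, ∀ x ∈ maximalIdeal A ^ ν, ψ x = 0 := by
      refine ⟨1, fun x hx => ?_⟩
      rw [pow_one] at hx
      show Ideal.Quotient.mk J (DualNum.inl (residue A x)) = 0
      rw [(residue_eq_zero_iff x).mpr hx, map_zero, map_zero]
    obtain ⟨χ, hχ⟩ := h (DualNum (ResidueField A)) J hJ ψ hψ
    have hfst : ∀ a, DualNum.fst (χ a) = residue A a := by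
      intro a
      have h1 := DFunLike.congr_fun hχ a
      change Ideal.Quotient.mk J (χ a) = Ideal.Quotient.mk J (DualNum.inl (residue A a)) at h1
      rw [Ideal.Quotient.eq] at h1
      have h2 : DualNum.fst (χ a - DualNum.inl (residue A a)) = 0 := h1
      rw [map_sub, DualNum.fst_inl, sub_eq_zero] at h2
      exact h2
    let D : Derivation ℤ A (ResidueField A) :=
      { toLinearMap := (AddMonoidHom.mk' (fun a => DualNum.snd (χ a))
          (fun a b => by rw [map_add, DualNum.snd_add])).toIntLinearMap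
        map_one_eq_zero' := by
          show DualNum.snd (χ 1) = 0
          rw [map_one, DualNum.snd_one]
        leibniz' := by
          intro a b
          show DualNum.snd (χ (a * b)) = a • DualNum.snd (χ b) + b • DualNum.snd (χ a)
          rw [map_mul, DualNum.snd_mul, hfst, hfst, Algebra.smul_def, Algebra.smul_def,
            ResidueField.algebraMap_eq] }
    have hD : ∀ c, D (algebraMap k A c) = D₀ c := by
      intro c
      show DualNum.snd (χ (algebraMap k A c)) = D₀ c
      rw [AlgHom.commutes]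
      show DualNum.snd (f c) = D₀ c
      rw [hf, DualNum.snd_mk]
    refine ⟨D.liftKaehlerDifferential.liftBaseChange (ResidueField A), ?_⟩
    apply hom_ext_baseChange_kaehler
    intro c
    show D.liftKaehlerDifferential.liftBaseChange (ResidueField A)
      ((1 : ResidueField A) ⊗ₜ[A] (KaehlerDifferential.mapBaseChange ℤ k A
        (1 ⊗ₜ[k] KaehlerDifferential.D ℤ k c))) = _
    rw [KaehlerDifferential.mapBaseChange_tmul, one_smul, KaehlerDifferential.map_D,
      LinearMap.liftBaseChange_tmul, one_smul, Derivation.liftKaehlerDifferential_comp_D, hD, hD₀]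
  rw [injective_iff_map_eq_zero]
  intro x hx
  rw [← Module.forall_dual_apply_eq_zero_iff (ResidueField A) x]
  intro φ
  obtain ⟨φ', rfl⟩ := key φ
  show φ' (uK x) = 0
  have : uK x = 0 := hx
  rw [this, map_zero]

end Conv

end Groth.Agent.Lib.Helper96
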