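import Mathlib
import Groth.Agent.Lib.Helper96.SmoothRegular2
import Groth.Agent.Lib.Helper96.SmoothTower

/-!
# Formal smoothness of a Noetherian local algebra over an arbitrary field (helper96)

EGA 0_IV 22.5.8: `A` is formally smooth over the field `k` (adic topology of the maximal ideal) iff
`A` is regular and `Ω_{k/ℤ} ⊗_k K → Ω_{A/ℤ} ⊗_A K` is injective.
-/

set_option autoImplicit false

universe u

namespace Groth.Agent.Lib.Helper96

open IsLocalRing

/-- A regular Noetherian local ring containing a field `k` is formally smooth over the prime field
of `k` for the adic topology of its maximal ideal. -/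
theorem isAdicFormallySmooth_primeField_of_regular {k A : Type u} [Field k] [CommRing A]
    [IsLocalRing A] [IsNoetherianRing A] [Algebra k A] (hreg : IsRegularLocalRing A) :
    CAlgX.IsAdicFormallySmooth (⊥ : Subfield k) A (maximalIdeal A) := by
  have key : Algebra.FormallySmooth (⊥ : Subfield k) (ResidueField A) := by
    obtain ⟨p, hp⟩ := CharP.exists k
    rcases CharP.char_is_prime_or_zero k p with hp' | rfl
    · haveI : Fact p.Prime := ⟨hp'⟩
      haveI : CharP (⊥ : Subfield k) p :=
        (RingHom.charP_iff _ (algebraMap (⊥ : Subfield k) k).injective p).mpr inferInstance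
      haveI : Fintype (⊥ : Subfield k) := Subfield.fintypeBot k p
      haveI : PerfectRing (⊥ : Subfield k) p := PerfectRing.ofFiniteOfIsReduced p _
      haveI : CharP (ResidueField A) p :=
        charP_of_injective_algebraMap (algebraMap k (ResidueField A)).injective p
      exact formallySmooth_of_perfectRing_charP p
    · haveI : CharZero k := CharP.charP_to_charZero k
      haveI : CharZero (⊥ : Subfield k) :=
        (RingHom.charZero_iff (algebraMap (⊥ : Subfield k) k).injective).mpr inferInstance
      exact formallySmooth_of_charZero
  haveI : Algebra.IsGeometricallyReduced (⊥ : Subfield k) (ResidueField A) :=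
    Groth.Agent.S2451.result.mp key
  have tfae := Groth.Agent.S2453.result (k := (⊥ : Subfield k)) (A := A)
  exact (tfae.out 3 0).mp hreg

/-- **EGA 0_IV 22.5.8.** -/
theorem isAdicFormallySmooth_iff_regular_and_injective {k A : Type u} [Field k] [CommRing A]
    [IsLocalRing A] [IsNoetherianRing A] [Algebra k A] :
    CAlgX.IsAdicFormallySmooth k A (maximalIdeal A) ↔
      (IsRegularLocalRing A ∧ Function.Injective
        ((KaehlerDifferential.mapBaseChange ℤ k A).lTensor (ResidueField A))) := by
  constructor
  · intro h
    exact ⟨(isRegular_and_completion_of_adicFormallySmooth h).1,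
      injective_of_isAdicFormallySmooth h⟩
  · rintro ⟨hreg, hinj⟩
    exact isAdicFormallySmooth_of_tower_of_injective (⊥ : Subfield k)
      (isAdicFormallySmooth_primeField_of_regular hreg) hinj

end Groth.Agent.Lib.Helper96
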