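import Mathlib
import Groth.Agent.Lib.Helper96.SmoothField

/-!
# Formal smoothness over a field from regularity of inseparable base changes (helper96)

EGA 0_IV 22.5.8 / IV 6.7.7: a Noetherian local `k`-algebra `A` is formally smooth over `k` (adic
topology) as soon as `k' ⊗_k A` is regular for every finite extension `k'` of `k` with `k'^p ⊆ k`.
-/

set_option autoImplicit false

universe u

namespace Groth.Agent.Lib.Helper96

open IsLocalRing TensorProduct

section TwDual

variable {k K : Type u} [Field k] [Field K] [Algebra k K]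

/-- Dual numbers `K[ε]` with the `k`-algebra structure `c ↦ c + D₀(c) ε` twisted by a derivation. -/
def TwDual (_D₀ : Derivation ℤ k K) : Type u := DualNum K

variable (D₀ : Derivation ℤ k K)

noncomputable instance : CommRing (TwDual D₀) := inferInstanceAs (CommRing (DualNum K))

namespace TwDual

/-- first projection -/
noncomputable def fst : TwDual D₀ →+* K := DualNum.fst

/-- second projection -/
noncomputable def snd (x : TwDual D₀) : K := DualNum.snd (K := K) x

/-- constructor -/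
noncomputable def mk (a b : K) : TwDual D₀ := DualNum.mk a b

/-- the (untwisted) inclusion of `K` -/
noncomputable def inl : K →+* TwDual D₀ := DualNum.inl

theorem ext' {x y : TwDual D₀} (h1 : fst D₀ x = fst D₀ y) (h2 : snd D₀ x = snd D₀ y) : x = y :=
  DualNum.ext' (K := K) h1 h2

@[simp] theorem fst_mk (a b : K) : fst D₀ (mk D₀ a b) = a := DualNum.fst_mk a b

@[simp] theorem snd_mk (a b : K) : snd D₀ (mk D₀ a b) = b := DualNum.snd_mk a b

@[simp] theorem fst_inl (a : K) : fst D₀ (inl D₀ a) = a := rfl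

@[simp] theorem snd_inl (a : K) : snd D₀ (inl D₀ a) = 0 := rfl

theorem snd_zero : snd D₀ (0 : TwDual D₀) = 0 := rfl

theorem snd_one : snd D₀ (1 : TwDual D₀) = 0 := rfl

theorem snd_add (x y : TwDual D₀) : snd D₀ (x + y) = snd D₀ x + snd D₀ y := rfl

theorem snd_mul (x y : TwDual D₀) :
    snd D₀ (x * y) = fst D₀ x * snd D₀ y + fst D₀ y * snd D₀ x :=
  DualNum.snd_mul (K := K) x y

/-- the twisted structure map -/
noncomputable def structureMap : k →+* TwDual D₀ where
  toFun := fun c => mk D₀ (algebraMap k K c) (D₀ c)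
  map_one' := by
    apply ext'
    · rw [fst_mk, map_one, map_one]
    · rw [snd_mk, Derivation.map_one_eq_zero, snd_one]
  map_mul' := by
    intro c c'
    apply ext'
    · rw [fst_mk, map_mul (fst D₀), fst_mk, fst_mk, map_mul]
    · rw [snd_mul, snd_mk, snd_mk, snd_mk, fst_mk, fst_mk, Derivation.leibniz, Algebra.smul_def,
        Algebra.smul_def]
  map_zero' := by
    apply ext'
    · rw [fst_mk, map_zero, map_zero]
    · rw [snd_mk, map_zero, snd_zero]
  map_add' := by
    intro c c'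
    apply ext'
    · rw [fst_mk, map_add (fst D₀), fst_mk, fst_mk, map_add]
    · rw [snd_add, snd_mk, snd_mk, snd_mk, map_add]

noncomputable instance : Algebra k (TwDual D₀) := (structureMap D₀).toAlgebra

theorem algebraMap_apply (c : k) :
    algebraMap k (TwDual D₀) c = mk D₀ (algebraMap k K c) (D₀ c) := rfl

/-- first projection, a `k`-algebra map -/
noncomputable def fstₐ : TwDual D₀ →ₐ[k] K :=
  { fst D₀ with
    commutes' := fun c => fst_mk D₀ _ _ }

theorem fstₐ_apply (x : TwDual D₀) : fstₐ D₀ x = fst D₀ x := rfl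

theorem fstₐ_surjective : Function.Surjective (fstₐ D₀) := fun κ => ⟨inl D₀ κ, rfl⟩

/-- `x ↦ x ε` -/
noncomputable def inr (x : K) : TwDual D₀ := mk D₀ 0 x

theorem fstₐ_inl (κ : K) : fstₐ D₀ (inl D₀ κ) = κ := rfl

theorem algebraMap_eq (c : k) :
    algebraMap k (TwDual D₀) c = inl D₀ (algebraMap k K c) + inr D₀ (D₀ c) := by
  apply ext'
  · rw [algebraMap_apply, fst_mk, map_add (fst D₀), fst_inl, inr, fst_mk, add_zero]
  · rw [algebraMap_apply, snd_mk, snd_add, snd_inl, inr, snd_mk, zero_add]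

theorem inl_mul_inr (κ x : K) : inl D₀ κ * inr D₀ x = inr D₀ (κ * x) := by
  apply ext'
  · rw [map_mul (fst D₀), inr, inr, fst_mk, fst_mk, mul_zero]
  · rw [snd_mul, inr, inr, fst_inl, snd_mk, fst_mk, snd_mk, zero_mul, add_zero]

theorem inr_add (x y : K) : inr D₀ (x + y) = inr D₀ x + inr D₀ y := by
  apply ext'
  · rw [map_add (fst D₀), inr, inr, inr, fst_mk, fst_mk, fst_mk, add_zero]
  · rw [snd_add, inr, inr, inr, snd_mk, snd_mk, snd_mk]

theorem inr_zero : inr D₀ (0 : K) = 0 := by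
  apply ext'
  · rw [inr, fst_mk, map_zero]
  · rw [inr, snd_mk, snd_zero]

theorem inr_injective : Function.Injective (inr D₀) := by
  intro x y h
  have := congrArg (snd D₀) h
  rwa [inr, inr, snd_mk, snd_mk] at this

theorem ker_fstₐ_sq : RingHom.ker (fstₐ D₀) ^ 2 = ⊥ := by
  rw [eq_bot_iff, pow_two, Ideal.mul_le]
  intro x hx y hy
  rw [Ideal.mem_bot]
  have hx' : fst D₀ x = 0 := hx
  have hy' : fst D₀ y = 0 := hy
  apply ext'
  · rw [map_mul, hx', zero_mul, map_zero]
  · rw [snd_mul, hx', hy', zero_mul, zero_mul, add_zero, snd_zero]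

end TwDual

end TwDual

/-- A regular Noetherian local ring containing a field has the ring-theoretic infinitesimal lifting
property against square-zero extensions of algebras over that field. -/
theorem exists_ringHom_lift_of_regular {k' C : Type u} [Field k'] [CommRing C] [IsLocalRing C]
    [IsNoetherianRing C] [Algebra k' C] (hreg : IsRegularLocalRing C)
    {E : Type u} [CommRing E] [Algebra k' E] (J : Ideal E) (hJ : J ^ 2 = ⊥) (ψ : C →ₐ[k'] E ⧸ J)
    (hψ : ∃ N : ℕ, ∀ x ∈ maximalIdeal C ^ N, ψ x = 0) :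
    ∃ χ : C →+* E, ∀ x, Ideal.Quotient.mk J (χ x) = ψ x := by
  have h₀ := isAdicFormallySmooth_primeField_of_regular (k := k') hreg
  obtain ⟨χ, hχ⟩ := h₀ E J hJ (ψ.restrictScalars (⊥ : Subfield k')) hψ
  exact ⟨χ, fun x => DFunLike.congr_fun hχ x⟩

section PthPower

variable {k k' K : Type u} [Field k] [Field k'] [Field K] [Algebra k k'] [Algebra k K]
  (p : ℕ) [Fact p.Prime] [CharP k p]

theorem nontrivial_tensor_field : Nontrivial (k' ⊗[k] K) :=
  Algebra.TensorProduct.nontrivial_of_algebraMap_injective_of_flat_left (R := k) k' K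
    (algebraMap k K).injective

include p in
theorem charP_tensor_of_nontrivial (R : Type u) [CommRing R] [Algebra k R] [Nontrivial R] :
    CharP R p :=
  charP_of_injective_algebraMap (algebraMap k R).injective p

/-- If `k'^p ⊆ k` then every `p`-th power in `k' ⊗_k K` comes from `K`. -/
theorem exists_pow_eq_one_tmul (hk' : ∀ x : k', x ^ p ∈ (algebraMap k k').range)
    (z : k' ⊗[k] K) : ∃ y : K, z ^ p = 1 ⊗ₜ[k] y := by
  haveI : Nontrivial (k' ⊗[k] K) := nontrivial_tensor_field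
  haveI : CharP (k' ⊗[k] K) p := charP_tensor_of_nontrivial (k := k) p _
  induction z using TensorProduct.induction_on with
  | zero =>
    exact ⟨0, by rw [zero_pow (Fact.out : p.Prime).ne_zero, TensorProduct.tmul_zero]⟩
  | tmul x κ =>
    obtain ⟨y, hy⟩ := hk' x
    refine ⟨y • κ ^ p, ?_⟩
    rw [Algebra.TensorProduct.tmul_pow, ← hy, Algebra.algebraMap_eq_smul_one,
      TensorProduct.smul_tmul]
  | add z₁ z₂ h₁ h₂ =>
    obtain ⟨y₁, h₁⟩ := h₁
    obtain ⟨y₂, h₂⟩ := h₂
    exact ⟨y₁ + y₂, by rw [add_pow_char, h₁, h₂, TensorProduct.tmul_add]⟩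

/-- If `k'^p ⊆ k` then `k' ⊗_k K` is a local ring. -/
theorem isLocalRing_tensor_field (hk' : ∀ x : k', x ^ p ∈ (algebraMap k k').range) :
    IsLocalRing (k' ⊗[k] K) := by
  haveI : Nontrivial (k' ⊗[k] K) := nontrivial_tensor_field
  refine IsLocalRing.of_isUnit_or_isUnit_one_sub_self fun z => ?_
  obtain ⟨y, hy⟩ := exists_pow_eq_one_tmul p hk' z
  by_cases h : y = 0
  · right
    have hz : IsNilpotent z := ⟨p, by rw [hy, h, TensorProduct.tmul_zero]⟩
    exact hz.isUnit_one_sub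
  · left
    have hu : IsUnit (z ^ p) := by
      rw [hy]
      exact (IsUnit.mk0 y h).map (Algebra.TensorProduct.includeRight : K →ₐ[k] k' ⊗[k] K)
    exact (isUnit_pow_iff (Fact.out : p.Prime).ne_zero).mp hu

/-- For `k'` finite over `k`, the maximal ideal of the local ring `k' ⊗_k K` is nilpotent. -/
theorem isNilpotent_maximalIdeal_tensor_field [Module.Finite k k'] [IsLocalRing (k' ⊗[k] K)] :
    ∃ N : ℕ, maximalIdeal (k' ⊗[k] K) ^ N = ⊥ := by
  haveI : IsArtinianRing (K ⊗[k] k') := IsArtinianRing.of_finite K _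
  haveI : IsArtinianRing (k' ⊗[k] K) :=
    (Algebra.TensorProduct.comm k K k').surjective.isArtinianRing
  exact (isArtinianRing_iff_isNilpotent_maximalIdeal (k' ⊗[k] K)).mp inferInstance

end PthPower

section Main

variable {k A : Type u} [Field k] [CommRing A] [IsLocalRing A] [Algebra k A]
  (k' : Type u) [Field k'] [Algebra k k']
  (D₀ : Derivation ℤ k (ResidueField A))

/-- the projection `k' ⊗ K[ε] → k' ⊗ K` -/
noncomputable def piE : k' ⊗[k] TwDual D₀ →ₐ[k'] k' ⊗[k] ResidueField A :=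
  Algebra.TensorProduct.map (AlgHom.id k' k') (TwDual.fstₐ D₀)

/-- the reduction `k' ⊗ A → k' ⊗ K` -/
noncomputable def gB : k' ⊗[k] A →ₐ[k'] k' ⊗[k] ResidueField A :=
  Algebra.TensorProduct.map (AlgHom.id k' k') (IsScalarTower.toAlgHom k A (ResidueField A))

/-- the trivial lift `A → K → K[ε] → k' ⊗ K[ε]` -/
noncomputable def phi0 : A →+* k' ⊗[k] TwDual D₀ :=
  (Algebra.TensorProduct.includeRight : TwDual D₀ →ₐ[k] k' ⊗[k] TwDual D₀).toRingHom.comp
    ((TwDual.inl D₀).comp (residue A))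

theorem phi0_apply (a : A) : phi0 k' D₀ a = 1 ⊗ₜ[k] TwDual.inl D₀ (residue A a) := rfl

theorem piE_tmul (x : k') (y : TwDual D₀) : piE k' D₀ (x ⊗ₜ[k] y) = x ⊗ₜ[k] TwDual.fst D₀ y := rfl

theorem gB_tmul (x : k') (a : A) : gB (k := k) k' (x ⊗ₜ[k] a) = x ⊗ₜ[k] residue A a := rfl

theorem piE_surjective : Function.Surjective (piE k' D₀) := by
  intro z
  induction z using TensorProduct.induction_on with
  | zero => exact ⟨0, map_zero _⟩
  | tmul x κ => exact ⟨x ⊗ₜ[k] TwDual.inl D₀ κ, rfl⟩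
  | add z₁ z₂ h₁ h₂ =>
    obtain ⟨y₁, rfl⟩ := h₁
    obtain ⟨y₂, rfl⟩ := h₂
    exact ⟨y₁ + y₂, map_add _ _ _⟩

theorem ker_piE_sq : RingHom.ker (piE k' D₀) ^ 2 = ⊥ := by
  have h1 : RingHom.ker (piE k' D₀) = (RingHom.ker (TwDual.fstₐ D₀)).map
      (Algebra.TensorProduct.includeRight : TwDual D₀ →ₐ[k] k' ⊗[k] TwDual D₀) := by
    rw [← Algebra.TensorProduct.lTensor_ker (A := k') (TwDual.fstₐ D₀) (TwDual.fstₐ_surjective D₀)]
    rfl
  rw [h1, ← Ideal.map_pow, TwDual.ker_fstₐ_sq, Ideal.map_bot]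

theorem piE_phi0 (a : A) : piE k' D₀ (phi0 k' D₀ a) = gB k' (1 ⊗ₜ[k] a) := rfl

variable (p : ℕ) [Fact p.Prime] [CharP k p]

/-- **Lifting.** If `k' ⊗_k A` is a regular ring (`k'` finite over `k` with `k'^p ⊆ k`) then the
reduction `k' ⊗ A → k' ⊗ K` lifts to a ring homomorphism `k' ⊗ A → k' ⊗ K[ε]` (twisted). -/
theorem exists_lift_tensor [Module.Finite k k']
    (hk' : ∀ x : k', x ^ p ∈ (algebraMap k k').range) (hreg : IsRegularRing (k' ⊗[k] A)) :
    ∃ χ' : k' ⊗[k] A →+* k' ⊗[k] TwDual D₀, ∀ b, piE k' D₀ (χ' b) = gB k' b := by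
  haveI : IsLocalRing (k' ⊗[k] ResidueField A) := isLocalRing_tensor_field p hk'
  let 𝔫 : Ideal (k' ⊗[k] A) :=
    (maximalIdeal (k' ⊗[k] ResidueField A)).comap (gB (k := k) (A := A) k')
  haveI : 𝔫.IsPrime := Ideal.comap_isPrime _ _
  haveI hC : IsRegularLocalRing (Localization.AtPrime 𝔫) :=
    IsRegularRing.isRegularLocalRing_localization 𝔫
  have hunit : ∀ y : 𝔫.primeCompl, IsUnit (gB (k := k) (A := A) k' (y : k' ⊗[k] A)) := fun y => by
    have h1 : gB (k := k) (A := A) k' (y : k' ⊗[k] A) ∉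
        maximalIdeal (k' ⊗[k] ResidueField A) := y.2
    exact IsLocalRing.notMem_maximalIdeal.mp h1
  let ψ₀ : Localization.AtPrime 𝔫 →ₐ[k'] k' ⊗[k] ResidueField A :=
    IsLocalization.liftAlgHom (M := 𝔫.primeCompl) (f := gB (k := k) (A := A) k') hunit
  have hψ₀ : ∀ b, ψ₀ (algebraMap _ _ b) = gB (k := k) (A := A) k' b := fun b =>
    IsLocalization.lift_eq _ b
  let e : ((k' ⊗[k] TwDual D₀) ⧸ RingHom.ker (piE k' D₀)) ≃ₐ[k'] k' ⊗[k] ResidueField A :=
    Ideal.quotientKerAlgEquivOfSurjective (piE_surjective k' D₀)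
  have he : ∀ x, e (Ideal.Quotient.mk _ x) = piE k' D₀ x := fun x => rfl
  let ψ : Localization.AtPrime 𝔫 →ₐ[k'] (k' ⊗[k] TwDual D₀) ⧸ RingHom.ker (piE k' D₀) :=
    e.symm.toAlgHom.comp ψ₀
  obtain ⟨N, hN⟩ := isNilpotent_maximalIdeal_tensor_field (k := k) (k' := k')
    (K := ResidueField A)
  have hψ : ∃ N : ℕ, ∀ x ∈ maximalIdeal (Localization.AtPrime 𝔫) ^ N, ψ x = 0 := by
    refine ⟨N, fun x hx => ?_⟩
    have h1 : maximalIdeal (Localization.AtPrime 𝔫) ≤
        (maximalIdeal (k' ⊗[k] ResidueField A)).comap ψ₀ := by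
      rw [← Localization.AtPrime.map_eq_maximalIdeal, Ideal.map_le_iff_le_comap]
      intro b hb
      rw [Ideal.mem_comap, Ideal.mem_comap, hψ₀]
      exact hb
    have h2 : x ∈ (maximalIdeal (k' ⊗[k] ResidueField A) ^ N).comap ψ₀ :=
      (Ideal.le_comap_pow _ N) (Ideal.pow_right_mono h1 N hx)
    rw [hN, Ideal.mem_comap, Ideal.mem_bot] at h2
    show e.symm (ψ₀ x) = 0
    rw [h2, map_zero]
  obtain ⟨χ, hχ⟩ := exists_ringHom_lift_of_regular (k' := k') hC _ (ker_piE_sq k' D₀) ψ hψ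
  refine ⟨χ.comp (algebraMap _ (Localization.AtPrime 𝔫)), fun b => ?_⟩
  show piE k' D₀ (χ (algebraMap _ _ b)) = _
  rw [← he, hχ]
  show e (e.symm (ψ₀ (algebraMap _ _ b))) = _
  rw [AlgEquiv.apply_symm_apply, hψ₀]

theorem nontrivial_tensor_twDual : Nontrivial (k' ⊗[k] TwDual D₀) := by
  haveI : Nontrivial (TwDual D₀) := (TwDual.fstₐ_surjective D₀).nontrivial
  exact Algebra.TensorProduct.nontrivial_of_algebraMap_injective_of_flat_left (R := k) k'
    (TwDual D₀) (algebraMap k (TwDual D₀)).injective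

include p in
/-- The value of a lift on an element of `k` having a `p`-th root in `k'`. -/
theorem lift_sub_eq (χ' : k' ⊗[k] A →+* k' ⊗[k] TwDual D₀)
    (hχ' : ∀ b, piE k' D₀ (χ' b) = gB k' b) (c : k) (γ : k') (hγ : γ ^ p = algebraMap k k' c) :
    χ' (1 ⊗ₜ[k] algebraMap k A c) - phi0 k' D₀ (algebraMap k A c) =
      1 ⊗ₜ[k] TwDual.inr D₀ (D₀ c) := by
  haveI : Nontrivial (k' ⊗[k] TwDual D₀) := nontrivial_tensor_twDual k' D₀
  haveI : CharP (k' ⊗[k] TwDual D₀) p := charP_tensor_of_nontrivial (k := k) p _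
  have hp2 : 2 ≤ p := (Fact.out : p.Prime).two_le
  have h1 : (1 : k') ⊗ₜ[k] algebraMap k A c = (γ ⊗ₜ[k] (1 : A)) ^ p := by
    rw [Algebra.TensorProduct.tmul_pow, one_pow, hγ,
      Algebra.algebraMap_eq_smul_one (A := A) c, Algebra.algebraMap_eq_smul_one (A := k') c,
      TensorProduct.tmul_smul, TensorProduct.smul_tmul']
  have hmem : χ' (γ ⊗ₜ[k] (1 : A)) - γ ⊗ₜ[k] (1 : TwDual D₀) ∈ RingHom.ker (piE k' D₀) := by
    rw [RingHom.mem_ker, map_sub, hχ', gB_tmul, piE_tmul, map_one, map_one, sub_self]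
  set j := χ' (γ ⊗ₜ[k] (1 : A)) - γ ⊗ₜ[k] (1 : TwDual D₀) with hj
  have hjj : j * j = 0 := by
    have : j * j ∈ RingHom.ker (piE k' D₀) ^ 2 := by
      rw [pow_two]; exact Ideal.mul_mem_mul hmem hmem
    rwa [ker_piE_sq, Ideal.mem_bot] at this
  have hjp : j ^ p = 0 := by
    obtain ⟨m, rfl⟩ : ∃ m, p = 2 + m := ⟨p - 2, by omega⟩
    rw [pow_add, pow_two, hjj, zero_mul]
  have h2 : χ' (γ ⊗ₜ[k] (1 : A)) = γ ⊗ₜ[k] (1 : TwDual D₀) + j := by rw [hj]; ring
  have h3 : χ' (1 ⊗ₜ[k] algebraMap k A c) = 1 ⊗ₜ[k] algebraMap k (TwDual D₀) c := by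
    rw [h1, map_pow, h2, add_pow_char, hjp, add_zero, Algebra.TensorProduct.tmul_pow, one_pow, hγ,
      Algebra.algebraMap_eq_smul_one (A := k') c,
      Algebra.algebraMap_eq_smul_one (A := TwDual D₀) c,
      TensorProduct.tmul_smul, TensorProduct.smul_tmul']
  have e : residue A (algebraMap k A c) = algebraMap k (ResidueField A) c := by
    rw [IsScalarTower.algebraMap_apply k A (ResidueField A), ResidueField.algebraMap_eq]
  rw [h3, phi0_apply, TwDual.algebraMap_eq, TensorProduct.tmul_add, e, add_sub_cancel_left]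

include p in
/-- **Key computation.** Given a lift, any `K`-linear relation among the `d(c) ⊗ 1` in
`Ω_{A/ℤ} ⊗ K` (for `c ∈ k` having `p`-th roots in `k'`) is also satisfied by the values `D₀ c`. -/
theorem sum_eq_zero_of_lift (χ' : k' ⊗[k] A →+* k' ⊗[k] TwDual D₀)
    (hχ' : ∀ b, piE k' D₀ (χ' b) = gB k' b) (s : Finset k) (l : k → ResidueField A)
    (hs : ∀ c ∈ s, ∃ γ : k', γ ^ p = algebraMap k k' c)
    (hrel : ∑ c ∈ s, l c • ((1 : ResidueField A) ⊗ₜ[A]
      KaehlerDifferential.D ℤ A (algebraMap k A c)) = 0) :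
    ∑ c ∈ s, l c * D₀ c = 0 := by
  classical
  have hsq : ∀ x ∈ RingHom.ker (piE k' D₀), ∀ y ∈ RingHom.ker (piE k' D₀), x * y = 0 := by
    intro x hx y hy
    have : x * y ∈ RingHom.ker (piE k' D₀) ^ 2 := by
      rw [pow_two]; exact Ideal.mul_mem_mul hx hy
    rwa [ker_piE_sq, Ideal.mem_bot] at this
  letI : Algebra A (k' ⊗[k] TwDual D₀) := (phi0 k' D₀).toAlgebra
  have hsmul : ∀ (a : A) (x : RingHom.ker (piE k' D₀)),
      ((a • x : RingHom.ker (piE k' D₀)) : k' ⊗[k] TwDual D₀) = phi0 k' D₀ a * x := fun a x => rfl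
  have hN : ∀ a ∈ maximalIdeal A, ∀ x : RingHom.ker (piE k' D₀), a • x = 0 := by
    intro a ha x
    apply Subtype.ext
    rw [hsmul, phi0_apply, (residue_eq_zero_iff a).mpr ha, map_zero, TensorProduct.tmul_zero,
      zero_mul]
    rfl
  have hmem : ∀ a : A, χ' (1 ⊗ₜ[k] a) - phi0 k' D₀ a ∈ RingHom.ker (piE k' D₀) := by
    intro a
    rw [RingHom.mem_ker, map_sub, hχ', piE_phi0, sub_self]
  let D : Derivation ℤ A (RingHom.ker (piE k' D₀)) :=
    { toLinearMap := (AddMonoidHom.mk'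
        (fun a => (⟨χ' (1 ⊗ₜ[k] a) - phi0 k' D₀ a, hmem a⟩ : RingHom.ker (piE k' D₀)))
        (fun a b => by
          apply Subtype.ext
          show χ' (1 ⊗ₜ[k] (a + b)) - phi0 k' D₀ (a + b) =
            (χ' (1 ⊗ₜ[k] a) - phi0 k' D₀ a) + (χ' (1 ⊗ₜ[k] b) - phi0 k' D₀ b)
          rw [TensorProduct.tmul_add, map_add, map_add]
          ring)).toIntLinearMap
      map_one_eq_zero' := by
        apply Subtype.ext
        show χ' (1 ⊗ₜ[k] (1 : A)) - phi0 k' D₀ 1 = 0
        rw [map_one, ← Algebra.TensorProduct.one_def, map_one, sub_self]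
      leibniz' := by
        intro a b
        apply Subtype.ext
        show χ' (1 ⊗ₜ[k] (a * b)) - phi0 k' D₀ (a * b) =
          phi0 k' D₀ a * (χ' (1 ⊗ₜ[k] b) - phi0 k' D₀ b) +
            phi0 k' D₀ b * (χ' (1 ⊗ₜ[k] a) - phi0 k' D₀ a)
        have h0 := hsq _ (hmem a) _ (hmem b)
        have h1 : (1 : k') ⊗ₜ[k] (a * b) = (1 ⊗ₜ[k] a) * (1 ⊗ₜ[k] b) := by
          rw [Algebra.TensorProduct.tmul_mul_tmul, one_mul]
        rw [h1, map_mul, map_mul]
        linear_combination h0 }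
  have hD : ∀ a, ((D a : RingHom.ker (piE k' D₀)) : k' ⊗[k] TwDual D₀) =
      χ' (1 ⊗ₜ[k] a) - phi0 k' D₀ a := fun a => rfl
  have htors : Module.IsTorsionBySet A (RingHom.ker (piE k' D₀)) (maximalIdeal A : Set A) := by
    intro x a
    exact hN a.1 a.2 x
  letI : Module (ResidueField A) (RingHom.ker (piE k' D₀)) := htors.module
  haveI : IsScalarTower A (ResidueField A) (RingHom.ker (piE k' D₀)) := ⟨fun a κ x => by
    obtain ⟨b, rfl⟩ := IsLocalRing.residue_surjective κ
    have e : a • residue A b = residue A (a * b) := by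
      rw [Algebra.smul_def, map_mul]; rfl
    rw [e]
    show (a * b) • x = a • (b • x)
    rw [mul_smul]⟩
  have hres : ∀ (b : A) (x : RingHom.ker (piE k' D₀)), residue A b • x = b • x := fun b x => rfl
  let Dt : ResidueField A ⊗[A] Ω[A⁄ℤ] →ₗ[ResidueField A] RingHom.ker (piE k' D₀) :=
    D.liftKaehlerDifferential.liftBaseChange (ResidueField A)
  have h1 := congrArg Dt hrel
  rw [map_sum, map_zero] at h1
  have h2 : ∀ c ∈ s, ((Dt (l c • ((1 : ResidueField A) ⊗ₜ[A]
      KaehlerDifferential.D ℤ A (algebraMap k A c))) : RingHom.ker (piE k' D₀)) :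
        k' ⊗[k] TwDual D₀) = 1 ⊗ₜ[k] TwDual.inr D₀ (l c * D₀ c) := by
    intro c hc
    obtain ⟨γ, hγ⟩ := hs c hc
    obtain ⟨b, hb⟩ := IsLocalRing.residue_surjective (l c)
    rw [map_smul, LinearMap.liftBaseChange_tmul, one_smul,
      Derivation.liftKaehlerDifferential_comp_D, ← hb, hres, hsmul, hD,
      lift_sub_eq k' D₀ p χ' hχ' c γ hγ, phi0_apply, Algebra.TensorProduct.tmul_mul_tmul, one_mul,
      TwDual.inl_mul_inr]
  let inrHom : ResidueField A →+ TwDual D₀ :=
    AddMonoidHom.mk' (TwDual.inr D₀) (TwDual.inr_add D₀)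
  have h3 : (1 : k') ⊗ₜ[k] TwDual.inr D₀ (∑ c ∈ s, l c * D₀ c) = 0 := by
    have h4 := congrArg (Subtype.val : RingHom.ker (piE k' D₀) → k' ⊗[k] TwDual D₀) h1
    rw [AddSubmonoidClass.coe_finset_sum] at h4
    rw [Finset.sum_congr rfl h2, ← TensorProduct.tmul_sum] at h4
    have h5 : ∑ c ∈ s, TwDual.inr D₀ (l c * D₀ c) = TwDual.inr D₀ (∑ c ∈ s, l c * D₀ c) :=
      (map_sum inrHom _ s).symm
    rw [h5] at h4
    exact h4
  have hinj := Algebra.TensorProduct.includeRight_injective (R := k) (A := k')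
    (B := TwDual D₀) (algebraMap k k').injective
  have h6 : TwDual.inr D₀ (∑ c ∈ s, l c * D₀ c) = 0 := by
    apply hinj
    rw [map_zero]
    exact h3
  have h7 := TwDual.inr_injective D₀ (h6.trans (TwDual.inr_zero D₀).symm)
  exact h7

end Main

section PthRoots

/-- Finitely many elements of a field of characteristic `p` acquire `p`-th roots in a finite
extension `k'` with `k'^p ⊆ k`. -/
theorem exists_finite_pthRoot_extension {k : Type u} [Field k] (p : ℕ) [Fact p.Prime] [CharP k p]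
    (s : Finset k) :
    ∃ (k' : Type u) (_ : Field k') (_ : Algebra k k'), Module.Finite k k' ∧
      (∀ x : k', x ^ p ∈ (algebraMap k k').range) ∧
      ∀ c ∈ s, ∃ γ : k', γ ^ p = algebraMap k k' c := by
  classical
  let Ω := AlgebraicClosure k
  haveI : CharP Ω p := charP_of_injective_algebraMap (algebraMap k Ω).injective p
  have hp0 : 0 < p := (Fact.out : p.Prime).pos
  choose γ hγ using fun c : k => IsAlgClosed.exists_pow_nat_eq (algebraMap k Ω c) hp0
  let S : Set Ω := γ '' (s : Set k)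
  haveI : Finite S := (s.finite_toSet.image γ).to_subtype
  let F : IntermediateField k Ω := IntermediateField.adjoin k S
  let T : Subfield Ω := (algebraMap k Ω).fieldRange.comap (frobenius Ω p)
  have hFT : F.toSubfield ≤ T := by
    apply IntermediateField.adjoin_le_subfield
    · rintro _ ⟨c, rfl⟩
      show frobenius Ω p (algebraMap k Ω c) ∈ (algebraMap k Ω).fieldRange
      rw [frobenius_def, ← map_pow]
      exact ⟨c ^ p, rfl⟩
    · rintro _ ⟨c, -, rfl⟩
      show frobenius Ω p (γ c) ∈ (algebraMap k Ω).fieldRange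
      rw [frobenius_def, hγ]
      exact ⟨c, rfl⟩
  refine ⟨F, inferInstance, inferInstance, ?_, ?_, ?_⟩
  · exact IntermediateField.finiteDimensional_adjoin
      (fun x _ => Algebra.IsIntegral.isIntegral x)
  · intro x
    have hx : (x : Ω) ∈ T := hFT x.2
    obtain ⟨y, hy⟩ : frobenius Ω p (x : Ω) ∈ (algebraMap k Ω).fieldRange := hx
    refine ⟨y, ?_⟩
    apply Subtype.ext
    rw [frobenius_def] at hy
    exact hy
  · intro c hc
    refine ⟨⟨γ c, IntermediateField.subset_adjoin k S ⟨c, hc, rfl⟩⟩, ?_⟩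
    apply Subtype.ext
    exact hγ c

end PthRoots

section Final

variable {k A : Type u} [Field k] [CommRing A] [IsLocalRing A] [Algebra k A]

theorem span_range_one_tmul_D :
    Submodule.span (ResidueField A) (Set.range fun c : k =>
      ((1 : ResidueField A) ⊗ₜ[A] ((1 : A) ⊗ₜ[k] KaehlerDifferential.D ℤ k c) :
        ResidueField A ⊗[A] (A ⊗[k] Ω[k⁄ℤ]))) = ⊤ := by
  set S := Submodule.span (ResidueField A) (Set.range fun c : k =>
      ((1 : ResidueField A) ⊗ₜ[A] ((1 : A) ⊗ₜ[k] KaehlerDifferential.D ℤ k c) :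
        ResidueField A ⊗[A] (A ⊗[k] Ω[k⁄ℤ]))) with hS
  have h : S.mkQ = 0 := by
    apply hom_ext_baseChange_kaehler
    intro c
    rw [LinearMap.zero_apply, Submodule.mkQ_apply, Submodule.Quotient.mk_eq_zero]
    exact Submodule.subset_span ⟨c, rfl⟩
  rw [← Submodule.ker_mkQ S, h, LinearMap.ker_zero]

/-- **EGA 0_IV 22.5.8 (c) ⇒ (a) in characteristic `p`.** If `k' ⊗_k A` is regular for every finite
extension `k'` of `k` with `k'^p ⊆ k`, then `Ω_{k/ℤ} ⊗ K → Ω_{A/ℤ} ⊗ K` is injective. -/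
theorem injective_of_forall_regular (p : ℕ) [Fact p.Prime] [CharP k p]
    (H : ∀ (k' : Type u) [Field k'] [Algebra k k'], Module.Finite k k' →
      (∀ x : k', x ^ p ∈ (algebraMap k k').range) → IsRegularRing (k' ⊗[k] A)) :
    Function.Injective
      ((KaehlerDifferential.mapBaseChange ℤ k A).lTensor (ResidueField A)) := by
  classical
  rw [injective_iff_map_eq_zero]
  intro ω hω
  by_contra hne
  obtain ⟨ℓ, hℓ⟩ : ∃ ℓ : Module.Dual (ResidueField A)
      (ResidueField A ⊗[A] (A ⊗[k] Ω[k⁄ℤ])), ℓ ω ≠ 0 := by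
    by_contra hall
    push_neg at hall
    exact hne ((Module.forall_dual_apply_eq_zero_iff (ResidueField A) ω).mp hall)
  let v : k → ResidueField A ⊗[A] (A ⊗[k] Ω[k⁄ℤ]) := fun c =>
    (1 : ResidueField A) ⊗ₜ[A] ((1 : A) ⊗ₜ[k] KaehlerDifferential.D ℤ k c)
  have hmem : ω ∈ Submodule.span (ResidueField A) (Set.range v) := by
    rw [span_range_one_tmul_D]; trivial
  obtain ⟨l, hl⟩ := Finsupp.mem_span_range_iff_exists_finsupp.mp hmem
  have hl' : ∑ c ∈ l.support, l c • v c = ω := hl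
  let ι : Ω[k⁄ℤ] →ₗ[k] ResidueField A ⊗[A] (A ⊗[k] Ω[k⁄ℤ]) :=
    ((TensorProduct.mk A (ResidueField A) (A ⊗[k] Ω[k⁄ℤ]) 1).restrictScalars k) ∘ₗ
      (TensorProduct.mk k A Ω[k⁄ℤ] 1)
  let D₀ : Derivation ℤ k (ResidueField A) :=
    ((ℓ.restrictScalars k) ∘ₗ ι).compDer (KaehlerDifferential.D ℤ k)
  have hD₀ : ∀ c, D₀ c = ℓ (v c) := fun c => rfl
  obtain ⟨k', _, _, hfin, hk', hroots⟩ := exists_finite_pthRoot_extension p l.support
  have hreg := H k' hfin hk'
  obtain ⟨χ', hχ'⟩ := exists_lift_tensor k' D₀ p hk' hreg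
  let uK := (KaehlerDifferential.mapBaseChange ℤ k A).baseChange (ResidueField A)
  have huv : ∀ c, uK (v c) = (1 : ResidueField A) ⊗ₜ[A]
      KaehlerDifferential.D ℤ A (algebraMap k A c) := by
    intro c
    show (1 : ResidueField A) ⊗ₜ[A] (KaehlerDifferential.mapBaseChange ℤ k A
      (1 ⊗ₜ[k] KaehlerDifferential.D ℤ k c)) = _
    rw [KaehlerDifferential.mapBaseChange_tmul, one_smul, KaehlerDifferential.map_D]
  have hrel : ∑ c ∈ l.support, l c • ((1 : ResidueField A) ⊗ₜ[A]
      KaehlerDifferential.D ℤ A (algebraMap k A c)) = 0 := by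
    have h1 : uK ω = 0 := hω
    rw [← hl', map_sum] at h1
    rw [← h1]
    refine Finset.sum_congr rfl fun c _ => ?_
    rw [map_smul, huv]
  have hsum := sum_eq_zero_of_lift k' D₀ p χ' hχ' l.support l hroots hrel
  apply hℓ
  rw [← hl', map_sum, ← hsum]
  refine Finset.sum_congr rfl fun c _ => ?_
  rw [map_smul, smul_eq_mul, hD₀]

/-- In characteristic zero a regular Noetherian local `k`-algebra is formally smooth over `k`. -/
theorem isAdicFormallySmooth_of_regular_of_charZero [CharZero k] [IsNoetherianRing A]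
    (hreg : IsRegularLocalRing A) : CAlgX.IsAdicFormallySmooth k A (maximalIdeal A) := by
  have key : Algebra.FormallySmooth k (ResidueField A) := formallySmooth_of_charZero
  haveI : Algebra.IsGeometricallyReduced k (ResidueField A) := Groth.Agent.S2451.result.mp key
  have tfae := Groth.Agent.S2453.result (k := k) (A := A)
  exact (tfae.out 3 0).mp hreg

/-- **EGA 0_IV 22.5.8 / IV 6.7.7.** A Noetherian local `k`-algebra is formally smooth over `k` iff
`k' ⊗_k A` is regular for every finite extension `k'` of `k` with `k'^p ⊆ k` (`p` the characteristic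
exponent). -/
theorem isAdicFormallySmooth_iff_forall_regular (p : ℕ) [ExpChar k p] [IsNoetherianRing A] :
    CAlgX.IsAdicFormallySmooth k A (maximalIdeal A) ↔
      ∀ (k' : Type u) [Field k'] [Algebra k k'], Module.Finite k k' →
        (∀ x : k', x ^ p ∈ (algebraMap k k').range) → IsRegularRing (k' ⊗[k] A) := by
  constructor
  · intro h k' _ _ hfin _
    exact isGeometricallyRegular_of_adicFormallySmooth h k' hfin
  · intro H
    have hA : IsRegularLocalRing A := by
      haveI h1 : IsRegularRing (k ⊗[k] A) := H k inferInstance (fun x => ⟨x ^ p, rfl⟩)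
      haveI : IsRegularRing A :=
        IsRegularRing.of_ringEquiv (Algebra.TensorProduct.lid k A).toRingEquiv
      exact IsRegularLocalRing.of_isRegularRing_of_isLocalRing A
    cases ‹ExpChar k p› with
    | zero => exact isAdicFormallySmooth_of_regular_of_charZero hA
    | prime hp =>
      haveI := Fact.mk hp
      exact isAdicFormallySmooth_iff_regular_and_injective.mpr
        ⟨hA, injective_of_forall_regular p H⟩

end Final

end Groth.Agent.Lib.Helper96
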