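import Mathlib
import Groth.Agent.Lib.Helper96.SmoothInsep
import Groth.Agent.Lib.Helper96.RegularLoc

/-!
# Geometric regularity: local-global principles (helper96)

For a Noetherian algebra `A` over a field `k`:
* `isAdicFormallySmooth_atPrime_of_forall_regular`: if `k' ⊗ A` is regular for all finite `k'/k` with
  `k'^p ⊆ k`, every local ring `A_q` is formally smooth over `k` (adic topology);
* `isRegularRing_tensor_of_forall_adicFormallySmooth`: if all `A_q` are formally smooth over `k` then
  `K ⊗ A` is regular for every field extension `K/k` with `K ⊗ A` Noetherian;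
* `isGeometricallyRegular_iff_forall_adicFormallySmooth`.
-/

set_option autoImplicit false

universe u

namespace Groth.Agent.Lib.Helper96

open IsLocalRing TensorProduct

/-- Regularity of a local ring of `R` from regularity of the corresponding local ring of a
localization of `R`. -/
theorem isRegularLocalRing_atPrime_of_comap {R : Type*} [CommRing R] (M : Submonoid R)
    (S : Type*) [CommRing S] [Algebra R S] [IsLocalization M S] (P : Ideal R) [P.IsPrime]
    (Q' : Ideal S) [Q'.IsPrime] (h : Q'.comap (algebraMap R S) = P)
    (hreg : IsRegularLocalRing (Localization.AtPrime Q')) :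
    IsRegularLocalRing (Localization.AtPrime P) := by
  subst h
  haveI : IsLocalization.AtPrime (Localization.AtPrime Q') (Q'.comap (algebraMap R S)) :=
    IsLocalization.isLocalization_isLocalization_atPrime_isLocalization M
      (Localization.AtPrime Q') Q'
  let e : Localization.AtPrime (Q'.comap (algebraMap R S)) ≃ₐ[R] Localization.AtPrime Q' :=
    IsLocalization.algEquiv (Q'.comap (algebraMap R S)).primeCompl _ _
  exact IsRegularLocalRing.of_ringEquiv e.symm.toRingEquiv

section

variable {k : Type u} [Field k] (K : Type u) [Field K] [Algebra k K] (A : Type u) [CommRing A]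
  [Algebra k A]

/-- The algebra structure `K ⊗ A → K ⊗ A_q`. -/
@[reducible] noncomputable def tensorAtPrimeAlgebra (q : Ideal A) [q.IsPrime] :
    Algebra (K ⊗[k] A) (K ⊗[k] Localization.AtPrime q) :=
  (Algebra.TensorProduct.map (AlgHom.id k K)
    (IsScalarTower.toAlgHom k A (Localization.AtPrime q))).toAlgebra

theorem isScalarTower_tensorAtPrime (q : Ideal A) [q.IsPrime] :
    letI := tensorAtPrimeAlgebra (k := k) K A q
    IsScalarTower K (K ⊗[k] A) (K ⊗[k] Localization.AtPrime q) := by
  letI := tensorAtPrimeAlgebra (k := k) K A q
  exact .of_algebraMap_eq <| by intro; simp [RingHom.algebraMap_toAlgebra]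

theorem isLocalization_tensorAtPrime (q : Ideal A) [q.IsPrime] :
    letI := tensorAtPrimeAlgebra (k := k) K A q
    IsLocalization (q.primeCompl.map (Algebra.TensorProduct.includeRight (R := k) (A := K)))
      (K ⊗[k] Localization.AtPrime q) := by
  letI := tensorAtPrimeAlgebra (k := k) K A q
  haveI := isScalarTower_tensorAtPrime (k := k) K A q
  exact IsLocalization.tensorProduct_tensorProduct_right k K q.primeCompl (Localization.AtPrime q)
    (by ext; simp [RingHom.algebraMap_toAlgebra])

/-- If `k' ⊗ A` is regular for all finite extensions `k'` with `k'^p ⊆ k`, all local rings of `A` are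
formally smooth over `k`. -/
theorem isAdicFormallySmooth_atPrime_of_forall_regular (p : ℕ) [ExpChar k p] [IsNoetherianRing A]
    (H : ∀ (k' : Type u) [Field k'] [Algebra k k'], Module.Finite k k' →
      (∀ x : k', x ^ p ∈ (algebraMap k k').range) → IsRegularRing (k' ⊗[k] A))
    (q : Ideal A) [q.IsPrime] :
    CAlgX.IsAdicFormallySmooth k (Localization.AtPrime q)
      (maximalIdeal (Localization.AtPrime q)) := by
  haveI : IsNoetherianRing (Localization.AtPrime q) :=
    IsLocalization.isNoetherianRing q.primeCompl _ inferInstance
  refine (isAdicFormallySmooth_iff_forall_regular p).mpr ?_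
  intro k' _ _ hfin hp
  haveI := H k' hfin hp
  letI := tensorAtPrimeAlgebra (k := k) k' A q
  haveI := isLocalization_tensorAtPrime (k := k) k' A q
  exact isRegularRing_of_isLocalization
    (q.primeCompl.map (Algebra.TensorProduct.includeRight (R := k) (A := k'))) _

/-- If all local rings of `A` are formally smooth over `k` then `K ⊗ A` is regular whenever it is
Noetherian. -/
theorem isRegularRing_tensor_of_forall_adicFormallySmooth [IsNoetherianRing (K ⊗[k] A)]
    (h : ∀ (q : Ideal A) [q.IsPrime], CAlgX.IsAdicFormallySmooth k (Localization.AtPrime q)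
      (maximalIdeal (Localization.AtPrime q))) :
    IsRegularRing (K ⊗[k] A) := by
  rw [isRegularRing_iff]
  intro Q hQ
  let incl : A →+* K ⊗[k] A := (Algebra.TensorProduct.includeRight : A →ₐ[k] K ⊗[k] A).toRingHom
  let q : Ideal A := Q.comap incl
  haveI : q.IsPrime := Ideal.comap_isPrime _ _
  letI := tensorAtPrimeAlgebra (k := k) K A q
  haveI := isScalarTower_tensorAtPrime (k := k) K A q
  haveI loc := isLocalization_tensorAtPrime (k := k) K A q
  set M' : Submonoid (K ⊗[k] A) :=
    q.primeCompl.map (Algebra.TensorProduct.includeRight (R := k) (A := K)) with hM'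
  have hdisj : Disjoint (M' : Set (K ⊗[k] A)) (Q : Set (K ⊗[k] A)) := by
    rw [Set.disjoint_left]
    rintro _ ⟨a, ha, rfl⟩ hmem
    exact ha hmem
  let Q' : Ideal (K ⊗[k] Localization.AtPrime q) :=
    Q.map (algebraMap (K ⊗[k] A) (K ⊗[k] Localization.AtPrime q))
  haveI hQ' : Q'.IsPrime := IsLocalization.isPrime_of_isPrime_disjoint M' _ Q hQ hdisj
  have hcomap : Q'.comap (algebraMap (K ⊗[k] A) (K ⊗[k] Localization.AtPrime q)) = Q :=
    IsLocalization.comap_map_of_isPrime_disjoint M' _ hQ hdisj
  have hn : (maximalIdeal (Localization.AtPrime q)).map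
      (Algebra.TensorProduct.includeRight :
        Localization.AtPrime q →ₐ[k] K ⊗[k] Localization.AtPrime q).toRingHom ≤ Q' := by
    rw [← Localization.AtPrime.map_eq_maximalIdeal, Ideal.map_map, Ideal.map_le_iff_le_comap]
    intro a ha
    rw [Ideal.mem_comap]
    have e1 : ((Algebra.TensorProduct.includeRight :
        Localization.AtPrime q →ₐ[k] K ⊗[k] Localization.AtPrime q).toRingHom.comp
          (algebraMap A (Localization.AtPrime q))) a =
        algebraMap (K ⊗[k] A) (K ⊗[k] Localization.AtPrime q) (incl a) := by
      simp [RingHom.algebraMap_toAlgebra, incl]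
    rw [e1]
    exact Ideal.mem_map_of_mem _ ha
  have hfs := isAdicFormallySmooth_localization_tensor k K (Localization.AtPrime q)
    (maximalIdeal (Localization.AtPrime q)) (h q) Q' hn
  haveI : IsNoetherianRing (K ⊗[k] Localization.AtPrime q) :=
    IsLocalization.isNoetherianRing M' _ inferInstance
  haveI : IsNoetherianRing (Localization.AtPrime Q') :=
    IsLocalization.isNoetherianRing Q'.primeCompl _ inferInstance
  have hreg := (isRegular_and_completion_of_adicFormallySmooth hfs).1
  exact isRegularLocalRing_atPrime_of_comap M' (K ⊗[k] Localization.AtPrime q) Q Q' hcomap hreg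

variable {A} in
/-- Local-global principle for geometric regularity. -/
theorem isGeometricallyRegular_iff_forall_adicFormallySmooth [IsNoetherianRing A] :
    CAlg.IsGeometricallyRegular k A ↔
      ∀ (q : Ideal A) [q.IsPrime], CAlgX.IsAdicFormallySmooth k (Localization.AtPrime q)
        (maximalIdeal (Localization.AtPrime q)) := by
  constructor
  · intro h q _
    obtain ⟨p, hp⟩ := ExpChar.exists k
    exact isAdicFormallySmooth_atPrime_of_forall_regular A p (fun k' _ _ hfin _ => h k' hfin) q
  · intro h k' _ _ hfin
    haveI : IsNoetherianRing (A ⊗[k] k') := Algebra.FiniteType.isNoetherianRing A _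
    haveI : IsNoetherianRing (k' ⊗[k] A) :=
      isNoetherianRing_of_ringEquiv (A ⊗[k] k') (Algebra.TensorProduct.comm k A k').toRingEquiv
    exact isRegularRing_tensor_of_forall_adicFormallySmooth k' A h

end

end Groth.Agent.Lib.Helper96
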