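import Mathlib
import Groth.Agent.Lib.Helper96.GeomRegular
import Groth.Agent.S0565

/-!
# Faithfully flat descent of regularity, and geometric regularity under base field extension
(helper96)
-/

set_option autoImplicit false

universe u

namespace Groth.Agent.Lib.Helper96

open IsLocalRing TensorProduct

/-- Faithfully flat descent of regularity. -/
theorem isRegularRing_of_faithfullyFlat (B C : Type u) [CommRing B] [CommRing C] [Algebra B C]
    [Module.FaithfullyFlat B C] [IsNoetherianRing B] [IsRegularRing C] : IsRegularRing B := by
  rw [isRegularRing_iff]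
  intro P hP
  obtain ⟨P', hP'⟩ := PrimeSpectrum.comap_surjective_of_faithfullyFlat (A := B) (B := C) ⟨P, hP⟩
  have hcomap : P = P'.asIdeal.comap (algebraMap B C) := by
    have := congrArg PrimeSpectrum.asIdeal hP'
    exact this.symm
  let φ := Localization.localRingHom P P'.asIdeal (algebraMap B C) hcomap
  letI := φ.toAlgebra
  haveI : IsLocalHom (algebraMap (Localization.AtPrime P) (Localization.AtPrime P'.asIdeal)) :=
    Localization.isLocalHom_localRingHom P P'.asIdeal (algebraMap B C) hcomap
  have hflat : (algebraMap B C).Flat := RingHom.flat_algebraMap_iff.mpr inferInstance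
  haveI : Module.Flat (Localization.AtPrime P) (Localization.AtPrime P'.asIdeal) :=
    RingHom.flat_algebraMap_iff.mp (RingHom.Flat.localRingHom hflat P'.asIdeal P hcomap)
  haveI : IsNoetherianRing (Localization.AtPrime P) :=
    IsLocalization.isNoetherianRing P.primeCompl _ inferInstance
  exact Groth.Agent.S0565.result (Localization.AtPrime P) (Localization.AtPrime P'.asIdeal)

/-- Adic formal smoothness descends along a formally unramified extension of the base. -/
theorem isAdicFormallySmooth_of_formallyUnramified (k k' A : Type u) [CommRing k] [CommRing k']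
    [CommRing A] [Algebra k k'] [Algebra k' A] [Algebra k A] [IsScalarTower k k' A]
    [Algebra.FormallyUnramified k k'] (𝔫 : Ideal A) (h : CAlgX.IsAdicFormallySmooth k A 𝔫) :
    CAlgX.IsAdicFormallySmooth k' A 𝔫 := by
  intro C _ _ J hJ ψ hψ
  letI : Algebra k C := ((algebraMap k' C).comp (algebraMap k k')).toAlgebra
  haveI : IsScalarTower k k' C := IsScalarTower.of_algebraMap_eq (fun x => rfl)
  obtain ⟨χ, hχ⟩ := h C J hJ (ψ.restrictScalars k) hψ
  have hχ' : ∀ a, Ideal.Quotient.mk J (χ a) = ψ a := fun a => DFunLike.congr_fun hχ a
  have key : χ.comp (IsScalarTower.toAlgHom k k' A) = IsScalarTower.toAlgHom k k' C := by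
    apply Algebra.FormallyUnramified.ext J ⟨2, hJ⟩
    intro x
    simp only [AlgHom.comp_apply, IsScalarTower.coe_toAlgHom']
    rw [hχ', ψ.commutes]
    rfl
  refine ⟨{ (χ : A →+* C) with commutes' := fun c => DFunLike.congr_fun key c }, ?_⟩
  ext a
  exact hχ' a

end Groth.Agent.Lib.Helper96
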