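import Mathlib
import Groth.Agent.Lib.Helper96.GeomRegular2

/-!
# Regular homomorphisms: base change and faithfully flat descent (helper96)
-/

set_option autoImplicit false

universe u

namespace Groth.Agent.Lib.Helper96

open IsLocalRing TensorProduct

/-- Geometric regularity transfers along algebra isomorphisms. -/
theorem isGeometricallyRegular_of_algEquiv {K S S' : Type u} [Field K] [CommRing S] [CommRing S']
    [Algebra K S] [Algebra K S'] (e : S ≃ₐ[K] S') (h : CAlg.IsGeometricallyRegular K S) :
    CAlg.IsGeometricallyRegular K S' := by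
  intro L _ _ hfin
  haveI := h L hfin
  exact IsRegularRing.of_ringEquiv
    (Algebra.TensorProduct.congr (AlgEquiv.refl : L ≃ₐ[K] L) e).toRingEquiv

/-- Geometric regularity is stable under arbitrary extension of the base field, provided the base
change is Noetherian. -/
theorem isGeometricallyRegular_baseChange (k K F : Type u) [Field k] [Field K] [Algebra k K]
    [CommRing F] [Algebra k F] [IsNoetherianRing F] [IsNoetherianRing (K ⊗[k] F)]
    (h : CAlg.IsGeometricallyRegular k F) : CAlg.IsGeometricallyRegular K (K ⊗[k] F) := by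
  intro L _ _ hfin
  haveI := hfin
  letI : Algebra k L := ((algebraMap K L).comp (algebraMap k K)).toAlgebra
  haveI : IsScalarTower k K L := IsScalarTower.of_algebraMap_eq (fun x => rfl)
  let e := Algebra.TensorProduct.cancelBaseChange k K K L F
  haveI : IsNoetherianRing ((K ⊗[k] F) ⊗[K] L) :=
    Algebra.FiniteType.isNoetherianRing (K ⊗[k] F) _
  haveI : IsNoetherianRing (L ⊗[K] (K ⊗[k] F)) :=
    isNoetherianRing_of_ringEquiv _ (Algebra.TensorProduct.comm K (K ⊗[k] F) L).toRingEquiv
  haveI : IsNoetherianRing (L ⊗[k] F) := isNoetherianRing_of_ringEquiv _ e.toRingEquiv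
  haveI := isRegularRing_tensor_of_forall_adicFormallySmooth L F
    (isGeometricallyRegular_iff_forall_adicFormallySmooth.mp h)
  exact IsRegularRing.of_ringEquiv e.symm.toRingEquiv

/-- Geometric regularity descends along arbitrary extensions of the base field. -/
theorem isGeometricallyRegular_of_baseChange (k K F : Type u) [Field k] [Field K] [Algebra k K]
    [CommRing F] [Algebra k F] [IsNoetherianRing F]
    (H : CAlg.IsGeometricallyRegular K (K ⊗[k] F)) : CAlg.IsGeometricallyRegular k F := by
  intro k' _ _ hfin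
  haveI := hfin
  obtain ⟨𝔪, h𝔪⟩ := Ideal.exists_maximal (K ⊗[k] k')
  letI : Field ((K ⊗[k] k') ⧸ 𝔪) := Ideal.Quotient.field 𝔪
  haveI : Module.Finite K ((K ⊗[k] k') ⧸ 𝔪) :=
    Module.Finite.of_surjective (Ideal.Quotient.mkₐ K 𝔪).toLinearMap
      (Ideal.Quotient.mkₐ_surjective K 𝔪)
  haveI hL : IsRegularRing (((K ⊗[k] k') ⧸ 𝔪) ⊗[K] (K ⊗[k] F)) :=
    H ((K ⊗[k] k') ⧸ 𝔪) inferInstance
  let ψ : k' →ₐ[k] (K ⊗[k] k') ⧸ 𝔪 :=
    (Ideal.Quotient.mkₐ k 𝔪).comp (Algebra.TensorProduct.includeRight : k' →ₐ[k] K ⊗[k] k')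
  letI : Algebra k' ((K ⊗[k] k') ⧸ 𝔪) := ψ.toRingHom.toAlgebra
  haveI : IsScalarTower k k' ((K ⊗[k] k') ⧸ 𝔪) :=
    IsScalarTower.of_algebraMap_eq (fun x => (ψ.commutes x).symm)
  let e1 := Algebra.TensorProduct.cancelBaseChange k K K ((K ⊗[k] k') ⧸ 𝔪) F
  let e2 := Algebra.TensorProduct.cancelBaseChange k k' k' ((K ⊗[k] k') ⧸ 𝔪) F
  let e3 := Algebra.TensorProduct.comm k' (k' ⊗[k] F) ((K ⊗[k] k') ⧸ 𝔪)
  haveI : IsRegularRing ((k' ⊗[k] F) ⊗[k'] ((K ⊗[k] k') ⧸ 𝔪)) :=
    IsRegularRing.of_ringEquiv
      (e1.toRingEquiv.trans (e2.symm.toRingEquiv.trans e3.symm.toRingEquiv))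
  haveI : IsNoetherianRing (F ⊗[k] k') := Algebra.FiniteType.isNoetherianRing F _
  haveI : IsNoetherianRing (k' ⊗[k] F) :=
    isNoetherianRing_of_ringEquiv (F ⊗[k] k') (Algebra.TensorProduct.comm k F k').toRingEquiv
  exact isRegularRing_of_faithfullyFlat (k' ⊗[k] F)
    ((k' ⊗[k] F) ⊗[k'] ((K ⊗[k] k') ⧸ 𝔪))

/-- Noetherianity descends along faithfully flat ring maps. -/
theorem isNoetherianRing_of_faithfullyFlat (B C : Type*) [CommRing B] [CommRing C] [Algebra B C]
    [Module.FaithfullyFlat B C] [IsNoetherianRing C] : IsNoetherianRing B := by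
  rw [isNoetherianRing_iff, isNoetherian_iff']
  have hmono : StrictMono (Ideal.map (algebraMap B C)) :=
    Monotone.strictMono_of_injective (fun _ _ h => Ideal.map_mono h)
      Ideal.map_injective_of_faithfullyFlat
  haveI : WellFoundedGT (Ideal C) := (isNoetherian_iff' (R := C) (M := C)).mp inferInstance
  exact hmono.wellFoundedGT

section Fibre

variable (A B A' : Type u) [CommRing A] [CommRing B] [CommRing A'] [Algebra A B] [Algebra A A']
variable (p' : Ideal A') [p'.IsPrime]

/-- The residue field extension `κ(p' ∩ A) → κ(p')`. -/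
@[reducible] noncomputable def residueFieldComapAlgebra :
    Algebra (p'.comap (algebraMap A A')).ResidueField p'.ResidueField :=
  (Ideal.ResidueField.map (p'.comap (algebraMap A A')) p' (algebraMap A A') rfl).toAlgebra

theorem isScalarTower_residueFieldComap :
    letI := residueFieldComapAlgebra A A' p'
    IsScalarTower A (p'.comap (algebraMap A A')).ResidueField p'.ResidueField := by
  letI := residueFieldComapAlgebra A A' p'
  refine IsScalarTower.of_algebraMap_eq fun x => ?_
  rw [RingHom.algebraMap_toAlgebra, Ideal.ResidueField.map_algebraMap]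
  exact IsScalarTower.algebraMap_apply A A' p'.ResidueField x

/-- The fibre of the base change is the base change of the fibre. -/
noncomputable def fiberBaseChangeEquiv :
    letI := residueFieldComapAlgebra A A' p'
    p'.Fiber (A' ⊗[A] B) ≃ₐ[p'.ResidueField]
      p'.ResidueField ⊗[(p'.comap (algebraMap A A')).ResidueField]
        ((p'.comap (algebraMap A A')).Fiber B) := by
  letI := residueFieldComapAlgebra A A' p'
  haveI := isScalarTower_residueFieldComap A A' p'
  exact (Algebra.TensorProduct.cancelBaseChange A A' p'.ResidueField p'.ResidueField B).trans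
    (Algebra.TensorProduct.cancelBaseChange A (p'.comap (algebraMap A A')).ResidueField
      p'.ResidueField p'.ResidueField B).symm

end Fibre

section RegularHom

variable (A B A' : Type u) [CommRing A] [CommRing B] [CommRing A'] [Algebra A B] [Algebra A A']

theorem isNoetherianRing_fiber (R S : Type u) [CommRing R] [CommRing S] [Algebra R S]
    [IsNoetherianRing S] (p : Ideal R) [p.IsPrime] : IsNoetherianRing (p.Fiber S) := by
  haveI : IsNoetherianRing (S ⊗[R] p.ResidueField) :=
    Algebra.EssFiniteType.isNoetherianRing S _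
  exact isNoetherianRing_of_ringEquiv _
    (Algebra.TensorProduct.comm R S p.ResidueField).toRingEquiv

/-- Base change of a regular homomorphism (the base change being Noetherian). -/
theorem isRegularHom_baseChange [IsNoetherianRing (A' ⊗[A] B)] (h : CAlg.IsRegularHom A B) :
    CAlg.IsRegularHom A' (A' ⊗[A] B) := by
  obtain ⟨hflat, hfib⟩ := h
  haveI := hflat
  refine ⟨inferInstance, fun p' _ => ?_⟩
  letI := residueFieldComapAlgebra A A' p'
  haveI := isScalarTower_residueFieldComap A A' p'
  obtain ⟨hN, hG⟩ := hfib (p'.comap (algebraMap A A'))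
  haveI := hN
  haveI hN' : IsNoetherianRing (p'.Fiber (A' ⊗[A] B)) := isNoetherianRing_fiber _ _ p'
  let e := fiberBaseChangeEquiv A B A' p'
  haveI : IsNoetherianRing (p'.ResidueField ⊗[(p'.comap (algebraMap A A')).ResidueField]
      ((p'.comap (algebraMap A A')).Fiber B)) := isNoetherianRing_of_ringEquiv _ e.toRingEquiv
  exact ⟨hN', isGeometricallyRegular_of_algEquiv e.symm
    (isGeometricallyRegular_baseChange (p'.comap (algebraMap A A')).ResidueField p'.ResidueField
      ((p'.comap (algebraMap A A')).Fiber B) hG)⟩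

/-- Faithfully flat descent of regular homomorphisms. -/
theorem isRegularHom_of_baseChange_faithfullyFlat [Module.FaithfullyFlat A A']
    (h : CAlg.IsRegularHom A' (A' ⊗[A] B)) : CAlg.IsRegularHom A B := by
  obtain ⟨hflat, hfib⟩ := h
  haveI := hflat
  refine ⟨Module.Flat.of_flat_tensorProduct A B A', fun p _ => ?_⟩
  obtain ⟨p', hp'prime, hp'over⟩ := Ideal.exists_isPrime_liesOver_of_faithfullyFlat (B := A') p
  have hp : p = p'.comap (algebraMap A A') := hp'over.over
  subst hp
  letI := residueFieldComapAlgebra A A' p'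
  haveI := isScalarTower_residueFieldComap A A' p'
  obtain ⟨hN', hG'⟩ := hfib p'
  let e := fiberBaseChangeEquiv A B A' p'
  haveI : IsNoetherianRing (p'.ResidueField ⊗[(p'.comap (algebraMap A A')).ResidueField]
      ((p'.comap (algebraMap A A')).Fiber B)) := isNoetherianRing_of_ringEquiv _ e.toRingEquiv
  haveI : IsNoetherianRing (((p'.comap (algebraMap A A')).Fiber B)
      ⊗[(p'.comap (algebraMap A A')).ResidueField] p'.ResidueField) :=
    isNoetherianRing_of_ringEquiv _ (Algebra.TensorProduct.comm _ _ _).toRingEquiv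
  haveI hN : IsNoetherianRing ((p'.comap (algebraMap A A')).Fiber B) :=
    isNoetherianRing_of_faithfullyFlat _ (((p'.comap (algebraMap A A')).Fiber B)
      ⊗[(p'.comap (algebraMap A A')).ResidueField] p'.ResidueField)
  exact ⟨hN, isGeometricallyRegular_of_baseChange _ p'.ResidueField _
    (isGeometricallyRegular_of_algEquiv e hG')⟩

end RegularHom

end Groth.Agent.Lib.Helper96
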