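import Mathlib
import Groth.Agent.Lib.Helper96.RegularHom
import Groth.Agent.Lib.Helper49.RegularHom
import Groth.Agent.Lib.Helper83.FlatCompl
import Groth.Agent.Lib.Helper83.ComplMap
import Groth.Agent.Lib.Helper15.ComplQuot

/-!
# Maps of completions, and descent of regular homomorphisms through a faithfully flat second
factor (helper96)
-/

set_option autoImplicit false
set_option linter.style.haveILetI false

universe u

namespace Groth.Agent.Lib.Helper96

open IsLocalRing TensorProduct

section ComplMap

variable {A B : Type*} [CommRing A] [CommRing B] (I : Ideal A) (J : Ideal B) (φ : A →+* B)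

open Groth.Agent.Lib.Helper83.ComplMap in
theorem complMap_compat (hφ : I.map φ ≤ J) {m n : ℕ} (hle : m ≤ n) :
    (Ideal.Quotient.factorPow J hle).comp
      ((θ I J φ hφ n).comp (AdicCompletion.evalₐ I n).toRingHom) =
      (θ I J φ hφ m).comp (AdicCompletion.evalₐ I m).toRingHom := by
  ext x
  induction x using AdicCompletion.induction_on with
  | h a =>
    simp only [RingHom.coe_comp, Function.comp_apply, AlgHom.toRingHom_eq_coe, RingHom.coe_coe,
      AdicCompletion.evalₐ_mk, θ_mk]
    rw [Ideal.Quotient.factorPow, Ideal.Quotient.factor_mk, Ideal.Quotient.eq, ← map_sub]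
    exact pow_le_comap I J φ hφ m (Groth.Agent.Lib.Helper15.ComplQuot.cauchy_sub_mem I hle a)

/-- The map induced on adic completions by a ring map `φ : A → B` with `φ(I)B ⊆ J`. -/
noncomputable def complMap (hφ : I.map φ ≤ J) : AdicCompletion I A →+* AdicCompletion J B :=
  AdicCompletion.liftRingHom J
    (fun n => (Groth.Agent.Lib.Helper83.ComplMap.θ I J φ hφ n).comp
      (AdicCompletion.evalₐ I n).toRingHom)
    (fun hle => complMap_compat I J φ hφ hle)

theorem complMap_of (hφ : I.map φ ≤ J) (a : A) :
    complMap I J φ hφ (AdicCompletion.of I A a) = AdicCompletion.of J B (φ a) := by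
  apply AdicCompletion.ext_evalₐ
  intro n
  rw [complMap, AdicCompletion.evalₐ_liftRingHom]
  simp

end ComplMap

section LocalCompl

variable (A A' : Type u) [CommRing A] [CommRing A'] [IsNoetherianRing A] [IsNoetherianRing A']
  [IsLocalRing A] [IsLocalRing A'] [Algebra A A'] [IsLocalHom (algebraMap A A')]

theorem map_maximalIdeal_le : (maximalIdeal A).map (algebraMap A A') ≤ maximalIdeal A' :=
  ((IsLocalRing.local_hom_TFAE (algebraMap A A')).out 0 2).mp ‹IsLocalHom (algebraMap A A')›

/-- The map `Â → Â'` of completions of local rings induced by a local homomorphism. -/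
noncomputable def cplMap :
    AdicCompletion (maximalIdeal A) A →+* AdicCompletion (maximalIdeal A') A' :=
  complMap (maximalIdeal A) (maximalIdeal A') (algebraMap A A') (map_maximalIdeal_le A A')

theorem cplMap_of (a : A) :
    cplMap A A' (AdicCompletion.of _ A a) = AdicCompletion.of _ A' (algebraMap A A' a) :=
  complMap_of _ _ _ _ a

theorem cplMap_algebraMap (a : A) :
    cplMap A A' (algebraMap A (AdicCompletion (maximalIdeal A) A) a) =
      algebraMap A' (AdicCompletion (maximalIdeal A') A') (algebraMap A A' a) := by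
  have h1 : algebraMap A (AdicCompletion (maximalIdeal A) A) a = AdicCompletion.of _ A a := by
    rw [AdicCompletion.algebraMap_apply]; rfl
  have h2 : algebraMap A' (AdicCompletion (maximalIdeal A') A') (algebraMap A A' a) =
      AdicCompletion.of _ A' (algebraMap A A' a) := by
    rw [AdicCompletion.algebraMap_apply]; rfl
  rw [h1, h2, cplMap_of]

theorem isLocalHom_cplMap : IsLocalHom (cplMap A A') := by
  apply ((IsLocalRing.local_hom_TFAE (cplMap A A')).out 0 2).mpr
  rw [AdicCompletion.maximalIdeal_eq_map, AdicCompletion.maximalIdeal_eq_map, Ideal.map_map]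
  have : (cplMap A A').comp (algebraMap A (AdicCompletion (maximalIdeal A) A)) =
      (algebraMap A' (AdicCompletion (maximalIdeal A') A')).comp (algebraMap A A') :=
    RingHom.ext (cplMap_algebraMap A A')
  rw [this, ← Ideal.map_map]
  exact Ideal.map_mono (map_maximalIdeal_le A A')

theorem flat_cplMap [Module.Flat A A'] : (cplMap A A').Flat :=
  Groth.Agent.Lib.Helper83.FlatCompl.flat_of_map_adicCompletion (maximalIdeal A) (maximalIdeal A')
    (algebraMap A A') (map_maximalIdeal_le A A') (RingHom.flat_algebraMap_iff.mpr inferInstance)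
    (cplMap A A') (cplMap_of A A')

end LocalCompl

section Descent

variable (A B C : Type u) [CommRing A] [CommRing B] [CommRing C] [Algebra A B] [Algebra B C]
  [Algebra A C] [IsScalarTower A B C]

/-- If `A → B → C` with `A → C` regular, `B → C` faithfully flat, `A → B` flat and `B` Noetherian,
then `A → B` is regular. -/
theorem isRegularHom_of_comp_of_faithfullyFlat [IsNoetherianRing B] [Module.Flat A B]
    [Module.FaithfullyFlat B C] (h : CAlg.IsRegularHom A C) : CAlg.IsRegularHom A B := by
  refine ⟨inferInstance, fun p _ => ⟨isNoetherianRing_fiber A B p, fun k' _ _ hfin => ?_⟩⟩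
  haveI := hfin
  letI : Algebra A k' :=
    ((algebraMap p.ResidueField k').comp (algebraMap A p.ResidueField)).toAlgebra
  haveI : IsScalarTower A p.ResidueField k' := .of_algebraMap_eq' rfl
  obtain ⟨⟨eD⟩, ⟨eT⟩⟩ := Groth.Agent.Lib.Helper49.NormalHom.nonempty_comp_equivs A B C p k'
  haveI : Algebra.EssFiniteType A k' := .comp A p.ResidueField k'
  haveI : IsNoetherianRing (B ⊗[A] k') := Algebra.EssFiniteType.isNoetherianRing B (B ⊗[A] k')
  haveI hT' : IsRegularRing (k' ⊗[p.ResidueField] p.Fiber C) := (h.2 p).2 k' hfin
  haveI hT : IsRegularRing ((B ⊗[A] k') ⊗[B] C) :=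
    Groth.Agent.Lib.Helper49.RegularHom.isRegularRing_of_ringEquiv' eT.symm hT'
  haveI hD : IsRegularRing (B ⊗[A] k') :=
    isRegularRing_of_faithfullyFlat (B ⊗[A] k') ((B ⊗[A] k') ⊗[B] C)
  exact Groth.Agent.Lib.Helper49.RegularHom.isRegularRing_of_ringEquiv' eD hD

end Descent

end Groth.Agent.Lib.Helper96
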