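import Mathlib
import Groth.Agent.Lib.Helper96.ComplRegular
import Groth.Agent.Lib.Helper96.GeomRegular

/-!
# Regular homomorphisms: localization of the target, local-global principle (helper96)
-/

set_option autoImplicit false
set_option linter.style.haveILetI false

universe u

namespace Groth.Agent.Lib.Helper96

open IsLocalRing TensorProduct

section TensorLoc

variable (R : Type u) [CommRing R] (K : Type u) [CommRing K] [Algebra R K] (B : Type u)
  [CommRing B] [Algebra R B]

/-- The algebra structure `K ⊗ B → K ⊗ B_n`. -/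
@[reducible] noncomputable def tensorLocAlgebra (n : Ideal B) [n.IsPrime] :
    Algebra (K ⊗[R] B) (K ⊗[R] Localization.AtPrime n) :=
  (Algebra.TensorProduct.map (AlgHom.id R K)
    (IsScalarTower.toAlgHom R B (Localization.AtPrime n))).toAlgebra

theorem isScalarTower_tensorLoc (n : Ideal B) [n.IsPrime] :
    letI := tensorLocAlgebra R K B n
    IsScalarTower K (K ⊗[R] B) (K ⊗[R] Localization.AtPrime n) := by
  letI := tensorLocAlgebra R K B n
  exact .of_algebraMap_eq <| by intro; simp [RingHom.algebraMap_toAlgebra]

theorem isLocalization_tensorLoc (n : Ideal B) [n.IsPrime] :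
    letI := tensorLocAlgebra R K B n
    IsLocalization (n.primeCompl.map (Algebra.TensorProduct.includeRight (R := R) (A := K)))
      (K ⊗[R] Localization.AtPrime n) := by
  letI := tensorLocAlgebra R K B n
  haveI := isScalarTower_tensorLoc R K B n
  exact IsLocalization.tensorProduct_tensorProduct_right R K n.primeCompl (Localization.AtPrime n)
    (by ext; simp [RingHom.algebraMap_toAlgebra])

/-- Regularity of `K ⊗ B` can be checked after localizing `B` at its maximal ideals. -/
theorem isRegularRing_tensor_of_forall_isMaximal [IsNoetherianRing (K ⊗[R] B)]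
    (H : ∀ (n : Ideal B) [n.IsMaximal], IsRegularRing (K ⊗[R] Localization.AtPrime n)) :
    IsRegularRing (K ⊗[R] B) := by
  rw [isRegularRing_iff]
  intro Q hQ
  let incl : B →+* K ⊗[R] B := (Algebra.TensorProduct.includeRight : B →ₐ[R] K ⊗[R] B).toRingHom
  let q : Ideal B := Q.comap incl
  haveI : q.IsPrime := Ideal.comap_isPrime _ _
  obtain ⟨n, hn, hqn⟩ := Ideal.exists_le_maximal q (Ideal.IsPrime.ne_top inferInstance)
  haveI := hn
  letI := tensorLocAlgebra R K B n
  haveI := isScalarTower_tensorLoc R K B n
  haveI loc := isLocalization_tensorLoc R K B n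
  set M' : Submonoid (K ⊗[R] B) :=
    n.primeCompl.map (Algebra.TensorProduct.includeRight (R := R) (A := K)) with hM'
  have hdisj : Disjoint (M' : Set (K ⊗[R] B)) (Q : Set (K ⊗[R] B)) := by
    rw [Set.disjoint_left]
    rintro _ ⟨a, ha, rfl⟩ hmem
    exact ha (hqn hmem)
  let Q' : Ideal (K ⊗[R] Localization.AtPrime n) :=
    Q.map (algebraMap (K ⊗[R] B) (K ⊗[R] Localization.AtPrime n))
  haveI hQ' : Q'.IsPrime := IsLocalization.isPrime_of_isPrime_disjoint M' _ Q hQ hdisj
  have hcomap : Q'.comap (algebraMap (K ⊗[R] B) (K ⊗[R] Localization.AtPrime n)) = Q :=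
    IsLocalization.comap_map_of_isPrime_disjoint M' _ hQ hdisj
  haveI := H n
  exact isRegularLocalRing_atPrime_of_comap M' (K ⊗[R] Localization.AtPrime n) Q Q' hcomap
    inferInstance

end TensorLoc

section LocalGlobal

variable (A B : Type u) [CommRing A] [CommRing B] [Algebra A B]

/-- **Local-global principle for regular homomorphisms** on the target. -/
theorem isRegularHom_of_forall_isMaximal [IsNoetherianRing B] [Module.Flat A B]
    (H : ∀ (n : Ideal B) [n.IsMaximal], CAlg.IsRegularHom A (Localization.AtPrime n)) :
    CAlg.IsRegularHom A B := by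
  refine ⟨inferInstance, fun p _ => ⟨isNoetherianRing_fiber A B p, fun k' _ _ hfin => ?_⟩⟩
  haveI := hfin
  letI : Algebra A k' :=
    ((algebraMap p.ResidueField k').comp (algebraMap A p.ResidueField)).toAlgebra
  haveI : IsScalarTower A p.ResidueField k' := .of_algebraMap_eq' rfl
  let e := Algebra.TensorProduct.cancelBaseChange A p.ResidueField k' k' B
  haveI : IsNoetherianRing (p.Fiber B) := isNoetherianRing_fiber A B p
  haveI : IsNoetherianRing (p.Fiber B ⊗[p.ResidueField] k') :=
    Algebra.FiniteType.isNoetherianRing (p.Fiber B) (p.Fiber B ⊗[p.ResidueField] k')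
  haveI : IsNoetherianRing (k' ⊗[p.ResidueField] p.Fiber B) :=
    isNoetherianRing_of_ringEquiv _ (Algebra.TensorProduct.comm _ _ _).toRingEquiv
  haveI : IsNoetherianRing (k' ⊗[A] B) := isNoetherianRing_of_ringEquiv _ e.toRingEquiv
  haveI : IsRegularRing (k' ⊗[A] B) := by
    apply isRegularRing_tensor_of_forall_isMaximal A k' B
    intro n hn
    haveI := ((H n).2 p).2 k' hfin
    exact IsRegularRing.of_ringEquiv (Algebra.TensorProduct.cancelBaseChange A p.ResidueField k' k'
      (Localization.AtPrime n)).toRingEquiv
  exact IsRegularRing.of_ringEquiv e.symm.toRingEquiv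

/-- A localization map is a regular homomorphism. -/
theorem isRegularHom_localization (M : Submonoid A) : CAlg.IsRegularHom A (Localization M) := by
  refine ⟨inferInstance, fun p _ => ?_⟩
  haveI hN : IsNoetherianRing (p.Fiber (Localization M)) :=
    IsLocalization.isNoetherianRing (Algebra.algebraMapSubmonoid p.ResidueField M) _ inferInstance
  refine ⟨hN, fun k' _ _ hfin => ?_⟩
  exact isRegularRing_of_isLocalization
    (Algebra.algebraMapSubmonoid k' (Algebra.algebraMapSubmonoid p.ResidueField M))
    (k' ⊗[p.ResidueField] p.Fiber (Localization M))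

end LocalGlobal

end Groth.Agent.Lib.Helper96
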