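import Mathlib
import Groth.Agent.Lib.Helper96.RegularLocalGlobal
import Groth.Agent.Lib.Helper83.FlatLocalDim

/-!
# The completion map of a G-ring along any ideal is regular (helper96)
-/

set_option autoImplicit false
set_option linter.style.haveILetI false

universe u

namespace Groth.Agent.Lib.Helper96

open IsLocalRing TensorProduct

section

variable (A : Type u) [CommRing A] [IsNoetherianRing A] (I : Ideal A)

theorem map_le_of_isMaximal_adicCompletion (n : Ideal (AdicCompletion I A)) [hn : n.IsMaximal] :
    I.map (algebraMap A (AdicCompletion I A)) ≤ n := by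
  haveI := AdicCompletion.isAdicComplete_self I I.fg_of_isNoetherianRing
  have hjac := IsAdicComplete.le_jacobson_bot (I.map (algebraMap A (AdicCompletion I A)))
  intro x hx
  have h1 := hjac hx
  rw [Ideal.jacobson, Ideal.mem_sInf] at h1
  exact h1 ⟨bot_le, hn⟩

theorem exists_sub_mem_map (y : AdicCompletion I A) :
    ∃ a : A, y - algebraMap A (AdicCompletion I A) a ∈ I.map (algebraMap A (AdicCompletion I A)) := by
  obtain ⟨a, ha⟩ := Groth.Agent.Lib.Helper83.FlatCompl.exists_sub_of_mem I 1 y
  refine ⟨a, ?_⟩
  rw [pow_one, Ideal.smul_top_eq_map] at ha
  exact ha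

end

section Main

variable (A : Type u) [CommRing A] [IsNoetherianRing A] (I : Ideal A)
  (n : Ideal (AdicCompletion I A)) [n.IsMaximal]

/-- For a maximal ideal `n` of `Â` lying over `m`, if `A_m → (A_m)^` is regular then
`A → (Â)_n` is regular. -/
theorem isRegularHom_localization_adicCompletion
    (hG : CAlg.IsRegularHom (Localization.AtPrime (n.comap (algebraMap A (AdicCompletion I A))))
      (AdicCompletion (maximalIdeal (Localization.AtPrime
        (n.comap (algebraMap A (AdicCompletion I A)))))
        (Localization.AtPrime (n.comap (algebraMap A (AdicCompletion I A)))))) :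
    CAlg.IsRegularHom A (Localization.AtPrime n) := by
  set m : Ideal A := n.comap (algebraMap A (AdicCompletion I A)) with hm
  haveI : IsNoetherianRing (AdicCompletion I A) :=
    Groth.Agent.Lib.Helper83.isNoetherianRing_adicCompletion I
  haveI : IsNoetherianRing (Localization.AtPrime m) :=
    IsLocalization.isNoetherianRing m.primeCompl _ inferInstance
  haveI : IsNoetherianRing (Localization.AtPrime n) :=
    IsLocalization.isNoetherianRing n.primeCompl _ inferInstance
  haveI : IsNoetherianRing (AdicCompletion (maximalIdeal (Localization.AtPrime m))
      (Localization.AtPrime m)) :=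
    Groth.Agent.Lib.Helper83.isNoetherianRing_adicCompletion _
  have hIm : I ≤ m := fun a ha =>
    map_le_of_isMaximal_adicCompletion A I n (Ideal.mem_map_of_mem _ ha)
  have hφ : I.map (algebraMap A (Localization.AtPrime m)) ≤
      maximalIdeal (Localization.AtPrime m) := by
    rw [← Localization.AtPrime.map_eq_maximalIdeal]
    exact Ideal.map_mono hIm
  let ψ : AdicCompletion I A →+* AdicCompletion (maximalIdeal (Localization.AtPrime m))
      (Localization.AtPrime m) :=
    complMap I (maximalIdeal (Localization.AtPrime m)) (algebraMap A (Localization.AtPrime m)) hφ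
  have hψ_alg : ∀ a : A, ψ (algebraMap A (AdicCompletion I A) a) =
      algebraMap (Localization.AtPrime m) (AdicCompletion (maximalIdeal (Localization.AtPrime m))
        (Localization.AtPrime m)) (algebraMap A (Localization.AtPrime m) a) := by
    intro a
    have h1 : algebraMap A (AdicCompletion I A) a = AdicCompletion.of I A a := by
      rw [AdicCompletion.algebraMap_apply]; rfl
    have h2 : algebraMap (Localization.AtPrime m) (AdicCompletion
        (maximalIdeal (Localization.AtPrime m)) (Localization.AtPrime m))
        (algebraMap A (Localization.AtPrime m) a) =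
        AdicCompletion.of _ _ (algebraMap A (Localization.AtPrime m) a) := by
      rw [AdicCompletion.algebraMap_apply]; rfl
    rw [h1, h2]
    exact complMap_of _ _ _ _ a
  -- the image of `I Â` lies in the maximal ideal
  have hψI : ∀ z ∈ I.map (algebraMap A (AdicCompletion I A)),
      ψ z ∈ maximalIdeal (AdicCompletion (maximalIdeal (Localization.AtPrime m))
        (Localization.AtPrime m)) := by
    intro z hz
    have h1 : ψ z ∈ (I.map (algebraMap A (AdicCompletion I A))).map ψ :=
      Ideal.mem_map_of_mem _ hz
    rw [Ideal.map_map] at h1
    have h2 : ψ.comp (algebraMap A (AdicCompletion I A)) =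
        (algebraMap (Localization.AtPrime m) (AdicCompletion
          (maximalIdeal (Localization.AtPrime m)) (Localization.AtPrime m))).comp
          (algebraMap A (Localization.AtPrime m)) := RingHom.ext hψ_alg
    rw [h2, ← Ideal.map_map] at h1
    rw [AdicCompletion.maximalIdeal_eq_map]
    exact Ideal.map_mono hφ h1
  -- elements of `A`
  have hψA : ∀ a : A, ψ (algebraMap A (AdicCompletion I A) a) ∈
      maximalIdeal (AdicCompletion (maximalIdeal (Localization.AtPrime m))
        (Localization.AtPrime m)) ↔ a ∈ m := by
    intro a
    rw [hψ_alg, AdicCompletion.maximalIdeal_eq_map]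
    constructor
    · intro h
      by_contra ha
      have hu : IsUnit (algebraMap A (Localization.AtPrime m) a) :=
        IsLocalization.map_units (Localization.AtPrime m) (⟨a, ha⟩ : m.primeCompl)
      have hu' := hu.map (algebraMap (Localization.AtPrime m) (AdicCompletion
          (maximalIdeal (Localization.AtPrime m)) (Localization.AtPrime m)))
      rw [← AdicCompletion.maximalIdeal_eq_map] at h
      exact (IsLocalRing.mem_maximalIdeal _).mp h hu'
    · intro ha
      apply Ideal.mem_map_of_mem
      exact (IsLocalization.AtPrime.to_map_mem_maximal_iff (Localization.AtPrime m) m a).mpr ha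
  have hψn : ∀ y : AdicCompletion I A, ψ y ∈
      maximalIdeal (AdicCompletion (maximalIdeal (Localization.AtPrime m))
        (Localization.AtPrime m)) ↔ y ∈ n := by
    intro y
    obtain ⟨a, ha⟩ := exists_sub_mem_map A I y
    have hz := hψI _ ha
    have hzn := map_le_of_isMaximal_adicCompletion A I n ha
    have hy : y = algebraMap A (AdicCompletion I A) a + (y - algebraMap A (AdicCompletion I A) a) := by
      ring
    constructor
    · intro h
      have h1 : ψ (algebraMap A (AdicCompletion I A) a) ∈
          maximalIdeal (AdicCompletion (maximalIdeal (Localization.AtPrime m))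
            (Localization.AtPrime m)) := by
        have : ψ (algebraMap A (AdicCompletion I A) a) =
            ψ y - ψ (y - algebraMap A (AdicCompletion I A) a) := by
          rw [← map_sub]; congr 1; ring
        rw [this]
        exact Ideal.sub_mem _ h hz
      have h2 : a ∈ m := (hψA a).mp h1
      rw [hy]
      exact Ideal.add_mem _ h2 hzn
    · intro h
      have h1 : algebraMap A (AdicCompletion I A) a ∈ n := by
        have : algebraMap A (AdicCompletion I A) a =
            y - (y - algebraMap A (AdicCompletion I A) a) := by ring
        rw [this]
        exact Ideal.sub_mem _ h hzn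
      have h2 : a ∈ m := h1
      rw [hy, map_add]
      exact Ideal.add_mem _ ((hψA a).mpr h2) hz
  -- the map `Â_n → (A_m)^`
  have hunit : ∀ y : n.primeCompl, IsUnit (ψ y) := by
    intro y
    have : ψ y ∉ maximalIdeal (AdicCompletion (maximalIdeal (Localization.AtPrime m))
        (Localization.AtPrime m)) := fun h => y.2 ((hψn y).mp h)
    exact IsLocalRing.notMem_maximalIdeal.mp this
  let χ : Localization.AtPrime n →+* AdicCompletion (maximalIdeal (Localization.AtPrime m))
      (Localization.AtPrime m) := IsLocalization.lift (M := n.primeCompl) hunit
  have hχ : ∀ b : AdicCompletion I A, χ (algebraMap (AdicCompletion I A) (Localization.AtPrime n) b)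
      = ψ b := fun b => IsLocalization.lift_eq hunit b
  -- algebra structures
  letI algAmBn : Algebra (Localization.AtPrime m) (Localization.AtPrime n) :=
    (Localization.localRingHom m n (algebraMap A (AdicCompletion I A)) rfl).toAlgebra
  letI algBnC : Algebra (Localization.AtPrime n) (AdicCompletion
      (maximalIdeal (Localization.AtPrime m)) (Localization.AtPrime m)) := χ.toAlgebra
  letI algBC : Algebra (AdicCompletion I A) (AdicCompletion
      (maximalIdeal (Localization.AtPrime m)) (Localization.AtPrime m)) := ψ.toAlgebra
  haveI tower1 : IsScalarTower (Localization.AtPrime m) (Localization.AtPrime n) (AdicCompletion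
      (maximalIdeal (Localization.AtPrime m)) (Localization.AtPrime m)) := by
    refine IsScalarTower.of_algebraMap_eq' ?_
    apply IsLocalization.ringHom_ext m.primeCompl
    ext a
    simp only [RingHom.comp_apply]
    rw [RingHom.algebraMap_toAlgebra, RingHom.algebraMap_toAlgebra,
      Localization.localRingHom_to_map, hχ, hψ_alg]
  haveI tower2 : IsScalarTower (AdicCompletion I A) (Localization.AtPrime n) (AdicCompletion
      (maximalIdeal (Localization.AtPrime m)) (Localization.AtPrime m)) :=
    IsScalarTower.of_algebraMap_eq (fun b => (hχ b).symm)
  haveI tower3 : IsScalarTower A (Localization.AtPrime m) (Localization.AtPrime n) := by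
    refine IsScalarTower.of_algebraMap_eq (fun a => ?_)
    rw [RingHom.algebraMap_toAlgebra, Localization.localRingHom_to_map,
      IsScalarTower.algebraMap_apply A (AdicCompletion I A) (Localization.AtPrime n)]
  -- flatness
  have hflatA : (algebraMap A (AdicCompletion I A)).Flat :=
    RingHom.flat_algebraMap_iff.mpr inferInstance
  haveI : Module.Flat (Localization.AtPrime m) (Localization.AtPrime n) :=
    RingHom.flat_algebraMap_iff.mp (RingHom.Flat.localRingHom hflatA n m rfl)
  haveI : Module.Flat (AdicCompletion I A) (AdicCompletion
      (maximalIdeal (Localization.AtPrime m)) (Localization.AtPrime m)) :=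
    Groth.Agent.Lib.Helper83.FlatCompl.flat_of_map_adicCompletion I
      (maximalIdeal (Localization.AtPrime m)) (algebraMap A (Localization.AtPrime m)) hφ
      (RingHom.flat_algebraMap_iff.mpr inferInstance) ψ (complMap_of _ _ _ _)
  haveI : Module.Flat (Localization.AtPrime n) (AdicCompletion
      (maximalIdeal (Localization.AtPrime m)) (Localization.AtPrime m)) :=
    (Module.flat_iff_of_isLocalization (Localization.AtPrime n) n.primeCompl _).mpr inferInstance
  haveI : IsLocalHom (algebraMap (Localization.AtPrime n) (AdicCompletion
      (maximalIdeal (Localization.AtPrime m)) (Localization.AtPrime m))) := by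
    apply ((IsLocalRing.local_hom_TFAE _).out 0 2).mpr
    have hmax : maximalIdeal (Localization.AtPrime n) =
        n.map (algebraMap (AdicCompletion I A) (Localization.AtPrime n)) :=
      (Localization.AtPrime.map_eq_maximalIdeal).symm
    rw [hmax, Ideal.map_map, Ideal.map_le_iff_le_comap]
    intro b hb
    rw [Ideal.mem_comap, RingHom.comp_apply, RingHom.algebraMap_toAlgebra, hχ]
    exact (hψn b).mpr hb
  haveI : Module.FaithfullyFlat (Localization.AtPrime n) (AdicCompletion
      (maximalIdeal (Localization.AtPrime m)) (Localization.AtPrime m)) :=
    Module.FaithfullyFlat.of_flat_of_isLocalHom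
  have h1 : CAlg.IsRegularHom (Localization.AtPrime m) (Localization.AtPrime n) :=
    isRegularHom_of_comp_of_faithfullyFlat (Localization.AtPrime m) (Localization.AtPrime n)
      (AdicCompletion (maximalIdeal (Localization.AtPrime m)) (Localization.AtPrime m)) hG
  exact Groth.Agent.Lib.Helper49.RegularHom.isRegularHom_comp A (Localization.AtPrime m)
    (Localization.AtPrime n) (isRegularHom_localization A m.primeCompl) h1
    (fun p _ => isNoetherianRing_fiber A (Localization.AtPrime n) p)

/-- **The completion map of a G-ring along any ideal is regular.** -/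
theorem isRegularHom_adicCompletion_of_isGRing (hA : CAlg.IsGRing A) :
    CAlg.IsRegularHom A (AdicCompletion I A) := by
  haveI : IsNoetherianRing (AdicCompletion I A) :=
    Groth.Agent.Lib.Helper83.isNoetherianRing_adicCompletion I
  exact isRegularHom_of_forall_isMaximal A (AdicCompletion I A) (fun n _ =>
    isRegularHom_localization_adicCompletion A I n (hA.2 _))

end Main

end Groth.Agent.Lib.Helper96
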