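import Mathlib
import Groth.Agent.Lib.Helper96.GRingCompletion

/-!
# Property-free local step for completions along an ideal (helper96)

For `A` Noetherian, `I` an ideal, `n` a maximal ideal of `Â = AdicCompletion I A` and
`m = n ∩ A`: a ring map `χ : Â_n → (A_m)^` compatible with `A_m → Â_n` (the `localRingHom`)
and `A_m → (A_m)^`, which is flat and local (hence faithfully flat).
-/

set_option autoImplicit false
set_option linter.style.haveILetI false

universe u

namespace Groth.Agent.Lib.Helper96

open IsLocalRing TensorProduct

variable (A : Type u) [CommRing A] [IsNoetherianRing A] (I : Ideal A)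
  (n : Ideal (AdicCompletion I A)) [n.IsMaximal]

theorem exists_ringHom_localization_adicCompletion :
    ∃ χ : Localization.AtPrime n →+*
        AdicCompletion (maximalIdeal (Localization.AtPrime
          (n.comap (algebraMap A (AdicCompletion I A)))))
          (Localization.AtPrime (n.comap (algebraMap A (AdicCompletion I A)))),
      (∀ x : Localization.AtPrime (n.comap (algebraMap A (AdicCompletion I A))),
        χ (Localization.localRingHom (n.comap (algebraMap A (AdicCompletion I A))) n
          (algebraMap A (AdicCompletion I A)) rfl x) = algebraMap _ _ x) ∧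
      χ.Flat ∧ IsLocalHom χ ∧
      (Localization.localRingHom (n.comap (algebraMap A (AdicCompletion I A))) n
          (algebraMap A (AdicCompletion I A)) rfl).Flat := by
  set m : Ideal A := n.comap (algebraMap A (AdicCompletion I A)) with hm
  haveI : IsNoetherianRing (AdicCompletion I A) :=
    Groth.Agent.Lib.Helper83.isNoetherianRing_adicCompletion I
  haveI : IsNoetherianRing (Localization.AtPrime m) :=
    IsLocalization.isNoetherianRing m.primeCompl _ inferInstance
  haveI : IsNoetherianRing (Localization.AtPrime n) :=
    IsLocalization.isNoetherianRing n.primeCompl _ inferInstance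
  haveI : IsNoetherianRing (AdicCompletion (maximalIdeal (Localization.AtPrime m))
      (Localization.AtPrime m)) :=
    Groth.Agent.Lib.Helper83.isNoetherianRing_adicCompletion _
  have hIm : I ≤ m := fun a ha =>
    map_le_of_isMaximal_adicCompletion A I n (Ideal.mem_map_of_mem _ ha)
  have hφ : I.map (algebraMap A (Localization.AtPrime m)) ≤
      maximalIdeal (Localization.AtPrime m) := by
    rw [← Localization.AtPrime.map_eq_maximalIdeal]
    exact Ideal.map_mono hIm
  let ψ : AdicCompletion I A →+* AdicCompletion (maximalIdeal (Localization.AtPrime m))
      (Localization.AtPrime m) :=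
    complMap I (maximalIdeal (Localization.AtPrime m)) (algebraMap A (Localization.AtPrime m)) hφ
  have hψ_alg : ∀ a : A, ψ (algebraMap A (AdicCompletion I A) a) =
      algebraMap (Localization.AtPrime m) (AdicCompletion (maximalIdeal (Localization.AtPrime m))
        (Localization.AtPrime m)) (algebraMap A (Localization.AtPrime m) a) := by
    intro a
    have h1 : algebraMap A (AdicCompletion I A) a = AdicCompletion.of I A a := by
      rw [AdicCompletion.algebraMap_apply]; rfl
    have h2 : algebraMap (Localization.AtPrime m) (AdicCompletion
        (maximalIdeal (Localization.AtPrime m)) (Localization.AtPrime m))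
        (algebraMap A (Localization.AtPrime m) a) =
        AdicCompletion.of _ _ (algebraMap A (Localization.AtPrime m) a) := by
      rw [AdicCompletion.algebraMap_apply]; rfl
    rw [h1, h2]
    exact complMap_of _ _ _ _ a
  -- the image of `I Â` lies in the maximal ideal
  have hψI : ∀ z ∈ I.map (algebraMap A (AdicCompletion I A)),
      ψ z ∈ maximalIdeal (AdicCompletion (maximalIdeal (Localization.AtPrime m))
        (Localization.AtPrime m)) := by
    intro z hz
    have h1 : ψ z ∈ (I.map (algebraMap A (AdicCompletion I A))).map ψ :=
      Ideal.mem_map_of_mem _ hz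
    rw [Ideal.map_map] at h1
    have h2 : ψ.comp (algebraMap A (AdicCompletion I A)) =
        (algebraMap (Localization.AtPrime m) (AdicCompletion
          (maximalIdeal (Localization.AtPrime m)) (Localization.AtPrime m))).comp
          (algebraMap A (Localization.AtPrime m)) := RingHom.ext hψ_alg
    rw [h2, ← Ideal.map_map] at h1
    rw [AdicCompletion.maximalIdeal_eq_map]
    exact Ideal.map_mono hφ h1
  -- elements of `A`
  have hψA : ∀ a : A, ψ (algebraMap A (AdicCompletion I A) a) ∈
      maximalIdeal (AdicCompletion (maximalIdeal (Localization.AtPrime m))
        (Localization.AtPrime m)) ↔ a ∈ m := by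
    intro a
    rw [hψ_alg, AdicCompletion.maximalIdeal_eq_map]
    constructor
    · intro h
      by_contra ha
      have hu : IsUnit (algebraMap A (Localization.AtPrime m) a) :=
        IsLocalization.map_units (Localization.AtPrime m) (⟨a, ha⟩ : m.primeCompl)
      have hu' := hu.map (algebraMap (Localization.AtPrime m) (AdicCompletion
          (maximalIdeal (Localization.AtPrime m)) (Localization.AtPrime m)))
      rw [← AdicCompletion.maximalIdeal_eq_map] at h
      exact (IsLocalRing.mem_maximalIdeal _).mp h hu'
    · intro ha
      apply Ideal.mem_map_of_mem
      exact (IsLocalization.AtPrime.to_map_mem_maximal_iff (Localization.AtPrime m) m a).mpr ha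
  have hψn : ∀ y : AdicCompletion I A, ψ y ∈
      maximalIdeal (AdicCompletion (maximalIdeal (Localization.AtPrime m))
        (Localization.AtPrime m)) ↔ y ∈ n := by
    intro y
    obtain ⟨a, ha⟩ := exists_sub_mem_map A I y
    have hz := hψI _ ha
    have hzn := map_le_of_isMaximal_adicCompletion A I n ha
    have hy : y = algebraMap A (AdicCompletion I A) a + (y - algebraMap A (AdicCompletion I A) a) := by
      ring
    constructor
    · intro h
      have h1 : ψ (algebraMap A (AdicCompletion I A) a) ∈
          maximalIdeal (AdicCompletion (maximalIdeal (Localization.AtPrime m))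
            (Localization.AtPrime m)) := by
        have : ψ (algebraMap A (AdicCompletion I A) a) =
            ψ y - ψ (y - algebraMap A (AdicCompletion I A) a) := by
          rw [← map_sub]; congr 1; ring
        rw [this]
        exact Ideal.sub_mem _ h hz
      have h2 : a ∈ m := (hψA a).mp h1
      rw [hy]
      exact Ideal.add_mem _ h2 hzn
    · intro h
      have h1 : algebraMap A (AdicCompletion I A) a ∈ n := by
        have : algebraMap A (AdicCompletion I A) a =
            y - (y - algebraMap A (AdicCompletion I A) a) := by ring
        rw [this]
        exact Ideal.sub_mem _ h hzn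
      have h2 : a ∈ m := h1
      rw [hy, map_add]
      exact Ideal.add_mem _ ((hψA a).mpr h2) hz
  -- the map `Â_n → (A_m)^`
  have hunit : ∀ y : n.primeCompl, IsUnit (ψ y) := by
    intro y
    have : ψ y ∉ maximalIdeal (AdicCompletion (maximalIdeal (Localization.AtPrime m))
        (Localization.AtPrime m)) := fun h => y.2 ((hψn y).mp h)
    exact IsLocalRing.notMem_maximalIdeal.mp this
  let χ : Localization.AtPrime n →+* AdicCompletion (maximalIdeal (Localization.AtPrime m))
      (Localization.AtPrime m) := IsLocalization.lift (M := n.primeCompl) hunit
  have hχ : ∀ b : AdicCompletion I A, χ (algebraMap (AdicCompletion I A) (Localization.AtPrime n) b)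
      = ψ b := fun b => IsLocalization.lift_eq hunit b
  -- algebra structures
  letI algAmBn : Algebra (Localization.AtPrime m) (Localization.AtPrime n) :=
    (Localization.localRingHom m n (algebraMap A (AdicCompletion I A)) rfl).toAlgebra
  letI algBnC : Algebra (Localization.AtPrime n) (AdicCompletion
      (maximalIdeal (Localization.AtPrime m)) (Localization.AtPrime m)) := χ.toAlgebra
  letI algBC : Algebra (AdicCompletion I A) (AdicCompletion
      (maximalIdeal (Localization.AtPrime m)) (Localization.AtPrime m)) := ψ.toAlgebra
  haveI tower1 : IsScalarTower (Localization.AtPrime m) (Localization.AtPrime n) (AdicCompletion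
      (maximalIdeal (Localization.AtPrime m)) (Localization.AtPrime m)) := by
    refine IsScalarTower.of_algebraMap_eq' ?_
    apply IsLocalization.ringHom_ext m.primeCompl
    ext a
    simp only [RingHom.comp_apply]
    rw [RingHom.algebraMap_toAlgebra, RingHom.algebraMap_toAlgebra,
      Localization.localRingHom_to_map, hχ, hψ_alg]
  haveI tower2 : IsScalarTower (AdicCompletion I A) (Localization.AtPrime n) (AdicCompletion
      (maximalIdeal (Localization.AtPrime m)) (Localization.AtPrime m)) :=
    IsScalarTower.of_algebraMap_eq (fun b => (hχ b).symm)
  haveI tower3 : IsScalarTower A (Localization.AtPrime m) (Localization.AtPrime n) := by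
    refine IsScalarTower.of_algebraMap_eq (fun a => ?_)
    rw [RingHom.algebraMap_toAlgebra, Localization.localRingHom_to_map,
      IsScalarTower.algebraMap_apply A (AdicCompletion I A) (Localization.AtPrime n)]
  -- flatness
  have hflatA : (algebraMap A (AdicCompletion I A)).Flat :=
    RingHom.flat_algebraMap_iff.mpr inferInstance
  haveI : Module.Flat (Localization.AtPrime m) (Localization.AtPrime n) :=
    RingHom.flat_algebraMap_iff.mp (RingHom.Flat.localRingHom hflatA n m rfl)
  haveI : Module.Flat (AdicCompletion I A) (AdicCompletion
      (maximalIdeal (Localization.AtPrime m)) (Localization.AtPrime m)) :=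
    Groth.Agent.Lib.Helper83.FlatCompl.flat_of_map_adicCompletion I
      (maximalIdeal (Localization.AtPrime m)) (algebraMap A (Localization.AtPrime m)) hφ
      (RingHom.flat_algebraMap_iff.mpr inferInstance) ψ (complMap_of _ _ _ _)
  haveI : Module.Flat (Localization.AtPrime n) (AdicCompletion
      (maximalIdeal (Localization.AtPrime m)) (Localization.AtPrime m)) :=
    (Module.flat_iff_of_isLocalization (Localization.AtPrime n) n.primeCompl _).mpr inferInstance
  haveI : IsLocalHom (algebraMap (Localization.AtPrime n) (AdicCompletion
      (maximalIdeal (Localization.AtPrime m)) (Localization.AtPrime m))) := by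
    apply ((IsLocalRing.local_hom_TFAE _).out 0 2).mpr
    have hmax : maximalIdeal (Localization.AtPrime n) =
        n.map (algebraMap (AdicCompletion I A) (Localization.AtPrime n)) :=
      (Localization.AtPrime.map_eq_maximalIdeal).symm
    rw [hmax, Ideal.map_map, Ideal.map_le_iff_le_comap]
    intro b hb
    rw [Ideal.mem_comap, RingHom.comp_apply, RingHom.algebraMap_toAlgebra, hχ]
    exact (hψn b).mpr hb
  haveI : Module.FaithfullyFlat (Localization.AtPrime n) (AdicCompletion
      (maximalIdeal (Localization.AtPrime m)) (Localization.AtPrime m)) :=
    Module.FaithfullyFlat.of_flat_of_isLocalHom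
  refine ⟨χ, fun x => ?_, ?_, ?_, ?_⟩
  · exact (IsScalarTower.algebraMap_apply (Localization.AtPrime m) (Localization.AtPrime n)
      (AdicCompletion (maximalIdeal (Localization.AtPrime m)) (Localization.AtPrime m)) x).symm
  · exact (inferInstance : Module.Flat (Localization.AtPrime n) (AdicCompletion
      (maximalIdeal (Localization.AtPrime m)) (Localization.AtPrime m)))
  · exact (inferInstance : IsLocalHom (algebraMap (Localization.AtPrime n) (AdicCompletion
      (maximalIdeal (Localization.AtPrime m)) (Localization.AtPrime m))))
  · exact (inferInstance : Module.Flat (Localization.AtPrime m) (Localization.AtPrime n))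

end Groth.Agent.Lib.Helper96
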