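import Mathlib
import Groth.Agent.Lib.Helper96.ComplRegular
import Groth.Agent.Lib.Helper69.GRingLocal
import Groth.Agent.Lib.Helper83.FlatLocalDim

/-!
# The completion map of a quotient of a local ring with regular completion map (helper96)
-/

set_option autoImplicit false
set_option linter.style.haveILetI false

universe u

namespace Groth.Agent.Lib.Helper96

open IsLocalRing TensorProduct

section

variable (A : Type u) [CommRing A] [IsNoetherianRing A] (𝔪 I : Ideal A)

open Groth.Agent.Lib.Helper15.ComplQuot in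
theorem complQuot_surjective :
    Function.Surjective (Φ 𝔪 I) :=
  Groth.Agent.Lib.Helper83.ComplMap.surjective 𝔪 (𝔪.map (Ideal.Quotient.mk I))
    (Ideal.Quotient.mk I) (Φ 𝔪 I) (Φ_of 𝔪 I) 𝔪.fg_of_isNoetherianRing rfl
    (fun b => by
      obtain ⟨a, rfl⟩ := Ideal.Quotient.mk_surjective b
      exact ⟨a, by simp⟩)

open Groth.Agent.Lib.Helper15.ComplQuot in
/-- `(A/I) ⊗_A Â ≅ (A/I)^` compatibly with the maps from `A/I`. -/
theorem exists_tensor_equiv_complQuot :
    ∃ e : ((A ⧸ I) ⊗[A] AdicCompletion 𝔪 A) ≃+*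
        AdicCompletion (𝔪.map (Ideal.Quotient.mk I)) (A ⧸ I),
      ∀ b : A ⧸ I, e (algebraMap (A ⧸ I) ((A ⧸ I) ⊗[A] AdicCompletion 𝔪 A) b) =
        algebraMap (A ⧸ I) (AdicCompletion (𝔪.map (Ideal.Quotient.mk I)) (A ⧸ I)) b := by
  let e1 := Algebra.TensorProduct.quotIdealMapEquivQuotTensor (AdicCompletion 𝔪 A) I
  let e2 : (AdicCompletion 𝔪 A ⧸ I.map (algebraMap A (AdicCompletion 𝔪 A))) ≃+*
      (AdicCompletion 𝔪 A ⧸ RingHom.ker (Φ 𝔪 I)) :=
    Ideal.quotEquivOfEq (ker_Φ 𝔪 I).symm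
  let e3 := RingHom.quotientKerEquivOfSurjective (complQuot_surjective A 𝔪 I)
  refine ⟨e1.symm.toRingEquiv.trans (e2.trans e3), fun b => ?_⟩
  obtain ⟨a, rfl⟩ := Ideal.Quotient.mk_surjective b
  rw [RingEquiv.trans_apply, RingEquiv.trans_apply]
  have h1 : e1.symm.toRingEquiv (algebraMap (A ⧸ I) ((A ⧸ I) ⊗[A] AdicCompletion 𝔪 A)
      (Ideal.Quotient.mk I a)) =
      Ideal.Quotient.mk _ (algebraMap A (AdicCompletion 𝔪 A) a) := by
    change e1.symm _ = _
    rw [AlgEquiv.commutes]
    rfl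
  rw [h1]
  change Φ 𝔪 I (algebraMap A (AdicCompletion 𝔪 A) a) = _
  rw [AdicCompletion.algebraMap_apply, AdicCompletion.algebraMap_apply]
  exact Φ_of 𝔪 I a

end

/-- If the completion map of a Noetherian local ring `A` is regular, so is the completion map of
every quotient `A/I` (completion along the extended maximal ideal). -/
theorem isRegularHom_complQuot_aux (A : Type u) [CommRing A] [IsNoetherianRing A] [IsLocalRing A]
    (hA : CAlg.IsRegularHom A (AdicCompletion (maximalIdeal A) A)) (I : Ideal A)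
    (J : Ideal (A ⧸ I)) (hJ : J = (maximalIdeal A).map (Ideal.Quotient.mk I)) :
    CAlg.IsRegularHom (A ⧸ I) (AdicCompletion J (A ⧸ I)) := by
  subst hJ
  obtain ⟨e, he⟩ := exists_tensor_equiv_complQuot A (maximalIdeal A) I
  haveI : IsNoetherianRing (AdicCompletion (maximalIdeal A) A) :=
    Groth.Agent.Lib.Helper83.isNoetherianRing_adicCompletion _
  haveI : IsNoetherianRing ((A ⧸ I) ⊗[A] AdicCompletion (maximalIdeal A) A) :=
    isNoetherianRing_of_ringEquiv _
      (Algebra.TensorProduct.quotIdealMapEquivQuotTensor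
        (AdicCompletion (maximalIdeal A) A) I).toRingEquiv
  have h1 : CAlg.IsRegularHom (A ⧸ I) ((A ⧸ I) ⊗[A] AdicCompletion (maximalIdeal A) A) :=
    isRegularHom_baseChange A (AdicCompletion (maximalIdeal A) A) (A ⧸ I) hA
  exact Groth.Agent.Lib.Helper69.GRingLocal.isRegularHom_of_ringEquiv (RingEquiv.refl _) e
    (fun r => he r) h1

end Groth.Agent.Lib.Helper96
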