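import Mathlib
import Groth.Agent.Lib.Helper76.PSCohen

/-!
# Completed differentials of a power series ring (helper96)

For `P = R⟦X₁, …, X_r⟧` the `(X)`-adic completion of `Ω[P⁄R]` is free of rank `r` on the `dX_i`.
-/

set_option autoImplicit false

universe u

namespace Groth.Agent.Lib.Helper96.PSKaehler

open MvPowerSeries
open Groth.Agent.Lib.Helper76.LT Groth.Agent.Lib.Helper76.PSComplete

/-- A derivation maps `J ^ (n + 1)` into `J ^ n • ⊤`. -/
theorem derivation_mem_pow_smul_top {R A M : Type*} [CommRing R] [CommRing A] [Algebra R A]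
    [AddCommGroup M] [Module A M] [Module R M] [IsScalarTower R A M]
    (E : Derivation R A M) (J : Ideal A) (n : ℕ) :
    ∀ {x : A}, x ∈ J ^ (n + 1) → E x ∈ (J ^ n • ⊤ : Submodule A M) := by
  induction n with
  | zero =>
    intro x _
    rw [pow_zero, Ideal.one_eq_top, Submodule.top_smul]
    trivial
  | succ n ih =>
    intro x hx
    rw [pow_succ] at hx
    refine Submodule.mul_induction_on hx ?_ ?_
    · intro a ha b hb
      rw [Derivation.leibniz]
      refine Submodule.add_mem _ (Submodule.smul_mem_smul ha Submodule.mem_top) ?_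
      have h1 : b • E a ∈ (J • (J ^ n • ⊤ : Submodule A M) : Submodule A M) :=
        Submodule.smul_mem_smul hb (ih ha)
      rwa [← Submodule.mul_smul, ← pow_succ'] at h1
    · intro a b ha hb
      rw [map_add]
      exact Submodule.add_mem _ ha hb

section

variable (R : Type u) [CommRing R] (r : ℕ)

/-- The "error" derivation `F ↦ dF - ∑ ∂F/∂X_i dX_i`. -/
noncomputable def errDer : Derivation R (MvPowerSeries (Fin r) R)
    (Ω[MvPowerSeries (Fin r) R⁄R]) :=
  KaehlerDifferential.D R (MvPowerSeries (Fin r) R) -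
    ∑ i : Fin r, (LinearMap.toSpanSingleton (MvPowerSeries (Fin r) R)
      (Ω[MvPowerSeries (Fin r) R⁄R])
      (KaehlerDifferential.D R (MvPowerSeries (Fin r) R) (X i))).compDer (pderiv R i)

theorem errDer_apply (F : MvPowerSeries (Fin r) R) :
    errDer R r F = KaehlerDifferential.D R (MvPowerSeries (Fin r) R) F -
      ∑ i : Fin r, pderiv R i F • KaehlerDifferential.D R (MvPowerSeries (Fin r) R) (X i) := by
  have hsum : ∀ (f : Fin r → Derivation R (MvPowerSeries (Fin r) R)
      (Ω[MvPowerSeries (Fin r) R⁄R])), (∑ i : Fin r, f i) F = ∑ i : Fin r, f i F := by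
    intro f
    have := map_sum (Derivation.coeFnAddMonoidHom (R := R) (A := MvPowerSeries (Fin r) R)
      (M := Ω[MvPowerSeries (Fin r) R⁄R])) f Finset.univ
    have h2 := congrFun this F
    rw [Finset.sum_apply] at h2
    exact h2
  rw [errDer, Derivation.sub_apply, hsum]
  rfl

theorem errDer_X (j : Fin r) : errDer R r (X j) = 0 := by
  classical
  rw [errDer_apply, sub_eq_zero]
  rw [Finset.sum_eq_single j]
  · rw [pderiv_X_self, one_smul]
  · intro i _ hij
    rw [pderiv_X_of_ne (Ne.symm hij), zero_smul]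
  · intro h
    exact absurd (Finset.mem_univ j) h

theorem errDer_coe (p : MvPolynomial (Fin r) R) :
    errDer R r (p : MvPowerSeries (Fin r) R) = 0 := by
  induction p using MvPolynomial.induction_on with
  | C a =>
    rw [MvPolynomial.coe_C]
    exact (errDer R r).map_algebraMap a
  | add p q hp hq => rw [MvPolynomial.coe_add, map_add, hp, hq, add_zero]
  | mul_X p i hp =>
    rw [MvPolynomial.coe_mul, MvPolynomial.coe_X, Derivation.leibniz, hp, errDer_X, smul_zero,
      smul_zero, add_zero]

theorem errDer_mem (n : ℕ) (F : MvPowerSeries (Fin r) R) :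
    errDer R r F ∈ (varIdeal (Fin r) R ^ n • ⊤ :
      Submodule (MvPowerSeries (Fin r) R) (Ω[MvPowerSeries (Fin r) R⁄R])) := by
  have h1 : F = ((truncTotal (n + 1) F : MvPolynomial (Fin r) R) : MvPowerSeries (Fin r) R) +
      (F - ((truncTotal (n + 1) F : MvPolynomial (Fin r) R) : MvPowerSeries (Fin r) R)) := by ring
  have h2 : Ord (n + 1)
      (F - ((truncTotal (n + 1) F : MvPolynomial (Fin r) R) : MvPowerSeries (Fin r) R)) := by
    intro d hd
    rw [map_sub, MvPolynomial.coeff_coe, coeff_truncTotal _ hd, sub_self]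
  rw [h1, map_add, errDer_coe, zero_add]
  exact derivation_mem_pow_smul_top _ _ n (mem_varIdeal_pow_of_ord h2)

end

section

variable (R : Type u) [CommRing R] (r : ℕ)

/-- the partial derivative as a linear form on `Ω` -/
noncomputable def dform (i : Fin r) :
    (Ω[MvPowerSeries (Fin r) R⁄R]) →ₗ[MvPowerSeries (Fin r) R] MvPowerSeries (Fin r) R :=
  (pderiv R i).liftKaehlerDifferential

theorem dform_D (i : Fin r) (F : MvPowerSeries (Fin r) R) :
    dform R r i (KaehlerDifferential.D R (MvPowerSeries (Fin r) R) F) = pderiv R i F :=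
  Derivation.liftKaehlerDifferential_comp_D _ F

/-- the map `a ↦ ∑ a_i dX_i` -/
noncomputable def sMap : (Fin r → MvPowerSeries (Fin r) R) →ₗ[MvPowerSeries (Fin r) R]
    (Ω[MvPowerSeries (Fin r) R⁄R]) :=
  Fintype.linearCombination (MvPowerSeries (Fin r) R)
    (fun i => KaehlerDifferential.D R (MvPowerSeries (Fin r) R) (X i))

theorem sMap_apply (a : Fin r → MvPowerSeries (Fin r) R) :
    sMap R r a = ∑ i, a i • KaehlerDifferential.D R (MvPowerSeries (Fin r) R) (X i) := by
  simp [sMap, Fintype.linearCombination_apply]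

theorem dform_sMap (a : Fin r → MvPowerSeries (Fin r) R) (j : Fin r) :
    dform R r j (sMap R r a) = a j := by
  classical
  rw [sMap_apply, map_sum]
  simp only [map_smul, dform_D, smul_eq_mul]
  rw [Finset.sum_eq_single j]
  · rw [pderiv_X_self, mul_one]
  · intro i _ hij
    rw [pderiv_X_of_ne hij, mul_zero]
  · intro h
    exact absurd (Finset.mem_univ j) h

theorem sub_sMap_mem (n : ℕ) (ω : Ω[MvPowerSeries (Fin r) R⁄R]) :
    ω - sMap R r (fun i => dform R r i ω) ∈ (varIdeal (Fin r) R ^ n • ⊤ :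
      Submodule (MvPowerSeries (Fin r) R) (Ω[MvPowerSeries (Fin r) R⁄R])) := by
  let ε : (Ω[MvPowerSeries (Fin r) R⁄R]) →ₗ[MvPowerSeries (Fin r) R]
      (Ω[MvPowerSeries (Fin r) R⁄R]) :=
    LinearMap.id - (sMap R r) ∘ₗ (LinearMap.pi (fun i => dform R r i))
  have hε : ∀ ω, ε ω = ω - sMap R r (fun i => dform R r i ω) := fun ω => rfl
  have hεD : ∀ F, ε (KaehlerDifferential.D R (MvPowerSeries (Fin r) R) F) = errDer R r F := by
    intro F
    rw [hε, errDer_apply, sMap_apply]
    simp only [dform_D]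
  have hle : (⊤ : Submodule (MvPowerSeries (Fin r) R) (Ω[MvPowerSeries (Fin r) R⁄R])) ≤
      (varIdeal (Fin r) R ^ n • ⊤ : Submodule (MvPowerSeries (Fin r) R)
        (Ω[MvPowerSeries (Fin r) R⁄R])).comap ε := by
    refine le_trans (le_of_eq (KaehlerDifferential.span_range_derivation R
      (MvPowerSeries (Fin r) R)).symm) ?_
    rw [Submodule.span_le]
    rintro _ ⟨F, rfl⟩
    rw [SetLike.mem_coe, Submodule.mem_comap, hεD]
    exact errDer_mem R r n F
  have := hle (Submodule.mem_top (x := ω))
  rw [Submodule.mem_comap, hε] at this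
  exact this

theorem dform_mem (i : Fin r) (n : ℕ) {ω : Ω[MvPowerSeries (Fin r) R⁄R]}
    (hω : ω ∈ (varIdeal (Fin r) R ^ n • ⊤ :
      Submodule (MvPowerSeries (Fin r) R) (Ω[MvPowerSeries (Fin r) R⁄R]))) :
    dform R r i ω ∈ varIdeal (Fin r) R ^ n := by
  refine Submodule.smul_induction_on hω ?_ ?_
  · intro a ha x _
    rw [map_smul, smul_eq_mul]
    exact Ideal.mul_mem_right _ _ ha
  · intro x y hx hy
    rw [map_add]
    exact Ideal.add_mem _ hx hy

theorem sMap_mem (n : ℕ) {a : Fin r → MvPowerSeries (Fin r) R}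
    (ha : ∀ i, a i ∈ varIdeal (Fin r) R ^ n) :
    sMap R r a ∈ (varIdeal (Fin r) R ^ n • ⊤ :
      Submodule (MvPowerSeries (Fin r) R) (Ω[MvPowerSeries (Fin r) R⁄R])) := by
  rw [sMap_apply]
  exact Submodule.sum_mem _ fun i _ => Submodule.smul_mem_smul (ha i) Submodule.mem_top

end

section

variable (R : Type u) [CommRing R] (r : ℕ)

/-- The comparison map `P^r → Ω̂`. -/
noncomputable def alpha : (Fin r → MvPowerSeries (Fin r) R) →ₗ[MvPowerSeries (Fin r) R]
    AdicCompletion (varIdeal (Fin r) R) (Ω[MvPowerSeries (Fin r) R⁄R]) :=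
  (AdicCompletion.of (varIdeal (Fin r) R) (Ω[MvPowerSeries (Fin r) R⁄R])) ∘ₗ sMap R r

theorem alpha_injective : Function.Injective (alpha R r) := by
  rw [← LinearMap.ker_eq_bot, LinearMap.ker_eq_bot']
  intro a ha
  funext j
  refine eq_of_forall_sub_mem (I := varIdeal (Fin r) R) fun n => ?_
  rw [Pi.zero_apply, sub_zero]
  have h1 : (alpha R r a).val n = 0 := by rw [ha]; rfl
  have h2 : sMap R r a ∈ (varIdeal (Fin r) R ^ n • ⊤ :
      Submodule (MvPowerSeries (Fin r) R) (Ω[MvPowerSeries (Fin r) R⁄R])) := by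
    have : (alpha R r a).val n = Submodule.mkQ _ (sMap R r a) := AdicCompletion.of_apply _ _ _ _
    rw [this, Submodule.mkQ_apply, Submodule.Quotient.mk_eq_zero] at h1
    exact h1
  have h3 := dform_mem R r j n h2
  rwa [dform_sMap] at h3

theorem alpha_surjective : Function.Surjective (alpha R r) := by
  intro x
  obtain ⟨f, rfl⟩ := AdicCompletion.mk_surjective _ _ x
  -- the coefficient sequences are Cauchy
  have hcauchy : ∀ i : Fin r, ∀ {m n : ℕ}, m ≤ n → dform R r i (f m) ≡ dform R r i (f n)
      [SMOD (varIdeal (Fin r) R ^ m • ⊤ : Submodule (MvPowerSeries (Fin r) R)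
        (MvPowerSeries (Fin r) R))] := by
    intro i m n hmn
    rw [SModEq.sub_mem, smul_eq_mul, Ideal.mul_top, ← map_sub]
    refine dform_mem R r i m ?_
    have := f.property hmn
    rwa [SModEq.sub_mem] at this
  choose L hL using fun i => IsPrecomplete.prec' (I := varIdeal (Fin r) R)
    (M := MvPowerSeries (Fin r) R) (fun n => dform R r i (f n)) (hcauchy i)
  refine ⟨L, ?_⟩
  apply AdicCompletion.ext
  intro n
  have h1 : (alpha R r L).val n = Submodule.mkQ _ (sMap R r L) := AdicCompletion.of_apply _ _ _ _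
  rw [h1, AdicCompletion.mk_apply_coe, Submodule.mkQ_apply, Submodule.mkQ_apply,
    Submodule.Quotient.eq]
  -- `sMap L - f n = sMap (L - φ (f n)) - (f n - sMap (φ (f n)))`
  have h2 : sMap R r L - f n = sMap R r (fun i => L i - dform R r i (f n)) -
      (f n - sMap R r (fun i => dform R r i (f n))) := by
    have : (fun i => L i - dform R r i (f n)) = L - fun i => dform R r i (f n) := rfl
    rw [this, map_sub]
    abel
  rw [h2]
  refine Submodule.sub_mem _ (sMap_mem R r n fun i => ?_) (sub_sMap_mem R r n (f n))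
  have := (hL i n).symm
  rwa [SModEq.sub_mem, smul_eq_mul, Ideal.mul_top] at this

/-- **The completed module of differentials of `R⟦X₁,…,X_r⟧` is free of rank `r`.** -/
noncomputable def equiv : (Fin r → MvPowerSeries (Fin r) R) ≃ₗ[MvPowerSeries (Fin r) R]
    AdicCompletion (varIdeal (Fin r) R) (Ω[MvPowerSeries (Fin r) R⁄R]) :=
  LinearEquiv.ofBijective (alpha R r) ⟨alpha_injective R r, alpha_surjective R r⟩

end

end Groth.Agent.Lib.Helper96.PSKaehler
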