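import Mathlib

/-!
# Finite length modules over a local algebra with finite residue field are finite over the base field
(helper96)
-/

set_option autoImplicit false

namespace Groth.Agent.Lib.Helper96

open IsLocalRing

/-- Let `A` be a local ring which is an algebra over a field `k₀` with residue field finite over
`k₀`. Every `A`-module of finite length is finite-dimensional over `k₀`. -/
theorem finite_of_isFiniteLength {k₀ A : Type*} [Field k₀] [CommRing A] [IsLocalRing A]
    [Algebra k₀ A] [Module.Finite k₀ (ResidueField A)] {M : Type*} [AddCommGroup M] [Module A M]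
    (h : IsFiniteLength A M) : ∀ [Module k₀ M] [IsScalarTower k₀ A M], Module.Finite k₀ M := by
  induction h with
  | of_subsingleton => intro _ _; infer_instance
  | @of_simple_quotient M _ _ N hsimple _ ih =>
    intro _ _
    haveI : Module.Finite k₀ N := ih
    obtain ⟨I, hI, ⟨e⟩⟩ := isSimpleModule_iff_quot_maximal.mp hsimple
    have hIm : I = maximalIdeal A := IsLocalRing.eq_maximalIdeal hI
    subst hIm
    haveI : Module.Finite k₀ (A ⧸ maximalIdeal A) :=
      (inferInstance : Module.Finite k₀ (ResidueField A))
    haveI : Module.Finite k₀ (M ⧸ N) := Module.Finite.equiv (e.restrictScalars k₀).symm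
    haveI : Module.Finite k₀ ↥(N.restrictScalars k₀) :=
      (inferInstance : Module.Finite k₀ N)
    haveI : Module.Finite k₀ (M ⧸ N.restrictScalars k₀) :=
      Module.Finite.equiv (Submodule.Quotient.restrictScalarsEquiv k₀ N).symm
    exact Module.Finite.of_submodule_quotient (N.restrictScalars k₀)

/-- An Artinian quotient of a Noetherian local `k₀`-algebra with residue field finite over `k₀` is
finite-dimensional over `k₀`. -/
theorem finite_quotient_of_isArtinianRing {k₀ A : Type*} [Field k₀] [CommRing A] [IsLocalRing A]
    [IsNoetherianRing A] [Algebra k₀ A] [Module.Finite k₀ (ResidueField A)] (I : Ideal A)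
    [IsArtinianRing (A ⧸ I)] : Module.Finite k₀ (A ⧸ I) := by
  haveI : IsArtinian A (A ⧸ I) :=
    isArtinian_of_surjective_algebraMap (R := A ⧸ I) (S := A) Ideal.Quotient.mk_surjective
  exact finite_of_isFiniteLength (A := A)
    (isFiniteLength_iff_isNoetherian_isArtinian.mpr ⟨inferInstance, inferInstance⟩)

end Groth.Agent.Lib.Helper96
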