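import Mathlib
import Groth.Agent.Lib.Helper96.RegularLocalGlobal
import Groth.Agent.Lib.Helper49.HomLoc

/-!
# Regularity of a ring map is local (helper96)
-/

set_option autoImplicit false
set_option linter.style.haveILetI false

universe u

namespace Groth.Agent.Lib.Helper96

open IsLocalRing TensorProduct

variable (R Λ : Type u) [CommRing R] [CommRing Λ] [Algebra R Λ] [IsNoetherianRing Λ]

/-- Global regularity implies regularity of the induced maps of local rings. -/
theorem isRegularHom_localRingHom (h : CAlg.IsRegularHom R Λ) (q : Ideal Λ) [q.IsPrime] :
    letI := (Localization.localRingHom (Ideal.comap (algebraMap R Λ) q) q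
      (algebraMap R Λ) rfl).toAlgebra
    CAlg.IsRegularHom (Localization.AtPrime (Ideal.comap (algebraMap R Λ) q))
      (Localization.AtPrime q) := by
  letI := (Localization.localRingHom (Ideal.comap (algebraMap R Λ) q) q
      (algebraMap R Λ) rfl).toAlgebra
  haveI : IsNoetherianRing (Localization.AtPrime q) :=
    IsLocalization.isNoetherianRing q.primeCompl _ inferInstance
  have h1 : CAlg.IsRegularHom R (Localization.AtPrime q) :=
    Groth.Agent.Lib.Helper49.RegularHom.isRegularHom_comp R Λ (Localization.AtPrime q) h
      (isRegularHom_localization Λ q.primeCompl)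
      (fun p' _ => isNoetherianRing_fiber R (Localization.AtPrime q) p')
  haveI : IsScalarTower R (Localization.AtPrime (Ideal.comap (algebraMap R Λ) q))
      (Localization.AtPrime q) := by
    refine IsScalarTower.of_algebraMap_eq (fun a => ?_)
    rw [RingHom.algebraMap_toAlgebra, Localization.localRingHom_to_map,
      IsScalarTower.algebraMap_apply R Λ (Localization.AtPrime q)]
  haveI : IsLocalization (Algebra.algebraMapSubmonoid (Localization.AtPrime q)
      (Ideal.comap (algebraMap R Λ) q).primeCompl) (Localization.AtPrime q) := by
    apply IsLocalization.of_le_isUnit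
    rintro _ ⟨s, hs, rfl⟩
    rw [IsUnit.mem_submonoid_iff, IsScalarTower.algebraMap_apply R Λ (Localization.AtPrime q)]
    exact IsLocalization.map_units (Localization.AtPrime q)
      (⟨algebraMap R Λ s, hs⟩ : q.primeCompl)
  exact Groth.Agent.Lib.Helper49.HomLoc.isRegularHom_of_isLocalization R (Localization.AtPrime q)
    (Ideal.comap (algebraMap R Λ) q).primeCompl
    (Localization.AtPrime (Ideal.comap (algebraMap R Λ) q)) (Localization.AtPrime q) h1

/-- Regularity at all maximal ideals of the target implies regularity. -/
theorem isRegularHom_of_forall_isMaximal_localRingHom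
    (H : ∀ (n : Ideal Λ) [n.IsMaximal],
      letI := (Localization.localRingHom (Ideal.comap (algebraMap R Λ) n) n
        (algebraMap R Λ) rfl).toAlgebra
      CAlg.IsRegularHom (Localization.AtPrime (Ideal.comap (algebraMap R Λ) n))
        (Localization.AtPrime n)) :
    CAlg.IsRegularHom R Λ := by
  have tower : ∀ (n : Ideal Λ) [n.IsMaximal],
      letI := (Localization.localRingHom (Ideal.comap (algebraMap R Λ) n) n
        (algebraMap R Λ) rfl).toAlgebra
      IsScalarTower R (Localization.AtPrime (Ideal.comap (algebraMap R Λ) n))
        (Localization.AtPrime n) := by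
    intro n _
    letI := (Localization.localRingHom (Ideal.comap (algebraMap R Λ) n) n
        (algebraMap R Λ) rfl).toAlgebra
    refine IsScalarTower.of_algebraMap_eq (fun a => ?_)
    rw [RingHom.algebraMap_toAlgebra, Localization.localRingHom_to_map,
      IsScalarTower.algebraMap_apply R Λ (Localization.AtPrime n)]
  haveI : Module.Flat R Λ := by
    apply Module.flat_of_isLocalized_maximal Λ Λ (fun P => Localization.AtPrime P)
      (fun P => Algebra.linearMap Λ _)
    intro P _
    letI := (Localization.localRingHom (Ideal.comap (algebraMap R Λ) P) P
        (algebraMap R Λ) rfl).toAlgebra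
    haveI := tower P
    haveI : Module.Flat (Localization.AtPrime (Ideal.comap (algebraMap R Λ) P))
        (Localization.AtPrime P) := (H P).1
    exact Module.Flat.trans R (Localization.AtPrime (Ideal.comap (algebraMap R Λ) P))
      (Localization.AtPrime P)
  refine isRegularHom_of_forall_isMaximal R Λ (fun n _ => ?_)
  letI := (Localization.localRingHom (Ideal.comap (algebraMap R Λ) n) n
      (algebraMap R Λ) rfl).toAlgebra
  haveI := tower n
  haveI : IsNoetherianRing (Localization.AtPrime n) :=
    IsLocalization.isNoetherianRing n.primeCompl _ inferInstance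
  exact Groth.Agent.Lib.Helper49.RegularHom.isRegularHom_comp R
    (Localization.AtPrime (Ideal.comap (algebraMap R Λ) n)) (Localization.AtPrime n)
    (isRegularHom_localization R (Ideal.comap (algebraMap R Λ) n).primeCompl) (H n)
    (fun p' _ => isNoetherianRing_fiber R (Localization.AtPrime n) p')

end Groth.Agent.Lib.Helper96
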