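import Mathlib
import Groth.Agent.S9405
import Groth.Agent.S2455
import Groth.Agent.Lib.Helper96.RegularHom
import Groth.Agent.Lib.Helper96.RegularLocalGlobal2
import Groth.Agent.Lib.Helper96.GRingCompletion
import Groth.Agent.Lib.Helper96.ComplRegular
import Groth.Agent.Lib.Helper69.GRingLocal

/-!
# Formal fibres of finite algebras (helper96)

Let `A` be a Noetherian local ring whose completion map `A → Â` is regular, `C` a finite
`A`-algebra and `N` a maximal ideal of `T = Â ⊗_A C`, lying over the prime `n` of `C`.
Then `T_N` is the completion of `C_n`, and `C_n → (C_n)^` is regular.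
-/

set_option autoImplicit false
set_option linter.style.haveILetI false

universe u

namespace Groth.Agent.Lib.Helper96

open IsLocalRing TensorProduct

section Setup

variable (A : Type u) [CommRing A] [IsNoetherianRing A] [IsLocalRing A]
  (C : Type u) [CommRing C] [Algebra A C] [Module.Finite A C]

instance isNoetherianRing_cplInst : IsNoetherianRing (AdicCompletion (maximalIdeal A) A) :=
  Groth.Agent.Lib.Helper83.isNoetherianRing_adicCompletion _

instance isAdicComplete_cplInst :
    IsAdicComplete (maximalIdeal (AdicCompletion (maximalIdeal A) A))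
      (AdicCompletion (maximalIdeal A) A) := by
  rw [AdicCompletion.maximalIdeal_eq_map]
  exact AdicCompletion.isAdicComplete_self _ (maximalIdeal A).fg_of_isNoetherianRing

/-- Every element of `Â ⊗ C` is congruent to an element of `C` modulo the maximal ideal of `Â`. -/
theorem exists_sub_one_tmul_mem (t : AdicCompletion (maximalIdeal A) A ⊗[A] C) :
    ∃ c : C, t - 1 ⊗ₜ[A] c ∈ (maximalIdeal (AdicCompletion (maximalIdeal A) A)).map
      (algebraMap (AdicCompletion (maximalIdeal A) A) (AdicCompletion (maximalIdeal A) A ⊗[A] C)) := by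
  induction t using TensorProduct.induction_on with
  | zero => exact ⟨0, by simp⟩
  | tmul x c =>
    obtain ⟨a, ha⟩ := exists_sub_mem_map A (maximalIdeal A) x
    rw [← AdicCompletion.maximalIdeal_eq_map] at ha
    refine ⟨a • c, ?_⟩
    have h1 : x ⊗ₜ[A] c - 1 ⊗ₜ[A] (a • c) =
        algebraMap (AdicCompletion (maximalIdeal A) A) (AdicCompletion (maximalIdeal A) A ⊗[A] C)
          (x - algebraMap A (AdicCompletion (maximalIdeal A) A) a) * (1 ⊗ₜ[A] c) := by
      rw [Algebra.TensorProduct.algebraMap_apply, Algebra.TensorProduct.tmul_mul_tmul, one_mul,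
        mul_one, Algebra.algebraMap_self_apply, sub_tmul, ← smul_tmul, Algebra.algebraMap_eq_smul_one]
    rw [h1]
    exact Ideal.mul_mem_right _ _ (Ideal.mem_map_of_mem _ ha)
  | add x y hx hy =>
    obtain ⟨c, hc⟩ := hx
    obtain ⟨d, hd⟩ := hy
    refine ⟨c + d, ?_⟩
    have : x + y - 1 ⊗ₜ[A] (c + d) = (x - 1 ⊗ₜ[A] c) + (y - 1 ⊗ₜ[A] d) := by
      rw [tmul_add]; ring
    rw [this]
    exact Ideal.add_mem _ hc hd

end Setup

section Abstract

variable (C T : Type u) [CommRing C] [CommRing T] [IsNoetherianRing C] [IsNoetherianRing T]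
  [Algebra C T]

/-- If `C → T` is regular, `N` is a maximal ideal of `T` over the prime `n` of `C` such that
`T_N` is complete, `N T_N = n T_N` and `C → T/N` is surjective, then `T_N` is the completion of
`C_n`; in particular `C_n → (C_n)^` is regular. -/
theorem isRegularHom_adicCompletion_of_complete_localization
    (hreg : CAlg.IsRegularHom C T) (N : Ideal T) [hN : N.IsMaximal]
    [hc : IsAdicComplete (maximalIdeal (Localization.AtPrime N)) (Localization.AtPrime N)]
    (hNn : N ≤ (N.comap (algebraMap C T)).map (algebraMap C T))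
    (hres : ∀ t : T, ∃ c : C, t - algebraMap C T c ∈ N) :
    CAlg.IsRegularHom (Localization.AtPrime (N.comap (algebraMap C T)))
      (AdicCompletion (maximalIdeal (Localization.AtPrime (N.comap (algebraMap C T))))
        (Localization.AtPrime (N.comap (algebraMap C T)))) := by
  classical
  set n : Ideal C := N.comap (algebraMap C T) with hn
  letI algCT : Algebra (Localization.AtPrime n) (Localization.AtPrime N) :=
    (Localization.localRingHom n N (algebraMap C T) rfl).toAlgebra
  have h2 : CAlg.IsRegularHom (Localization.AtPrime n) (Localization.AtPrime N) :=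
    isRegularHom_localRingHom C T hreg N
  haveI : IsNoetherianRing (Localization.AtPrime n) :=
    IsLocalization.isNoetherianRing n.primeCompl _ inferInstance
  haveI : IsNoetherianRing (Localization.AtPrime N) :=
    IsLocalization.isNoetherianRing N.primeCompl _ inferInstance
  haveI hloc : IsLocalHom (algebraMap (Localization.AtPrime n) (Localization.AtPrime N)) :=
    Localization.isLocalHom_localRingHom n N (algebraMap C T) rfl
  haveI hflat : Module.Flat (Localization.AtPrime n) (Localization.AtPrime N) := h2.1
  -- notation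
  set Cn := Localization.AtPrime n with hCn
  set TN := Localization.AtPrime N with hTN
  haveI hlocC : IsLocalHom (algebraMap Cn (AdicCompletion (maximalIdeal Cn) Cn)) := by
    apply ((IsLocalRing.local_hom_TFAE (algebraMap Cn (AdicCompletion (maximalIdeal Cn) Cn))).out
      0 2).mpr
    rw [AdicCompletion.maximalIdeal_eq_map]
  -- the comparison map `(C_n)^ → (T_N)^ ≅ T_N`
  let v0 : AdicCompletion (maximalIdeal Cn) Cn →+* TN :=
    ((AdicCompletion.ofAlgEquiv (maximalIdeal TN)).symm : AdicCompletion (maximalIdeal TN) TN →+* TN).comp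
      (cplMap Cn TN)
  have hv0 : ∀ x : Cn, v0 (algebraMap Cn (AdicCompletion (maximalIdeal Cn) Cn) x) =
      algebraMap Cn TN x := by
    intro x
    simp only [v0, RingHom.comp_apply]
    rw [cplMap_algebraMap]
    have h2 : algebraMap TN (AdicCompletion (maximalIdeal TN) TN) (algebraMap Cn TN x) =
        AdicCompletion.of _ TN (algebraMap Cn TN x) := by
      rw [AdicCompletion.algebraMap_apply]; rfl
    rw [h2]
    exact AdicCompletion.ofAlgEquiv_symm_of _ _
  let v : AdicCompletion (maximalIdeal Cn) Cn →ₐ[Cn] TN := { v0 with commutes' := hv0 }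
  have hvv0 : ∀ x, v x = v0 x := fun x => rfl
  haveI hlocv0 : IsLocalHom v0 := by
    haveI := isLocalHom_cplMap Cn TN
    refine ⟨fun a ha => ?_⟩
    have h1 : IsUnit ((AdicCompletion.ofAlgEquiv (maximalIdeal TN)) (v0 a)) := ha.map _
    have h3 : (AdicCompletion.ofAlgEquiv (maximalIdeal TN)) (v0 a) = cplMap Cn TN a := by
      simp only [v0, RingHom.comp_apply]
      exact (AdicCompletion.ofAlgEquiv (maximalIdeal TN)).apply_symm_apply _
    rw [h3] at h1
    exact IsLocalHom.map_nonunit a h1
  haveI hlocv : IsLocalHom v.toRingHom := hlocv0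
  -- the square of algebra maps
  have hsq : (algebraMap T TN).comp (algebraMap C T) = (algebraMap Cn TN).comp (algebraMap C Cn) := by
    ext c
    simp only [RingHom.comp_apply]
    exact (Localization.localRingHom_to_map n N (algebraMap C T) rfl c).symm
  have hwu : (maximalIdeal Cn).map (algebraMap Cn (AdicCompletion (maximalIdeal Cn) Cn)) =
      maximalIdeal (AdicCompletion (maximalIdeal Cn) Cn) :=
    AdicCompletion.maximalIdeal_eq_map.symm
  have hwu' : (maximalIdeal Cn).map (algebraMap Cn TN) = maximalIdeal TN := by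
    apply le_antisymm
    · exact map_maximalIdeal_le Cn TN
    · rw [← Localization.AtPrime.map_eq_maximalIdeal (I := N),
        ← Localization.AtPrime.map_eq_maximalIdeal (I := n), Ideal.map_map, ← hsq, ← Ideal.map_map]
      exact Ideal.map_mono hNn
  -- residue fields
  have hsurjres : Function.Surjective (ResidueField.map v.toRingHom) := by
    intro y
    obtain ⟨x, rfl⟩ := IsLocalRing.residue_surjective y
    obtain ⟨tq, htq⟩ := (IsLocalization.AtPrime.equivQuotMaximalIdeal N TN).surjective
      (Ideal.Quotient.mk _ x)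
    obtain ⟨t, rfl⟩ := Ideal.Quotient.mk_surjective tq
    rw [IsLocalization.AtPrime.equivQuotMaximalIdeal_apply_mk, Ideal.Quotient.eq] at htq
    obtain ⟨c, hc⟩ := hres t
    refine ⟨IsLocalRing.residue _ (algebraMap Cn (AdicCompletion (maximalIdeal Cn) Cn)
      (algebraMap C Cn c)), ?_⟩
    rw [ResidueField.map_residue]
    change IsLocalRing.residue TN (v0 _) = _
    rw [hv0]
    have h1 : algebraMap Cn TN (algebraMap C Cn c) = algebraMap T TN (algebraMap C T c) := by
      have := congrArg (fun f => f c) hsq
      exact this.symm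
    rw [h1]
    rw [← sub_eq_zero, ← map_sub, IsLocalRing.residue_eq_zero_iff]
    have h3 : algebraMap T TN (t - algebraMap C T c) ∈ maximalIdeal TN := by
      rw [← Localization.AtPrime.map_eq_maximalIdeal (I := N)]
      exact Ideal.mem_map_of_mem _ hc
    have h4 : algebraMap T TN (algebraMap C T c) - x =
        (algebraMap T TN t - x) - algebraMap T TN (t - algebraMap C T c) := by
      rw [map_sub]; ring
    rw [h4]
    exact Ideal.sub_mem _ htq h3
  let σ : ResidueField (AdicCompletion (maximalIdeal Cn) Cn) ≃+* ResidueField TN :=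
    RingEquiv.ofBijective (ResidueField.map v.toRingHom)
      ⟨(ResidueField.map v.toRingHom).injective, hsurjres⟩
  haveI : IsHausdorff (maximalIdeal TN) TN := hc.toIsHausdorff
  haveI : IsPrecomplete (maximalIdeal (AdicCompletion (maximalIdeal Cn) Cn))
      (AdicCompletion (maximalIdeal Cn) Cn) := (isAdicComplete_cplInst Cn).toIsPrecomplete
  have hbij : Function.Bijective v :=
    Groth.Agent.S2455.bijective_of_residue v hwu hwu' σ (fun b => rfl)
  let e : AdicCompletion (maximalIdeal Cn) Cn ≃+* TN := RingEquiv.ofBijective v.toRingHom hbij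
  refine Groth.Agent.Lib.Helper69.GRingLocal.isRegularHom_of_ringEquiv (RingEquiv.refl Cn) e.symm
    ?_ h2
  intro r
  rw [RingEquiv.symm_apply_eq]
  exact (hv0 r).symm

end Abstract

section Main

variable (A : Type u) [CommRing A] [IsNoetherianRing A] [IsLocalRing A]
  (C : Type u) [CommRing C] [Algebra A C] [Module.Finite A C]

/-- Base change of a regular homomorphism, with the base on the right. -/
theorem isRegularHom_baseChange_right (B A' : Type u) [CommRing B] [CommRing A'] [Algebra A B]
    [Algebra A A'] [IsNoetherianRing (A' ⊗[A] B)] (h : CAlg.IsRegularHom A B) :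
    letI : Algebra A' (B ⊗[A] A') := Algebra.TensorProduct.rightAlgebra
    CAlg.IsRegularHom A' (B ⊗[A] A') := by
  letI : Algebra A' (B ⊗[A] A') := Algebra.TensorProduct.rightAlgebra
  have h1 := isRegularHom_baseChange A B A' h
  refine Groth.Agent.Lib.Helper69.GRingLocal.isRegularHom_of_ringEquiv (RingEquiv.refl A')
    (Algebra.TensorProduct.comm A A' B).toRingEquiv ?_ h1
  intro r
  simp [Algebra.TensorProduct.right_algebraMap_apply]

theorem isRegularHom_adicCompletion_of_finite_aux
    (hA : CAlg.IsRegularHom A (AdicCompletion (maximalIdeal A) A))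
    (N : Ideal (AdicCompletion (maximalIdeal A) A ⊗[A] C)) [hN : N.IsMaximal] :
    CAlg.IsRegularHom
      (Localization.AtPrime (N.comap
        (Algebra.TensorProduct.includeRight : C →ₐ[A] AdicCompletion (maximalIdeal A) A ⊗[A] C)))
      (AdicCompletion (maximalIdeal (Localization.AtPrime (N.comap
        (Algebra.TensorProduct.includeRight : C →ₐ[A] AdicCompletion (maximalIdeal A) A ⊗[A] C))))
        (Localization.AtPrime (N.comap
        (Algebra.TensorProduct.includeRight : C →ₐ[A] AdicCompletion (maximalIdeal A) A ⊗[A] C)))) := by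
  classical
  letI algCT : Algebra C (AdicCompletion (maximalIdeal A) A ⊗[A] C) :=
    Algebra.TensorProduct.rightAlgebra
  haveI : IsNoetherianRing C := IsNoetherianRing.of_finite A C
  haveI hNT : IsNoetherianRing (AdicCompletion (maximalIdeal A) A ⊗[A] C) :=
    IsNoetherianRing.of_finite (AdicCompletion (maximalIdeal A) A) _
  haveI : IsNoetherianRing (C ⊗[A] AdicCompletion (maximalIdeal A) A) :=
    isNoetherianRing_of_ringEquiv _
      (Algebra.TensorProduct.comm A (AdicCompletion (maximalIdeal A) A) C).toRingEquiv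
  have hreg : CAlg.IsRegularHom C (AdicCompletion (maximalIdeal A) A ⊗[A] C) :=
    isRegularHom_baseChange_right A (AdicCompletion (maximalIdeal A) A) C hA
  haveI hNprime : N.IsPrime := hN.isPrime
  haveI hnprime : (N.comap (algebraMap C (AdicCompletion (maximalIdeal A) A ⊗[A] C))).IsPrime :=
    Ideal.IsPrime.comap _
  have hmN : (maximalIdeal (AdicCompletion (maximalIdeal A) A)).map
      (algebraMap (AdicCompletion (maximalIdeal A) A) (AdicCompletion (maximalIdeal A) A ⊗[A] C)) ≤ N :=
    Groth.Agent.S9405.map_le_of_isMaximal (AdicCompletion (maximalIdeal A) A) _ N hN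
  have hcompl0 := ((Groth.Agent.S9405.result (AdicCompletion (maximalIdeal A) A)
      (AdicCompletion (maximalIdeal A) A ⊗[A] C)).2.2 ⟨N, hN⟩).2
  haveI hcompl : IsAdicComplete (maximalIdeal (Localization.AtPrime N)) (Localization.AtPrime N) := by
    exact hcompl0
  have hone : ∀ c : C, algebraMap C (AdicCompletion (maximalIdeal A) A ⊗[A] C) c = 1 ⊗ₜ[A] c :=
    fun c => rfl
  have hres : ∀ t : AdicCompletion (maximalIdeal A) A ⊗[A] C, ∃ c : C,
      t - algebraMap C (AdicCompletion (maximalIdeal A) A ⊗[A] C) c ∈ N := by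
    intro t
    obtain ⟨c, hc⟩ := exists_sub_one_tmul_mem A C t
    exact ⟨c, by rw [hone]; exact hmN hc⟩
  have hmn : (maximalIdeal (AdicCompletion (maximalIdeal A) A)).map
      (algebraMap (AdicCompletion (maximalIdeal A) A) (AdicCompletion (maximalIdeal A) A ⊗[A] C)) ≤
      (N.comap (algebraMap C (AdicCompletion (maximalIdeal A) A ⊗[A] C))).map
        (algebraMap C (AdicCompletion (maximalIdeal A) A ⊗[A] C)) := by
    rw [AdicCompletion.maximalIdeal_eq_map, Ideal.map_map, ← IsScalarTower.algebraMap_eq,
      IsScalarTower.algebraMap_eq A C (AdicCompletion (maximalIdeal A) A ⊗[A] C), ← Ideal.map_map]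
    apply Ideal.map_mono
    rw [Ideal.map_le_iff_le_comap]
    intro a ha
    rw [Ideal.mem_comap, Ideal.mem_comap]
    apply hmN
    rw [← IsScalarTower.algebraMap_apply A C (AdicCompletion (maximalIdeal A) A ⊗[A] C),
      IsScalarTower.algebraMap_apply A (AdicCompletion (maximalIdeal A) A)
        (AdicCompletion (maximalIdeal A) A ⊗[A] C)]
    apply Ideal.mem_map_of_mem
    rw [AdicCompletion.maximalIdeal_eq_map]
    exact Ideal.mem_map_of_mem _ ha
  have hNn : N ≤ (N.comap (algebraMap C (AdicCompletion (maximalIdeal A) A ⊗[A] C))).map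
      (algebraMap C (AdicCompletion (maximalIdeal A) A ⊗[A] C)) := by
    intro t ht
    obtain ⟨c, hc⟩ := exists_sub_one_tmul_mem A C t
    have h1 : algebraMap C (AdicCompletion (maximalIdeal A) A ⊗[A] C) c ∈ N := by
      have : algebraMap C (AdicCompletion (maximalIdeal A) A ⊗[A] C) c = t - (t - 1 ⊗ₜ[A] c) := by
        rw [hone]; ring
      rw [this]
      exact Ideal.sub_mem _ ht (hmN hc)
    have h2 : t = algebraMap C (AdicCompletion (maximalIdeal A) A ⊗[A] C) c + (t - 1 ⊗ₜ[A] c) := by
      rw [hone]; ring
    rw [h2]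
    exact Ideal.add_mem _ (Ideal.mem_map_of_mem _ h1) (hmn hc)
  exact isRegularHom_adicCompletion_of_complete_localization C
    (AdicCompletion (maximalIdeal A) A ⊗[A] C) hreg N hNn hres

/-- **Formal fibres of finite algebras**: if `A` is a Noetherian local ring with regular completion
map, `C` is a finite `A`-algebra and `n` a maximal ideal of `C`, then the completion map of `C_n`
is regular. -/
theorem isRegularHom_adicCompletion_of_finite
    (hA : CAlg.IsRegularHom A (AdicCompletion (maximalIdeal A) A))
    (n : Ideal C) [hn : n.IsMaximal] :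
    CAlg.IsRegularHom (Localization.AtPrime n)
      (AdicCompletion (maximalIdeal (Localization.AtPrime n)) (Localization.AtPrime n)) := by
  classical
  haveI : Algebra.IsIntegral A C := Algebra.IsIntegral.of_finite A C
  have hmn : ∀ a ∈ maximalIdeal A, algebraMap A C a ∈ n := by
    intro a ha
    have h1 : (n.comap (algebraMap A C)).IsMaximal :=
      Ideal.isMaximal_comap_of_isIntegral_of_isMaximal (R := A) n
    have h2 := IsLocalRing.eq_maximalIdeal h1
    have : a ∈ n.comap (algebraMap A C) := by rw [h2]; exact ha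
    exact this
  let f1 : AdicCompletion (maximalIdeal A) A →ₐ[A] A ⧸ maximalIdeal A ^ 1 :=
    AdicCompletion.evalₐ (maximalIdeal A) 1
  let f2 : A ⧸ maximalIdeal A ^ 1 →ₐ[A] C ⧸ n :=
    Ideal.Quotient.liftₐ _ (Algebra.ofId A (C ⧸ n)) (by
      intro a ha
      rw [pow_one] at ha
      rw [Algebra.ofId_apply, IsScalarTower.algebraMap_apply A C (C ⧸ n),
        Ideal.Quotient.algebraMap_eq, Ideal.Quotient.eq_zero_iff_mem]
      exact hmn a ha)
  let ρ : AdicCompletion (maximalIdeal A) A ⊗[A] C →ₐ[A] C ⧸ n :=
    Algebra.TensorProduct.lift (f2.comp f1) (Ideal.Quotient.mkₐ A n) (fun _ _ => Commute.all _ _)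
  have hρ : ∀ c : C, ρ (1 ⊗ₜ[A] c) = Ideal.Quotient.mk n c := by
    intro c
    simp [ρ]
  have hne : n.map (Algebra.TensorProduct.includeRight :
      C →ₐ[A] AdicCompletion (maximalIdeal A) A ⊗[A] C) ≠ ⊤ := by
    intro htop
    have h1 : n.map (Algebra.TensorProduct.includeRight :
        C →ₐ[A] AdicCompletion (maximalIdeal A) A ⊗[A] C) ≤ RingHom.ker ρ.toRingHom := by
      rw [Ideal.map_le_iff_le_comap]
      intro c hc
      rw [Ideal.mem_comap, RingHom.mem_ker]
      change ρ (1 ⊗ₜ[A] c) = 0
      rw [hρ, Ideal.Quotient.eq_zero_iff_mem]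
      exact hc
    rw [htop, top_le_iff] at h1
    have h2 : (1 : AdicCompletion (maximalIdeal A) A ⊗[A] C) ∈ RingHom.ker ρ.toRingHom := by
      rw [h1]; trivial
    rw [RingHom.mem_ker] at h2
    have h3 : ρ.toRingHom 1 = 1 := map_one _
    rw [h3] at h2
    haveI : Nontrivial (C ⧸ n) := Ideal.Quotient.nontrivial_iff.mpr hn.ne_top
    exact one_ne_zero h2
  obtain ⟨N, hNmax, hNle⟩ := Ideal.exists_le_maximal _ hne
  have hnN : N.comap (Algebra.TensorProduct.includeRight :
      C →ₐ[A] AdicCompletion (maximalIdeal A) A ⊗[A] C) = n := by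
    symm
    apply hn.eq_of_le
    · intro htop
      have : (1 : C) ∈ N.comap (Algebra.TensorProduct.includeRight :
          C →ₐ[A] AdicCompletion (maximalIdeal A) A ⊗[A] C) := by rw [htop]; trivial
      rw [Ideal.mem_comap, map_one] at this
      exact hNmax.ne_top ((Ideal.eq_top_iff_one _).mpr this)
    · exact Ideal.map_le_iff_le_comap.mp hNle
  have key := isRegularHom_adicCompletion_of_finite_aux A C hA N
  subst hnN
  exact key

end Main

end Groth.Agent.Lib.Helper96
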