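import Mathlib
import Groth.Agent.Lib.Helper96.FiniteCompletion

/-!
# Formal fibres of finite and quasi-finite algebras, global versions (helper96)
-/

set_option autoImplicit false
set_option linter.style.haveILetI false

universe u

namespace Groth.Agent.Lib.Helper96

open IsLocalRing TensorProduct

section LocalIso

variable {S' R' : Type*} [CommRing S'] [CommRing R'] (ι : S' →+* R') (r : S')
  (p' : Ideal R') [p'.IsPrime]

/-- If `S'[1/r] → R'[1/r]` is bijective and `r ∉ p'`, the induced map of local rings
`S'_{p' ∩ S'} → R'_{p'}` is bijective. -/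
theorem bijective_localRingHom_of_bijective_awayMap (hr : ι r ∉ p')
    (hbij : Function.Bijective (Localization.awayMap ι r)) :
    Function.Bijective (Localization.localRingHom (p'.comap ι) p' ι rfl) := by
  have K1 := Localization.awayMap_surjective_iff.mp hbij.2
  have K2 := Localization.awayMap_injective_iff.mp hbij.1
  have hpow : ∀ k : ℕ, ι r ^ k ∉ p' := fun k h => hr (Ideal.IsPrime.mem_of_pow_mem ‹_› k h)
  constructor
  · rw [injective_iff_map_eq_zero]
    intro x hx
    obtain ⟨a, s, rfl⟩ := IsLocalization.exists_mk'_eq (p'.comap ι).primeCompl x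
    rw [Localization.localRingHom_mk', IsLocalization.mk'_eq_zero_iff] at hx
    obtain ⟨u, hu⟩ := hx
    obtain ⟨b, k, hb⟩ := K1 (u : R')
    have h0 : ι (b * a) = 0 := by
      rw [map_mul, hb, mul_assoc, hu, mul_zero]
    obtain ⟨i, hi⟩ := K2 _ h0
    rw [IsLocalization.mk'_eq_zero_iff]
    refine ⟨⟨r ^ i * b, ?_⟩, ?_⟩
    · change r ^ i * b ∈ (p'.comap ι).primeCompl
      rw [Ideal.mem_primeCompl_iff, Ideal.mem_comap, map_mul, map_pow, hb]
      intro hmem
      rcases Ideal.IsPrime.mem_or_mem ‹_› hmem with h | h
      · exact hpow i h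
      · rcases Ideal.IsPrime.mem_or_mem ‹_› h with h | h
        · exact hpow k h
        · exact u.2 h
    · change r ^ i * b * a = 0
      rw [mul_assoc]; exact hi
  · intro y
    obtain ⟨a', s', rfl⟩ := IsLocalization.exists_mk'_eq p'.primeCompl y
    obtain ⟨b₁, k₁, h₁⟩ := K1 a'
    obtain ⟨b₂, k₂, h₂⟩ := K1 (s' : R')
    have hmem : r ^ k₁ * b₂ ∈ (p'.comap ι).primeCompl := by
      rw [Ideal.mem_primeCompl_iff, Ideal.mem_comap, map_mul, map_pow, h₂]
      intro hmem
      rcases Ideal.IsPrime.mem_or_mem ‹_› hmem with h | h
      · exact hpow k₁ h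
      · rcases Ideal.IsPrime.mem_or_mem ‹_› h with h | h
        · exact hpow k₂ h
        · exact s'.2 h
    refine ⟨IsLocalization.mk' _ (r ^ k₂ * b₁) ⟨r ^ k₁ * b₂, hmem⟩, ?_⟩
    rw [Localization.localRingHom_mk', IsLocalization.mk'_eq_iff_eq]
    congr 1
    simp only [map_mul, map_pow, h₁, h₂]
    ring

end LocalIso

section FiniteGlobal

variable (R S : Type u) [CommRing R] [CommRing S] [IsNoetherianRing R] [Algebra R S]
  [Module.Finite R S]

theorem isLocalization_atPrime_of_eq {X : Type*} [CommRing X] [Algebra S X] (I q : Ideal S)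
    [I.IsPrime] [q.IsPrime] (hI : I = q) (h : IsLocalization.AtPrime X I) :
    IsLocalization.AtPrime X q := by
  subst hI; exact h

/-- **Formal fibres of finite algebras, global version**: if `S` is a finite `R`-algebra, `q` a
prime of `S` over `p` and the completion map of `R_p` is regular, then so is that of `S_q`. -/
theorem isRegularHom_adicCompletion_of_finite_global (q : Ideal S) [q.IsPrime]
    (p : Ideal R) [p.IsPrime] (hp : q.comap (algebraMap R S) = p)
    (h : CAlg.IsRegularHom (Localization.AtPrime p)
      (AdicCompletion (maximalIdeal (Localization.AtPrime p)) (Localization.AtPrime p))) :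
    CAlg.IsRegularHom (Localization.AtPrime q)
      (AdicCompletion (maximalIdeal (Localization.AtPrime q)) (Localization.AtPrime q)) := by
  classical
  haveI : IsNoetherianRing S := IsNoetherianRing.of_finite R S
  haveI : IsNoetherianRing (Localization.AtPrime p) :=
    IsLocalization.isNoetherianRing p.primeCompl _ inferInstance
  set M : Submonoid S := Algebra.algebraMapSubmonoid S p.primeCompl with hM
  set C := Localization M with hC
  haveI : Module.Finite (Localization.AtPrime p) C :=
    Module.Finite.of_isLocalization R S p.primeCompl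
  -- the prime of `C`
  have hdisj : Disjoint (M : Set S) (q : Set S) := by
    rw [Set.disjoint_left]
    rintro _ ⟨a, ha, rfl⟩ hq
    apply ha
    rw [← hp]
    exact hq
  set n : Ideal C := q.map (algebraMap S C) with hn
  haveI hnprime : n.IsPrime := IsLocalization.isPrime_of_isPrime_disjoint M C q ‹_› hdisj
  have hncomap : n.comap (algebraMap S C) = q :=
    IsLocalization.comap_map_of_isPrime_disjoint M C ‹_› hdisj
  haveI : Algebra.IsIntegral (Localization.AtPrime p) C := Algebra.IsIntegral.of_finite _ C
  have hle : maximalIdeal (Localization.AtPrime p) ≤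
      n.comap (algebraMap (Localization.AtPrime p) C) := by
    rw [← Localization.AtPrime.map_eq_maximalIdeal, Ideal.map_le_iff_le_comap]
    intro x hx
    rw [Ideal.mem_comap, Ideal.mem_comap, ← IsScalarTower.algebraMap_apply R (Localization.AtPrime p) C,
      IsScalarTower.algebraMap_apply R S C]
    apply Ideal.mem_map_of_mem
    have : x ∈ q.comap (algebraMap R S) := by rw [hp]; exact hx
    exact this
  have hcm : (n.comap (algebraMap (Localization.AtPrime p) C)).IsMaximal := by
    have hprime : (n.comap (algebraMap (Localization.AtPrime p) C)).IsPrime := Ideal.IsPrime.comap _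
    have := (IsLocalRing.maximalIdeal.isMaximal (Localization.AtPrime p)).eq_of_le hprime.ne_top hle
    rw [← this]
    exact IsLocalRing.maximalIdeal.isMaximal _
  haveI hnmax : n.IsMaximal :=
    Ideal.isMaximal_of_isIntegral_of_isMaximal_comap (R := Localization.AtPrime p) n hcm
  have hF := isRegularHom_adicCompletion_of_finite (Localization.AtPrime p) C h n
  -- `C_n ≅ S_q`
  haveI h1 : IsLocalization.AtPrime (Localization.AtPrime n) (n.comap (algebraMap S C)) :=
    IsLocalization.isLocalization_isLocalization_atPrime_isLocalization M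
      (Localization.AtPrime n) n
  haveI h2 : IsLocalization.AtPrime (Localization.AtPrime n) q :=
    isLocalization_atPrime_of_eq S _ q hncomap h1
  let e : Localization.AtPrime n ≃ₐ[S] Localization.AtPrime q :=
    IsLocalization.algEquiv q.primeCompl _ _
  exact Groth.Agent.Lib.Helper69.GRingLocal.regular_completion_of_ringEquiv e.toRingEquiv hF

end FiniteGlobal

end Groth.Agent.Lib.Helper96
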