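import Mathlib
import Groth.Agent.Lib.Helper96.FiniteCompletion2

/-!
# Formal fibres of finite algebras, pointwise version (helper96)
-/

set_option autoImplicit false
set_option linter.style.haveILetI false

universe u

namespace Groth.Agent.Lib.Helper96

open IsLocalRing TensorProduct

section AbstractIso

variable (D X : Type u) [CommRing D] [CommRing X] [IsNoetherianRing D] [IsNoetherianRing X]
  [IsLocalRing D] [IsLocalRing X] [Algebra D X] [IsLocalHom (algebraMap D X)] [Module.Flat D X]

/-- A flat local map `D → X` of Noetherian local rings with `X` complete, `m_D X = m_X` and trivial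
residue field extension identifies `X` with the completion of `D`. -/
theorem nonempty_algEquiv_adicCompletion
    [hc : IsAdicComplete (maximalIdeal X) X]
    (hmax : maximalIdeal X ≤ (maximalIdeal D).map (algebraMap D X))
    (hres : ∀ x : X, ∃ d : D, x - algebraMap D X d ∈ maximalIdeal X) :
    Nonempty (AdicCompletion (maximalIdeal D) D ≃ₐ[D] X) := by
  classical
  haveI hlocC : IsLocalHom (algebraMap D (AdicCompletion (maximalIdeal D) D)) := by
    apply ((IsLocalRing.local_hom_TFAE (algebraMap D (AdicCompletion (maximalIdeal D) D))).out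
      0 2).mpr
    rw [AdicCompletion.maximalIdeal_eq_map]
  let v0 : AdicCompletion (maximalIdeal D) D →+* X :=
    ((AdicCompletion.ofAlgEquiv (maximalIdeal X)).symm : AdicCompletion (maximalIdeal X) X →+* X).comp
      (cplMap D X)
  have hv0 : ∀ x : D, v0 (algebraMap D (AdicCompletion (maximalIdeal D) D) x) =
      algebraMap D X x := by
    intro x
    simp only [v0, RingHom.comp_apply]
    rw [cplMap_algebraMap]
    have h2 : algebraMap X (AdicCompletion (maximalIdeal X) X) (algebraMap D X x) =
        AdicCompletion.of _ X (algebraMap D X x) := by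
      rw [AdicCompletion.algebraMap_apply]; rfl
    rw [h2]
    exact AdicCompletion.ofAlgEquiv_symm_of _ _
  let v : AdicCompletion (maximalIdeal D) D →ₐ[D] X := { v0 with commutes' := hv0 }
  have hvv0 : ∀ x, v x = v0 x := fun x => rfl
  haveI hlocv0 : IsLocalHom v0 := by
    haveI := isLocalHom_cplMap D X
    refine ⟨fun a ha => ?_⟩
    have h1 : IsUnit ((AdicCompletion.ofAlgEquiv (maximalIdeal X)) (v0 a)) := ha.map _
    have h3 : (AdicCompletion.ofAlgEquiv (maximalIdeal X)) (v0 a) = cplMap D X a := by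
      simp only [v0, RingHom.comp_apply]
      exact (AdicCompletion.ofAlgEquiv (maximalIdeal X)).apply_symm_apply _
    rw [h3] at h1
    exact IsLocalHom.map_nonunit a h1
  haveI hlocv : IsLocalHom v.toRingHom := hlocv0
  have hwu : (maximalIdeal D).map (algebraMap D (AdicCompletion (maximalIdeal D) D)) =
      maximalIdeal (AdicCompletion (maximalIdeal D) D) :=
    AdicCompletion.maximalIdeal_eq_map.symm
  have hwu' : (maximalIdeal D).map (algebraMap D X) = maximalIdeal X :=
    le_antisymm (map_maximalIdeal_le D X) hmax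
  have hsurjres : Function.Surjective (ResidueField.map v.toRingHom) := by
    intro y
    obtain ⟨x, rfl⟩ := IsLocalRing.residue_surjective y
    obtain ⟨d, hd⟩ := hres x
    refine ⟨IsLocalRing.residue _ (algebraMap D (AdicCompletion (maximalIdeal D) D) d), ?_⟩
    rw [ResidueField.map_residue]
    change IsLocalRing.residue X (v0 _) = _
    rw [hv0, ← sub_eq_zero, ← map_sub, IsLocalRing.residue_eq_zero_iff]
    have : algebraMap D X d - x = -(x - algebraMap D X d) := by ring
    rw [this]
    exact Ideal.neg_mem_iff _ |>.mpr hd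
  let σ : ResidueField (AdicCompletion (maximalIdeal D) D) ≃+* ResidueField X :=
    RingEquiv.ofBijective (ResidueField.map v.toRingHom)
      ⟨(ResidueField.map v.toRingHom).injective, hsurjres⟩
  haveI : IsHausdorff (maximalIdeal X) X := hc.toIsHausdorff
  haveI : IsPrecomplete (maximalIdeal (AdicCompletion (maximalIdeal D) D))
      (AdicCompletion (maximalIdeal D) D) := (isAdicComplete_cplInst D).toIsPrecomplete
  have hbij : Function.Bijective v :=
    Groth.Agent.S2455.bijective_of_residue v hwu hwu' σ (fun b => rfl)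
  exact ⟨AlgEquiv.ofBijective v hbij⟩

end AbstractIso

section Pointwise

attribute [local instance] Algebra.TensorProduct.rightAlgebra

variable (R S : Type u) [CommRing R] [CommRing S] [IsNoetherianRing R] [Algebra R S]
  [Module.Finite R S] (p : Ideal R) [p.IsPrime]

instance isNoetherianRing_locInst : IsNoetherianRing (Localization.AtPrime p) :=
  IsLocalization.isNoetherianRing p.primeCompl _ inferInstance

set_option hygiene false in
local notation "Â" =>
  AdicCompletion (maximalIdeal (Localization.AtPrime p)) (Localization.AtPrime p)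

instance isNoetherianRing_tensorInst : IsNoetherianRing (Â ⊗[R] S) :=
  IsNoetherianRing.of_finite Â _

instance isScalarTower_cplInst : IsScalarTower R (Localization.AtPrime p) Â :=
  .of_algebraMap_eq' rfl

theorem maximalIdeal_cpl_eq_map : maximalIdeal Â = p.map (algebraMap R Â) := by
  rw [AdicCompletion.maximalIdeal_eq_map, IsScalarTower.algebraMap_eq R (Localization.AtPrime p) Â,
    ← Ideal.map_map, Localization.AtPrime.map_eq_maximalIdeal]

/-- Every element of `Â ⊗_R S` is, up to a unit coming from `R ∖ p`, congruent to an element of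
`S` modulo the maximal ideal of `Â`. -/
theorem exists_smul_sub_one_tmul_mem (t : Â ⊗[R] S) :
    ∃ u : R, u ∉ p ∧ ∃ s : S, u • t - 1 ⊗ₜ[R] s ∈
      (maximalIdeal Â).map (algebraMap Â (Â ⊗[R] S)) := by
  induction t using TensorProduct.induction_on with
  | zero =>
    exact ⟨1, fun h => (Ideal.IsPrime.ne_top ‹_›) ((Ideal.eq_top_iff_one _).mpr h), 0, by simp⟩
  | tmul x s₀ =>
    obtain ⟨a, ha⟩ := exists_sub_mem_map (Localization.AtPrime p)
      (maximalIdeal (Localization.AtPrime p)) x
    rw [← AdicCompletion.maximalIdeal_eq_map] at ha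
    obtain ⟨⟨r, u⟩, rfl⟩ := IsLocalization.mk'_surjective p.primeCompl a
    refine ⟨u, u.2, r • s₀, ?_⟩
    have hy : (u : R) • x - algebraMap R Â r ∈ maximalIdeal Â := by
      have h1 : (u : R) • x - algebraMap R Â r =
          (u : R) • (x - algebraMap (Localization.AtPrime p) Â
            (IsLocalization.mk' (Localization.AtPrime p) r u)) := by
        have h0 : (u : R) • algebraMap (Localization.AtPrime p) Â
            (IsLocalization.mk' (Localization.AtPrime p) r u) = algebraMap R Â r := by
          rw [Algebra.smul_def, IsScalarTower.algebraMap_apply R (Localization.AtPrime p) Â,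
            ← map_mul, IsLocalization.mk'_spec', ← IsScalarTower.algebraMap_apply]
        rw [smul_sub, h0]
      rw [h1]
      exact Submodule.smul_of_tower_mem _ _ ha
    have h1 : (u : R) • (x ⊗ₜ[R] s₀) - 1 ⊗ₜ[R] (r • s₀) =
        algebraMap Â (Â ⊗[R] S) ((u : R) • x - algebraMap R Â r) * (1 ⊗ₜ[R] s₀) := by
      rw [Algebra.TensorProduct.algebraMap_apply, Algebra.TensorProduct.tmul_mul_tmul, one_mul,
        mul_one, Algebra.algebraMap_self_apply, sub_tmul, ← smul_tmul', Algebra.algebraMap_eq_smul_one,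
        smul_tmul]
    rw [h1]
    exact Ideal.mul_mem_right _ _ (Ideal.mem_map_of_mem _ hy)
  | add x y hx hy =>
    obtain ⟨u₁, hu₁, s₁, h₁⟩ := hx
    obtain ⟨u₂, hu₂, s₂, h₂⟩ := hy
    refine ⟨u₁ * u₂, fun h => (Ideal.IsPrime.mem_or_mem ‹_› h).elim hu₁ hu₂, u₂ • s₁ + u₁ • s₂, ?_⟩
    have h3 : (u₁ * u₂) • (x + y) - 1 ⊗ₜ[R] (u₂ • s₁ + u₁ • s₂) =
        u₂ • (u₁ • x - 1 ⊗ₜ[R] s₁) + u₁ • (u₂ • y - 1 ⊗ₜ[R] s₂) := by
      rw [tmul_add, tmul_smul, tmul_smul, smul_add, smul_sub, smul_sub, mul_smul, mul_smul,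
        smul_comm u₁ u₂ x]
      abel
    rw [h3]
    exact Ideal.add_mem _ (Submodule.smul_of_tower_mem _ _ h₁) (Submodule.smul_of_tower_mem _ _ h₂)

variable (N : Ideal (Â ⊗[R] S)) [hN : N.IsMaximal]

theorem map_maximalIdeal_le_of_isMaximal :
    (maximalIdeal Â).map (algebraMap Â (Â ⊗[R] S)) ≤ N :=
  Groth.Agent.S9405.map_le_of_isMaximal Â _ N hN

theorem algebraMap_mem_of_mem {r : R} (hr : r ∈ p) : algebraMap R (Â ⊗[R] S) r ∈ N := by
  apply map_maximalIdeal_le_of_isMaximal R S p N
  rw [IsScalarTower.algebraMap_apply R Â (Â ⊗[R] S)]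
  apply Ideal.mem_map_of_mem
  rw [AdicCompletion.maximalIdeal_eq_map, IsScalarTower.algebraMap_apply R (Localization.AtPrime p) Â]
  apply Ideal.mem_map_of_mem
  rw [← Localization.AtPrime.map_eq_maximalIdeal]
  exact Ideal.mem_map_of_mem _ hr

theorem isUnit_algebraMap_of_notMem {r : R} (hr : r ∉ p) : IsUnit (algebraMap R (Â ⊗[R] S) r) := by
  rw [IsScalarTower.algebraMap_apply R (Localization.AtPrime p) (Â ⊗[R] S)]
  exact (IsLocalization.map_units (Localization.AtPrime p) (⟨r, hr⟩ : p.primeCompl)).map _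

theorem comap_comap_eq :
    (N.comap (algebraMap S (Â ⊗[R] S))).comap (algebraMap R S) = p := by
  ext r
  rw [Ideal.mem_comap, Ideal.mem_comap, ← IsScalarTower.algebraMap_apply R S (Â ⊗[R] S)]
  constructor
  · intro h
    by_contra hr
    exact hN.ne_top (Ideal.eq_top_of_isUnit_mem _ h (isUnit_algebraMap_of_notMem R S p hr))
  · exact algebraMap_mem_of_mem R S p N

section LocD

variable (D : Type u) [CommRing D] [Algebra S D]
  [hD : IsLocalization.AtPrime D (N.comap (algebraMap S (Â ⊗[R] S)))]

/-- The algebra structure `S_q → T_N` for `q = N ∩ S`. -/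
@[reducible] noncomputable def locAlgebra : Algebra D (Localization.AtPrime N) :=
  (IsLocalization.lift (M := (N.comap (algebraMap S (Â ⊗[R] S))).primeCompl)
    (g := algebraMap S (Localization.AtPrime N)) (by
      intro s
      rw [IsScalarTower.algebraMap_apply S (Â ⊗[R] S) (Localization.AtPrime N)]
      exact IsLocalization.map_units (Localization.AtPrime N)
        (⟨algebraMap S (Â ⊗[R] S) s, s.2⟩ : N.primeCompl))).toAlgebra

theorem isScalarTower_locAlgebra :
    letI := locAlgebra R S p N D
    IsScalarTower S D (Localization.AtPrime N) := by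
  letI := locAlgebra R S p N D
  exact .of_algebraMap_eq (fun s => (IsLocalization.lift_eq _ s).symm)

variable [IsLocalRing D]

theorem nonempty_algEquiv_cpl_locN :
    letI := locAlgebra R S p N D
    Nonempty (AdicCompletion (maximalIdeal D) D ≃ₐ[D] Localization.AtPrime N) := by
  classical
  letI := locAlgebra R S p N D
  haveI tower := isScalarTower_locAlgebra R S p N D
  set q : Ideal S := N.comap (algebraMap S (Â ⊗[R] S)) with hq
  set X := Localization.AtPrime N with hX
  haveI : IsNoetherianRing S := IsNoetherianRing.of_finite R S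
  haveI : IsNoetherianRing D := IsLocalization.isNoetherianRing q.primeCompl D inferInstance
  haveI : IsNoetherianRing X := IsLocalization.isNoetherianRing N.primeCompl X inferInstance
  have hmD : maximalIdeal D = q.map (algebraMap S D) :=
    (IsLocalization.AtPrime.map_eq_maximalIdeal q D).symm
  have hmX : maximalIdeal X = N.map (algebraMap (Â ⊗[R] S) X) :=
    (Localization.AtPrime.map_eq_maximalIdeal (I := N)).symm
  -- local homomorphism
  have hle : (maximalIdeal D).map (algebraMap D X) ≤ maximalIdeal X := by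
    rw [hmD, Ideal.map_map, ← IsScalarTower.algebraMap_eq,
      IsScalarTower.algebraMap_eq S (Â ⊗[R] S) X, ← Ideal.map_map, hmX]
    exact Ideal.map_mono Ideal.map_comap_le
  haveI hloc : IsLocalHom (algebraMap D X) :=
    ((IsLocalRing.local_hom_TFAE (algebraMap D X)).out 0 2).mpr hle
  -- flatness
  haveI : Module.Flat R Â := Module.Flat.trans R (Localization.AtPrime p) Â
  haveI : Module.Flat S (Â ⊗[R] S) :=
    Module.Flat.of_linearEquiv (Algebra.TensorProduct.commRight R S Â).symm.toLinearEquiv
  haveI : Module.Flat S X := Module.Flat.trans S (Â ⊗[R] S) X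
  haveI : Module.Flat D X := (Module.flat_iff_of_isLocalization D q.primeCompl X).mpr inferInstance
  -- completeness
  have hcompl0 := ((Groth.Agent.S9405.result Â (Â ⊗[R] S)).2.2 ⟨N, hN⟩).2
  haveI hcompl : IsAdicComplete (maximalIdeal X) X := by exact hcompl0
  have hmN := map_maximalIdeal_le_of_isMaximal R S p N
  -- images of elements of `S`
  have hS : ∀ s : S, algebraMap D X (algebraMap S D s) =
      algebraMap (Â ⊗[R] S) X (1 ⊗ₜ[R] s) := by
    intro s
    rw [← IsScalarTower.algebraMap_apply S D X, IsScalarTower.algebraMap_apply S (Â ⊗[R] S) X]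
    rfl
  have hu : ∀ u : R, u ∉ p → IsUnit (algebraMap (Â ⊗[R] S) X (algebraMap R (Â ⊗[R] S) u)) :=
    fun u hu => (isUnit_algebraMap_of_notMem R S p hu).map _
  have hpm : ∀ μ ∈ (maximalIdeal Â).map (algebraMap Â (Â ⊗[R] S)),
      algebraMap (Â ⊗[R] S) X μ ∈ (maximalIdeal D).map (algebraMap D X) := by
    intro μ hμ
    have h1 : (maximalIdeal Â).map (algebraMap Â (Â ⊗[R] S)) ≤
        ((maximalIdeal D).map (algebraMap D X)).comap (algebraMap (Â ⊗[R] S) X) := by
      rw [maximalIdeal_cpl_eq_map, Ideal.map_map, Ideal.map_le_iff_le_comap]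
      intro r hr
      rw [Ideal.mem_comap, Ideal.mem_comap]
      have h2 : algebraMap (Â ⊗[R] S) X (((algebraMap Â (Â ⊗[R] S)).comp
          (algebraMap R Â)) r) =
          algebraMap D X (algebraMap S D (algebraMap R S r)) := by
        rw [hS]
        congr 1
        simp only [RingHom.comp_apply]
        rw [Algebra.TensorProduct.algebraMap_apply, Algebra.algebraMap_self_apply,
          Algebra.algebraMap_eq_smul_one, Algebra.algebraMap_eq_smul_one, smul_tmul]
      rw [h2]
      apply Ideal.mem_map_of_mem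
      rw [hmD]
      apply Ideal.mem_map_of_mem
      have : r ∈ q.comap (algebraMap R S) := by
        rw [comap_comap_eq R S p N]; exact hr
      exact this
    exact h1 hμ
  -- the maximal ideal
  have hmax : maximalIdeal X ≤ (maximalIdeal D).map (algebraMap D X) := by
    rw [hmX, Ideal.map_le_iff_le_comap]
    intro t ht
    rw [Ideal.mem_comap]
    obtain ⟨u, hup, s, hs⟩ := exists_smul_sub_one_tmul_mem R S p t
    have hsN : (1 : Â) ⊗ₜ[R] s ∈ N := by
      have : (1 : Â) ⊗ₜ[R] s = u • t - (u • t - 1 ⊗ₜ[R] s) := by ring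
      rw [this]
      exact Ideal.sub_mem _ (Submodule.smul_of_tower_mem _ _ ht) (hmN hs)
    have hsq : s ∈ q := hsN
    have h1 : algebraMap (Â ⊗[R] S) X (algebraMap R (Â ⊗[R] S) u) * algebraMap (Â ⊗[R] S) X t =
        algebraMap (Â ⊗[R] S) X (1 ⊗ₜ[R] s) +
          algebraMap (Â ⊗[R] S) X (u • t - 1 ⊗ₜ[R] s) := by
      rw [← map_mul, ← map_add]
      congr 1
      have : algebraMap R (Â ⊗[R] S) u * t = u • t := (Algebra.smul_def u t).symm
      rw [this]
      ring
    rw [← Ideal.unit_mul_mem_iff_mem _ (hu u hup), h1]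
    apply Ideal.add_mem _ _ (hpm _ hs)
    rw [← hS]
    apply Ideal.mem_map_of_mem
    rw [hmD]
    exact Ideal.mem_map_of_mem _ hsq
  -- residue fields
  have hres : ∀ x : X, ∃ d : D, x - algebraMap D X d ∈ maximalIdeal X := by
    intro x
    obtain ⟨t, n, rfl⟩ := IsLocalization.exists_mk'_eq N.primeCompl x
    obtain ⟨u₁, hu₁, s₁, h₁⟩ := exists_smul_sub_one_tmul_mem R S p t
    obtain ⟨u₂, hu₂, s₂, h₂⟩ := exists_smul_sub_one_tmul_mem R S p (n : Â ⊗[R] S)
    have hs₂ : s₂ ∉ q := by
      intro hs
      have hs' : (1 : Â) ⊗ₜ[R] s₂ ∈ N := hs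
      have h3 : u₂ • (n : Â ⊗[R] S) ∈ N := by
        have : u₂ • (n : Â ⊗[R] S) = (u₂ • (n : Â ⊗[R] S) - 1 ⊗ₜ[R] s₂) + 1 ⊗ₜ[R] s₂ := by ring
        rw [this]
        exact Ideal.add_mem _ (hmN h₂) hs'
      have h3' : algebraMap R (Â ⊗[R] S) u₂ * (n : Â ⊗[R] S) ∈ N := by
        have : algebraMap R (Â ⊗[R] S) u₂ * (n : Â ⊗[R] S) = u₂ • (n : Â ⊗[R] S) :=
          (Algebra.smul_def u₂ (n : Â ⊗[R] S)).symm
        rw [this]; exact h3
      rcases hN.isPrime.mem_or_mem h3' with h | h
      · exact hN.ne_top (Ideal.eq_top_of_isUnit_mem _ h (isUnit_algebraMap_of_notMem R S p hu₂))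
      · exact n.2 h
    have hq₁ : algebraMap R S u₁ ∉ q := by
      intro h
      have : u₁ ∈ q.comap (algebraMap R S) := h
      rw [comap_comap_eq R S p N] at this
      exact hu₁ this
    have hden : algebraMap R S u₁ * s₂ ∈ q.primeCompl := by
      intro h
      rcases (Ideal.IsPrime.mem_or_mem inferInstance h) with h | h
      · exact hq₁ h
      · exact hs₂ h
    refine ⟨IsLocalization.mk' D (algebraMap R S u₂ * s₁) ⟨algebraMap R S u₁ * s₂, hden⟩, ?_⟩
    set d := IsLocalization.mk' D (algebraMap R S u₂ * s₁) ⟨algebraMap R S u₁ * s₂, hden⟩ with hd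
    set xx := IsLocalization.mk' X t n with hxx
    have hunit1 : IsUnit (algebraMap (Â ⊗[R] S) X (n : Â ⊗[R] S)) :=
      IsLocalization.map_units X n
    have hunit2 : IsUnit (algebraMap (Â ⊗[R] S) X (1 ⊗ₜ[R] (algebraMap R S u₁ * s₂))) := by
      rw [← hS]
      exact (IsLocalization.map_units D (⟨algebraMap R S u₁ * s₂, hden⟩ : q.primeCompl)).map _
    rw [← Ideal.unit_mul_mem_iff_mem _ (hunit1.mul hunit2)]
    have e1 : algebraMap (Â ⊗[R] S) X (n : Â ⊗[R] S) * xx = algebraMap (Â ⊗[R] S) X t := by
      rw [mul_comm]; exact IsLocalization.mk'_spec X t n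
    have e2 : algebraMap (Â ⊗[R] S) X (1 ⊗ₜ[R] (algebraMap R S u₁ * s₂)) * algebraMap D X d =
        algebraMap (Â ⊗[R] S) X (1 ⊗ₜ[R] (algebraMap R S u₂ * s₁)) := by
      rw [← hS, ← hS, ← map_mul, mul_comm]
      congr 1
      exact IsLocalization.mk'_spec D _ _
    have e3 : algebraMap (Â ⊗[R] S) X (n : Â ⊗[R] S) *
        algebraMap (Â ⊗[R] S) X (1 ⊗ₜ[R] (algebraMap R S u₁ * s₂)) * (xx - algebraMap D X d) =
        algebraMap (Â ⊗[R] S) X
          (t * (1 ⊗ₜ[R] (algebraMap R S u₁ * s₂)) -
            (n : Â ⊗[R] S) * (1 ⊗ₜ[R] (algebraMap R S u₂ * s₁))) := by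
      rw [map_sub, map_mul, map_mul, ← e1, ← e2]
      ring
    rw [e3, hmX]
    apply Ideal.mem_map_of_mem
    apply hmN
    have e4 : ∀ (u : R) (s : S), (1 : Â) ⊗ₜ[R] (algebraMap R S u * s) = u • ((1 : Â) ⊗ₜ[R] s) := by
      intro u s
      have : algebraMap R S u * s = u • s := (Algebra.smul_def u s).symm
      rw [this, tmul_smul]
    have e5 : t * (1 ⊗ₜ[R] (algebraMap R S u₁ * s₂)) -
        (n : Â ⊗[R] S) * (1 ⊗ₜ[R] (algebraMap R S u₂ * s₁)) =
        (u₁ • t - 1 ⊗ₜ[R] s₁) * (1 ⊗ₜ[R] s₂) -
          (u₂ • (n : Â ⊗[R] S) - 1 ⊗ₜ[R] s₂) * (1 ⊗ₜ[R] s₁) := by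
      rw [e4, e4, mul_smul_comm, mul_smul_comm, sub_mul, sub_mul, smul_mul_assoc, smul_mul_assoc]
      ring
    rw [e5]
    exact Ideal.sub_mem _ (Ideal.mul_mem_right _ _ h₁) (Ideal.mul_mem_right _ _ h₂)
  exact nonempty_algEquiv_adicCompletion D X hmax hres

section Chain

variable (L : Type u) [CommRing L] [Algebra S L]

/-- `L ⊗_D D̂ ≅ L ⊗_S T_N` for a compatible `D`-algebra `L`. -/
theorem nonempty_ringEquiv_tensor_locN [Algebra D L] [IsScalarTower S D L] :
    Nonempty (L ⊗[D] AdicCompletion (maximalIdeal D) D ≃+* L ⊗[S] Localization.AtPrime N) := by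
  letI := locAlgebra R S p N D
  haveI := isScalarTower_locAlgebra R S p N D
  obtain ⟨E⟩ := nonempty_algEquiv_cpl_locN R S p N D
  let e1 : L ⊗[D] AdicCompletion (maximalIdeal D) D ≃ₐ[D] L ⊗[D] Localization.AtPrime N :=
    Algebra.TensorProduct.congr AlgEquiv.refl E
  let e2 : L ⊗[D] Localization.AtPrime N ≃ₐ[D] L ⊗[S] Localization.AtPrime N :=
    IsLocalization.algebraTensorEquiv (N.comap (algebraMap S (Â ⊗[R] S))).primeCompl D L
      (Localization.AtPrime N)
  exact ⟨e1.toRingEquiv.trans e2.toRingEquiv⟩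

omit [IsLocalRing D] hD in
/-- `L ⊗_S T ≅ L ⊗_A Â`. -/
theorem nonempty_ringEquiv_tensor_T [Algebra R L] [IsScalarTower R S L]
    [Algebra (Localization.AtPrime p) L] [IsScalarTower R (Localization.AtPrime p) L] :
    Nonempty (L ⊗[S] (Â ⊗[R] S) ≃+* L ⊗[Localization.AtPrime p] Â) := by
  let e3 : L ⊗[S] (Â ⊗[R] S) ≃ₐ[S] L ⊗[S] (S ⊗[R] Â) :=
    Algebra.TensorProduct.congr AlgEquiv.refl (Algebra.TensorProduct.commRight R S Â).symm
  let e4 : L ⊗[S] (S ⊗[R] Â) ≃ₐ[L] L ⊗[R] Â := Algebra.TensorProduct.cancelBaseChange R S L L Â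
  let e5 : L ⊗[Localization.AtPrime p] Â ≃ₐ[Localization.AtPrime p] L ⊗[R] Â :=
    IsLocalization.algebraTensorEquiv p.primeCompl (Localization.AtPrime p) L Â
  exact ⟨e3.toRingEquiv.trans (e4.toRingEquiv.trans e5.symm.toRingEquiv)⟩

omit [IsLocalRing D] hD in
/-- Regularity of `L ⊗_S T` passes to `L ⊗_S T_N`. -/
theorem isRegularRing_tensor_locN (h : IsRegularRing (L ⊗[S] (Â ⊗[R] S))) :
    IsRegularRing (L ⊗[S] Localization.AtPrime N) := by
  letI := tensorLocAlgebra S L (Â ⊗[R] S) N
  have hloc := isLocalization_tensorLoc S L (Â ⊗[R] S) N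
  exact @isRegularRing_of_isLocalization _ _ h _ _ _ _ hloc

end Chain

end LocD

section Final

omit hN in
/-- Over any prime `q` of `S` over `p` there is a maximal ideal of `Â ⊗_R S`. -/
theorem exists_isMaximal_comap_eq (q : Ideal S) [q.IsPrime] (hq : q.comap (algebraMap R S) = p) :
    ∃ N : Ideal (Â ⊗[R] S), N.IsMaximal ∧ N.comap (algebraMap S (Â ⊗[R] S)) = q := by
  classical
  have hzero : ∀ r : R, algebraMap R q.ResidueField r = 0 ↔ r ∈ p := by
    intro r
    rw [IsScalarTower.algebraMap_apply R S q.ResidueField, Ideal.algebraMap_residueField_eq_zero,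
      ← hq, Ideal.mem_comap]
  have hunit : ∀ y : p.primeCompl, IsUnit ((Algebra.ofId R q.ResidueField) (y : R)) := by
    intro y
    rw [Algebra.ofId_apply, isUnit_iff_ne_zero, Ne, hzero]
    exact y.2
  let g0 : Localization.AtPrime p →ₐ[R] q.ResidueField := IsLocalization.liftAlgHom hunit
  have hg0 : ∀ a ∈ maximalIdeal (Localization.AtPrime p) ^ 1, g0 a = 0 := by
    intro a ha
    rw [pow_one, ← Localization.AtPrime.map_eq_maximalIdeal] at ha
    have h1 : p.map (algebraMap R (Localization.AtPrime p)) ≤ RingHom.ker g0.toRingHom := by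
      rw [Ideal.map_le_iff_le_comap]
      intro r hr
      rw [Ideal.mem_comap, RingHom.mem_ker]
      change g0 (algebraMap R (Localization.AtPrime p) r) = 0
      rw [g0.commutes, hzero]
      exact hr
    exact h1 ha
  let f2 : (Localization.AtPrime p ⧸ maximalIdeal (Localization.AtPrime p) ^ 1) →ₐ[R]
      q.ResidueField := Ideal.Quotient.liftₐ _ g0 hg0
  let f1 : Â →ₐ[R] (Localization.AtPrime p ⧸ maximalIdeal (Localization.AtPrime p) ^ 1) :=
    (AdicCompletion.evalₐ (maximalIdeal (Localization.AtPrime p)) 1).restrictScalars R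
  let ρ : Â ⊗[R] S →ₐ[R] q.ResidueField :=
    Algebra.TensorProduct.lift (f2.comp f1) (IsScalarTower.toAlgHom R S q.ResidueField)
      (fun _ _ => Commute.all _ _)
  have hρ : ∀ s : S, ρ (1 ⊗ₜ[R] s) = algebraMap S q.ResidueField s := by
    intro s
    simp [ρ]
  have hprime : (RingHom.ker ρ.toRingHom).IsPrime := RingHom.ker_isPrime _
  have hle : (maximalIdeal Â).map (algebraMap Â (Â ⊗[R] S)) ≤ RingHom.ker ρ.toRingHom := by
    rw [maximalIdeal_cpl_eq_map, Ideal.map_map, Ideal.map_le_iff_le_comap]
    intro r hr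
    rw [Ideal.mem_comap, RingHom.mem_ker, ← IsScalarTower.algebraMap_eq]
    change ρ (algebraMap R (Â ⊗[R] S) r) = 0
    rw [ρ.commutes, hzero]
    exact hr
  refine ⟨RingHom.ker ρ.toRingHom,
    Groth.Agent.S9405.isMaximal_of_map_le Â _ _ hprime hle, ?_⟩
  ext s
  rw [Ideal.mem_comap, RingHom.mem_ker]
  change ρ (1 ⊗ₜ[R] s) = 0 ↔ _
  rw [hρ, Ideal.algebraMap_residueField_eq_zero]

/-- **Formal fibres of finite algebras, pointwise**: let `S` be a finite `R`-algebra, `q` a prime of
`S` over `p`, `D = S_q`, and `Q' ⊆ D`, `Q ⊆ R_p` primes with the same contraction to `R`.  If the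
formal fibre of `R_p` at `Q` is geometrically regular, so is the formal fibre of `S_q` at `Q'`. -/
theorem isGeometricallyRegular_formalFibre_of_finite (q : Ideal S) [q.IsPrime]
    (hq : q.comap (algebraMap R S) = p)
    (D : Type u) [CommRing D] [IsLocalRing D] [Algebra S D] [IsLocalization.AtPrime D q]
    (Q' : Ideal D) [Q'.IsPrime] (Q : Ideal (Localization.AtPrime p)) [Q.IsPrime]
    (hQ : Q.comap (algebraMap R (Localization.AtPrime p)) =
      (Q'.comap (algebraMap S D)).comap (algebraMap R S))
    (h : CAlg.IsGeometricallyRegular Q.ResidueField (Q.Fiber Â)) :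
    CAlg.IsGeometricallyRegular Q'.ResidueField
      (Q'.Fiber (AdicCompletion (maximalIdeal D) D)) := by
  classical
  obtain ⟨N, hNmax, hNq⟩ := exists_isMaximal_comap_eq R S p q hq
  subst hNq
  intro L _ _ hfin
  haveI := hfin
  letI : Algebra D L :=
    ((algebraMap Q'.ResidueField L).comp (algebraMap D Q'.ResidueField)).toAlgebra
  haveI : IsScalarTower D Q'.ResidueField L := .of_algebraMap_eq' rfl
  letI : Algebra S L := ((algebraMap D L).comp (algebraMap S D)).toAlgebra
  haveI : IsScalarTower S D L := .of_algebraMap_eq' rfl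
  letI : Algebra R L := ((algebraMap S L).comp (algebraMap R S)).toAlgebra
  haveI : IsScalarTower R S L := .of_algebraMap_eq' rfl
  have hkerD : RingHom.ker (algebraMap D L) = Q' := by
    rw [IsScalarTower.algebraMap_eq D Q'.ResidueField L, ← RingHom.comap_ker,
      (RingHom.injective_iff_ker_eq_bot _).mp (algebraMap Q'.ResidueField L).injective,
      ← RingHom.ker_eq_comap_bot, Ideal.ker_algebraMap_residueField]
  have hkerR : RingHom.ker (algebraMap R L) =
      Q.comap (algebraMap R (Localization.AtPrime p)) := by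
    rw [hQ, IsScalarTower.algebraMap_eq R S L, ← RingHom.comap_ker,
      IsScalarTower.algebraMap_eq S D L, ← RingHom.comap_ker, hkerD]
  have hunitsR : ∀ y : p.primeCompl, IsUnit (algebraMap R L y) := by
    intro y
    rw [isUnit_iff_ne_zero]
    intro h0
    have h1 : (y : R) ∈ Q.comap (algebraMap R (Localization.AtPrime p)) := by
      rw [← hkerR]; exact h0
    have h2 : algebraMap R (Localization.AtPrime p) y ∈ Q := h1
    exact (Ideal.IsPrime.ne_top ‹Q.IsPrime›)
      (Ideal.eq_top_of_isUnit_mem _ h2 (IsLocalization.map_units (Localization.AtPrime p) y))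
  letI : Algebra (Localization.AtPrime p) L :=
    (IsLocalization.lift (M := p.primeCompl) (g := algebraMap R L) hunitsR).toAlgebra
  haveI : IsScalarTower R (Localization.AtPrime p) L :=
    .of_algebraMap_eq (fun r => (IsLocalization.lift_eq _ r).symm)
  have hkerA : RingHom.ker (algebraMap (Localization.AtPrime p) L) = Q := by
    have h1 := IsLocalization.map_comap p.primeCompl (Localization.AtPrime p)
      (RingHom.ker (algebraMap (Localization.AtPrime p) L))
    have h2 := IsLocalization.map_comap p.primeCompl (Localization.AtPrime p) Q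
    have h3 : (RingHom.ker (algebraMap (Localization.AtPrime p) L)).comap
        (algebraMap R (Localization.AtPrime p)) =
        Q.comap (algebraMap R (Localization.AtPrime p)) := by
      rw [RingHom.comap_ker, ← IsScalarTower.algebraMap_eq, hkerR]
    calc RingHom.ker (algebraMap (Localization.AtPrime p) L)
        = ((RingHom.ker (algebraMap (Localization.AtPrime p) L)).comap
            (algebraMap R (Localization.AtPrime p))).map
            (algebraMap R (Localization.AtPrime p)) := h1.symm
      _ = (Q.comap (algebraMap R (Localization.AtPrime p))).map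
            (algebraMap R (Localization.AtPrime p)) := by rw [h3]
      _ = Q := h2
  have hunitsA : Q.primeCompl ≤
      (IsUnit.submonoid L).comap (algebraMap (Localization.AtPrime p) L) := by
    intro x hx
    rw [Submonoid.mem_comap, IsUnit.mem_submonoid_iff, isUnit_iff_ne_zero]
    intro h0
    exact hx (hkerA ▸ (RingHom.mem_ker.mpr h0))
  letI : Algebra Q.ResidueField L :=
    (Ideal.ResidueField.lift Q (algebraMap (Localization.AtPrime p) L) hkerA.ge hunitsA).toAlgebra
  haveI : IsScalarTower (Localization.AtPrime p) Q.ResidueField L :=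
    .of_algebraMap_eq fun x => (Ideal.ResidueField.lift_algebraMap _ _ hkerA.ge hunitsA x).symm
  have hfinQ : Module.Finite Q.ResidueField L := by
    haveI : Algebra.QuasiFinite S D :=
      Algebra.QuasiFinite.of_isLocalization (R := S) (S := S)
        (N.comap (algebraMap S (Â ⊗[R] S))).primeCompl
    haveI : Algebra.QuasiFinite D L := Algebra.QuasiFinite.trans D Q'.ResidueField L
    haveI : Algebra.QuasiFinite S L := Algebra.QuasiFinite.trans S D L
    haveI : Algebra.QuasiFinite R L := Algebra.QuasiFinite.trans R S L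
    haveI : Algebra.QuasiFinite (Localization.AtPrime p) L :=
      Algebra.QuasiFinite.of_restrictScalars R _ L
    haveI : Algebra.QuasiFinite Q.ResidueField L :=
      Algebra.QuasiFinite.of_restrictScalars (Localization.AtPrime p) _ L
    exact Module.Finite.of_quasiFinite
  haveI hreg1 : IsRegularRing (L ⊗[Q.ResidueField] (Q.Fiber Â)) := h L hfinQ
  haveI hreg2 : IsRegularRing (L ⊗[Localization.AtPrime p] Â) :=
    IsRegularRing.of_ringEquiv (Algebra.TensorProduct.cancelBaseChange (Localization.AtPrime p)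
      Q.ResidueField L L Â).toRingEquiv
  obtain ⟨e2⟩ := nonempty_ringEquiv_tensor_T R S p L
  haveI hreg3 : IsRegularRing (L ⊗[S] (Â ⊗[R] S)) :=
    IsRegularRing.of_ringEquiv (R := L ⊗[Localization.AtPrime p] Â) e2.symm
  haveI hreg4 := isRegularRing_tensor_locN R S p N L hreg3
  obtain ⟨e1⟩ := nonempty_ringEquiv_tensor_locN R S p N D L
  haveI hreg5 : IsRegularRing (L ⊗[D] AdicCompletion (maximalIdeal D) D) :=
    IsRegularRing.of_ringEquiv (R := L ⊗[S] Localization.AtPrime N) e1.symm
  exact IsRegularRing.of_ringEquiv (Algebra.TensorProduct.cancelBaseChange D Q'.ResidueField L L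
    (AdicCompletion (maximalIdeal D) D)).symm.toRingEquiv

end Final

end Pointwise

end Groth.Agent.Lib.Helper96
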