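import Mathlib
import Groth.Agent.S9318
import Groth.Agent.Lib.Helper9.DerivExt

/-!
# Extending derivations to local rings of generic formal fibres (helper96)

Derivations extend along formally étale maps (localizations) and along completion of a Noetherian
local ring; hence a derivation of a Noetherian domain `A` extends to every local ring of the
generic formal fibre of `A_P`.
-/

set_option autoImplicit false
set_option linter.style.haveILetI false
set_option linter.unusedSectionVars false

universe u

namespace Groth.Agent.Lib.Helper96.ExtChain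

open TensorProduct IsLocalRing

/-- Derivations extend along formally étale maps. -/
theorem exists_derivation_of_formallyEtale {S T : Type*} [CommRing S] [CommRing T] [Algebra S T]
    [Algebra.FormallyEtale S T] (D : Derivation ℤ S S) :
    ∃ D' : Derivation ℤ T T, ∀ s : S, D' (algebraMap S T s) = algebraMap S T (D s) := by
  let e := KaehlerDifferential.tensorKaehlerEquivOfFormallyEtale ℤ S T
  let g : Ω[S⁄ℤ] →ₗ[S] T := (Algebra.linearMap S T) ∘ₗ D.liftKaehlerDifferential
  let g' : T ⊗[S] Ω[S⁄ℤ] →ₗ[T] T := LinearMap.liftBaseChange T g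
  let φ : Ω[T⁄ℤ] →ₗ[T] T := g' ∘ₗ e.symm.toLinearMap
  refine ⟨φ.compDer (KaehlerDifferential.D ℤ T), fun s => ?_⟩
  change g' (e.symm (KaehlerDifferential.D ℤ T (algebraMap S T s))) = _
  rw [KaehlerDifferential.tensorKaehlerEquivOfFormallyEtale_symm_D_algebraMap]
  change (1 : T) • g (KaehlerDifferential.D ℤ S s) = _
  rw [one_smul]
  change algebraMap S T (D.liftKaehlerDifferential (KaehlerDifferential.D ℤ S s)) = _
  rw [Derivation.liftKaehlerDifferential_comp_D]

/-- A ring is formally smooth over itself for any adic topology. -/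
theorem isAdicFormallySmooth_self (R : Type u) [CommRing R] (𝔫 : Ideal R) :
    CAlgX.IsAdicFormallySmooth R R 𝔫 := by
  intro C _ _ J _ ψ _
  refine ⟨Algebra.ofId R C, AlgHom.ext fun x => ?_⟩
  have h1 := ψ.commutes x
  rw [Algebra.algebraMap_self_apply] at h1
  rw [h1]
  rfl

/-- Derivations of a Noetherian local ring extend to its completion. -/
theorem exists_derivation_adicCompletion (R : Type u) [CommRing R] [IsNoetherianRing R]
    (𝔫 : Ideal R) (D : Derivation ℤ R R) :
    ∃ D' : Derivation ℤ (AdicCompletion 𝔫 R) (AdicCompletion 𝔫 R),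
      ∀ x : R, D' (algebraMap R (AdicCompletion 𝔫 R) x) =
        algebraMap R (AdicCompletion 𝔫 R) (D x) := by
  have fg : 𝔫.FG := IsNoetherian.noetherian 𝔫
  haveI := AdicCompletion.isAdicComplete_self 𝔫 fg
  have hfs := (Groth.Agent.S9318.result (R := R) (S := R) 𝔫 fg).mp (isAdicFormallySmooth_self R 𝔫)
  exact Groth.Agent.Lib.Helper9.DerivExt.exists_derivation
    (𝔫.map (algebraMap R (AdicCompletion 𝔫 R))) D hfs

section Fraction

/-- The residue field at `⊥` of a domain is its fraction field. -/
theorem isFractionRing_residueField_bot (R : Type u) [CommRing R] [IsDomain R] :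
    IsFractionRing R (⊥ : Ideal R).ResidueField := by
  haveI : FaithfulSMul R (⊥ : Ideal R).ResidueField := by
    rw [faithfulSMul_iff_algebraMap_injective, RingHom.injective_iff_ker_eq_bot,
      Ideal.ker_algebraMap_residueField]
  refine IsFractionRing.of_field R _ fun z => ?_
  obtain ⟨a, b, -, rfl⟩ := IsFractionRing.div_surjective (A := R ⧸ (⊥ : Ideal R)) z
  obtain ⟨a, rfl⟩ := Ideal.Quotient.mk_surjective a
  obtain ⟨b, rfl⟩ := Ideal.Quotient.mk_surjective b
  exact ⟨a, b, rfl⟩

/-- The residue field at `⊥` of a localization of a domain is the fraction field of the domain. -/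
theorem isFractionRing_residueField_bot_atPrime (A : Type u) [CommRing A] [IsDomain A]
    (P : Ideal A) [P.IsPrime] :
    IsFractionRing A (⊥ : Ideal (Localization.AtPrime P)).ResidueField := by
  haveI := isFractionRing_residueField_bot (Localization.AtPrime P)
  have hinj : Function.Injective
      (algebraMap A (⊥ : Ideal (Localization.AtPrime P)).ResidueField) := by
    rw [IsScalarTower.algebraMap_eq A (Localization.AtPrime P)]
    exact (IsFractionRing.injective (Localization.AtPrime P) _).comp
      (IsLocalization.injective _ P.primeCompl_le_nonZeroDivisors)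
  haveI : FaithfulSMul A (⊥ : Ideal (Localization.AtPrime P)).ResidueField :=
    (faithfulSMul_iff_algebraMap_injective _ _).mpr hinj
  refine IsFractionRing.of_field A _ fun z => ?_
  obtain ⟨x, y, -, rfl⟩ := IsFractionRing.div_surjective (A := Localization.AtPrime P) z
  obtain ⟨a, s, rfl⟩ := IsLocalization.exists_mk'_eq P.primeCompl x
  obtain ⟨b, t, rfl⟩ := IsLocalization.exists_mk'_eq P.primeCompl y
  refine ⟨a * t, b * s, ?_⟩
  have hs : algebraMap A (⊥ : Ideal (Localization.AtPrime P)).ResidueField (s : A) ≠ 0 := by
    rw [Ne, map_eq_zero_iff _ hinj]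
    intro h0
    exact s.2 (h0 ▸ P.zero_mem)
  have ht : algebraMap A (⊥ : Ideal (Localization.AtPrime P)).ResidueField (t : A) ≠ 0 := by
    rw [Ne, map_eq_zero_iff _ hinj]
    intro h0
    exact t.2 (h0 ▸ P.zero_mem)
  have h1 : ∀ (c : A) (u : P.primeCompl),
      algebraMap (Localization.AtPrime P) (⊥ : Ideal (Localization.AtPrime P)).ResidueField
        (IsLocalization.mk' (Localization.AtPrime P) c u) *
        algebraMap A (⊥ : Ideal (Localization.AtPrime P)).ResidueField (u : A) =
      algebraMap A (⊥ : Ideal (Localization.AtPrime P)).ResidueField c := by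
    intro c u
    rw [IsScalarTower.algebraMap_apply A (Localization.AtPrime P), ← map_mul,
      IsLocalization.mk'_spec, ← IsScalarTower.algebraMap_apply]
  rw [map_mul, map_mul, ← h1 a s, ← h1 b t]
  field_simp

end Fraction

section Chain

attribute [local instance] Algebra.TensorProduct.rightAlgebra

variable (R : Type u) [CommRing R] [IsDomain R] [IsLocalRing R] [IsNoetherianRing R]

/-- Derivations of a Noetherian local domain extend to the local rings of its generic formal
fibre (stated for any formally étale algebra `L` over the generic formal fibre, to keep the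
`ℤ`-algebra structure on `L` generic). -/
theorem exists_derivation_formalFibre {L : Type u} [CommRing L]
    [Algebra ((⊥ : Ideal R).Fiber (AdicCompletion (maximalIdeal R) R)) L]
    [Algebra.FormallyEtale ((⊥ : Ideal R).Fiber (AdicCompletion (maximalIdeal R) R)) L]
    [Algebra (⊥ : Ideal R).ResidueField L]
    [IsScalarTower (⊥ : Ideal R).ResidueField
      ((⊥ : Ideal R).Fiber (AdicCompletion (maximalIdeal R) R)) L]
    (D : Derivation ℤ R R) :
    ∃ DL : Derivation ℤ L L, ∀ x : R,
      DL (algebraMap (⊥ : Ideal R).ResidueField L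
        (algebraMap R (⊥ : Ideal R).ResidueField x)) =
      algebraMap (⊥ : Ideal R).ResidueField L
        (algebraMap R (⊥ : Ideal R).ResidueField (D x)) := by
  haveI := isFractionRing_residueField_bot R
  obtain ⟨D₁, hD₁⟩ := exists_derivation_adicCompletion R (maximalIdeal R) D
  haveI : IsLocalization (Algebra.algebraMapSubmonoid (AdicCompletion (maximalIdeal R) R)
      (nonZeroDivisors R)) ((⊥ : Ideal R).Fiber (AdicCompletion (maximalIdeal R) R)) :=
    IsLocalization.tensorRight (R := R) (S := AdicCompletion (maximalIdeal R) R)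
      (⊥ : Ideal R).ResidueField (nonZeroDivisors R)
  haveI : Algebra.FormallyEtale (AdicCompletion (maximalIdeal R) R)
      ((⊥ : Ideal R).Fiber (AdicCompletion (maximalIdeal R) R)) :=
    Algebra.FormallyEtale.of_isLocalization (Algebra.algebraMapSubmonoid
      (AdicCompletion (maximalIdeal R) R) (nonZeroDivisors R))
  obtain ⟨D₂, hD₂⟩ := exists_derivation_of_formallyEtale
    (T := (⊥ : Ideal R).Fiber (AdicCompletion (maximalIdeal R) R)) D₁
  obtain ⟨D₃, hD₃⟩ := exists_derivation_of_formallyEtale (T := L) D₂
  have key : ∀ x : R, algebraMap (⊥ : Ideal R).ResidueField L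
        (algebraMap R (⊥ : Ideal R).ResidueField x) =
      algebraMap ((⊥ : Ideal R).Fiber (AdicCompletion (maximalIdeal R) R)) L
        (algebraMap (AdicCompletion (maximalIdeal R) R)
          ((⊥ : Ideal R).Fiber (AdicCompletion (maximalIdeal R) R))
          (algebraMap R (AdicCompletion (maximalIdeal R) R) x)) := by
    intro x
    rw [IsScalarTower.algebraMap_apply (⊥ : Ideal R).ResidueField
      ((⊥ : Ideal R).Fiber (AdicCompletion (maximalIdeal R) R)) L]
    congr 1
    rw [Algebra.TensorProduct.algebraMap_apply, Algebra.algebraMap_self_apply,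
      Algebra.TensorProduct.right_algebraMap_apply, Algebra.algebraMap_eq_smul_one,
      Algebra.algebraMap_eq_smul_one (A := AdicCompletion (maximalIdeal R) R), smul_tmul]
  refine ⟨D₃, fun x => ?_⟩
  rw [key, key, hD₃, hD₂]
  exact congrArg _ (congrArg _ (hD₁ x))

end Chain

end Groth.Agent.Lib.Helper96.ExtChain
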