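import Mathlib
import Groth.Agent.Lib.Helper49.RegAscent

/-!
# The generic fibre of an algebra over a domain (helper96)
-/

set_option autoImplicit false

universe u

namespace Groth.Agent.Lib.Helper96

open TensorProduct Groth.Agent.Lib.Helper49 Groth.Agent.Lib.Helper49.FibreSk

/-- The local rings of the generic fibre are the local rings of `T` at primes contracting to `0`. -/
noncomputable def fibLocBotEquiv (B T : Type u) [CommRing B] [CommRing T]
    [IsNoetherianRing B] [IsNoetherianRing T] [Algebra B T] (q : Ideal T) [q.IsPrime] :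
    FibLoc (⊥ : Ideal B) q ≃+* Localization.AtPrime q :=
  (Ideal.quotEquivOfEq (by rw [Ideal.map_bot, Ideal.map_bot])).trans (RingEquiv.quotientBot _)

/-- Regularity of the generic fibre `κ(0) ⊗_B T` is regularity of `T` at the primes lying over
`0`. -/
theorem isRegularRing_fiber_bot_iff (B T : Type u) [CommRing B] [IsDomain B] [CommRing T]
    [IsNoetherianRing B] [IsNoetherianRing T] [Algebra B T] :
    IsRegularRing ((⊥ : Ideal B).Fiber T) ↔
      ∀ (q : Ideal T) [q.IsPrime], q.comap (algebraMap B T) = ⊥ →
        IsRegularLocalRing (Localization.AtPrime q) := by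
  rw [RegAscent.isRegularRing_fiber_iff (R := B) (S := T) ⊥]
  constructor
  · intro h q _ hq
    haveI : q.LiesOver (⊥ : Ideal B) := ⟨hq.symm⟩
    haveI := h q
    exact IsRegularLocalRing.of_ringEquiv (fibLocBotEquiv B T q)
  · intro h q _ hlo
    haveI := h q hlo.over.symm
    exact IsRegularLocalRing.of_ringEquiv (fibLocBotEquiv B T q).symm

end Groth.Agent.Lib.Helper96
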