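import Mathlib
import Groth.Agent.Lib.Helper96.SmoothField

/-!
# A derivation criterion for formal smoothness over a field (helper96)

`K` a field, `L` a regular local `K`-algebra.  If, for every finite `S ⊆ K` and `f ∈ K`, either
`df` lies in the span of `dS` in `Ω[K/ℤ]`, or there is a derivation of `K` killing `S` but not `f`
which extends to `L`, then `L` is formally smooth over `K` for the `𝔪`-adic topology.
-/

set_option autoImplicit false
set_option linter.style.haveILetI false
set_option linter.unusedSectionVars false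

universe u

namespace Groth.Agent.Lib.Helper96.DerivCrit

open TensorProduct IsLocalRing

variable (K L : Type u) [Field K] [CommRing L] [IsLocalRing L] [Algebra K L]

/-- The dichotomy hypothesis. -/
def Dichotomy : Prop :=
  ∀ (S : Finset K) (f : K),
    KaehlerDifferential.D ℤ K f ∈
        Submodule.span K ((KaehlerDifferential.D ℤ K) '' (S : Set K)) ∨
      ∃ (DK : Derivation ℤ K K) (DL : Derivation ℤ L L),
        (∀ x : K, DL (algebraMap K L x) = algebraMap K L (DK x)) ∧
          (∀ s ∈ S, DK s = 0) ∧ DK f ≠ 0

variable {K L}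

/-- `ω ↦ 1 ⊗ (1 ⊗ ω)`. -/
noncomputable def jmap (ω : Ω[K⁄ℤ]) : ResidueField L ⊗[L] (L ⊗[K] Ω[K⁄ℤ]) :=
  (1 : ResidueField L) ⊗ₜ[L] ((1 : L) ⊗ₜ[K] ω)

/-- `x ↦ 1 ⊗ (1 ⊗ dx)`. -/
noncomputable def vmap (x : K) : ResidueField L ⊗[L] (L ⊗[K] Ω[K⁄ℤ]) :=
  jmap (L := L) (KaehlerDifferential.D ℤ K x)

theorem jmap_mem (S : Set K) (ω : Ω[K⁄ℤ])
    (hω : ω ∈ Submodule.span K ((KaehlerDifferential.D ℤ K) '' S)) :
    jmap (L := L) ω ∈ Submodule.span L (vmap (L := L) '' S) := by
  induction hω using Submodule.span_induction with
  | mem y hy =>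
    obtain ⟨s, hs, rfl⟩ := hy
    exact Submodule.subset_span ⟨s, hs, rfl⟩
  | zero =>
    unfold jmap
    rw [tmul_zero, tmul_zero]
    exact zero_mem _
  | add y z _ _ hy hz =>
    unfold jmap at *
    rw [tmul_add, tmul_add]
    exact add_mem hy hz
  | smul c y _ hy =>
    unfold jmap at *
    have : (1 : ResidueField L) ⊗ₜ[L] ((1 : L) ⊗ₜ[K] (c • y)) =
        (algebraMap K L c) • ((1 : ResidueField L) ⊗ₜ[L] ((1 : L) ⊗ₜ[K] y)) := by
      rw [← tmul_smul, tmul_smul c (1 : L) y, algebraMap_smul]
    rw [this]
    exact Submodule.smul_mem _ _ hy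

theorem span_range_vmap :
    Submodule.span L (Set.range (vmap (K := K) (L := L))) = ⊤ := by
  rw [eq_top_iff]
  rintro m -
  have key : ∀ y : L ⊗[K] Ω[K⁄ℤ], (1 : ResidueField L) ⊗ₜ[L] y ∈
      Submodule.span L (Set.range (vmap (K := K) (L := L))) := by
    intro y
    induction y using TensorProduct.induction_on with
    | zero => rw [tmul_zero]; exact zero_mem _
    | add x y hx hy => rw [tmul_add]; exact add_mem hx hy
    | tmul l' ω =>
      have h2 : (1 : ResidueField L) ⊗ₜ[L] (l' ⊗ₜ[K] ω) = l' • jmap (L := L) ω := by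
        unfold jmap
        rw [← tmul_smul, smul_tmul', smul_eq_mul, mul_one]
      rw [h2]
      refine Submodule.smul_mem _ _ ?_
      have := jmap_mem (L := L) (Set.univ : Set K) ω (by
        rw [Set.image_univ, KaehlerDifferential.span_range_derivation]
        exact Submodule.mem_top)
      rwa [Set.image_univ] at this
  induction m using TensorProduct.induction_on with
  | zero => exact zero_mem _
  | add x y hx hy => exact add_mem hx hy
  | tmul c y =>
    obtain ⟨l, rfl⟩ := IsLocalRing.residue_surjective c
    have h1 : (IsLocalRing.residue L l) ⊗ₜ[L] y = l • ((1 : ResidueField L) ⊗ₜ[L] y) := by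
      rw [smul_tmul', Algebra.smul_def, mul_one]
      rfl
    rw [h1]
    exact Submodule.smul_mem _ _ (key y)

/-- The functional on `κ ⊗ Ω[L/ℤ]` induced by a derivation of `L`. -/
noncomputable def psi (DL : Derivation ℤ L L) :
    ResidueField L ⊗[L] Ω[L⁄ℤ] →ₗ[L] ResidueField L :=
  (TensorProduct.rid L (ResidueField L)).toLinearMap ∘ₗ
    (DL.liftKaehlerDifferential).lTensor (ResidueField L)

theorem psi_tmul_D (DL : Derivation ℤ L L) (y : L) :
    psi DL ((1 : ResidueField L) ⊗ₜ[L] KaehlerDifferential.D ℤ L y) =
      IsLocalRing.residue L (DL y) := by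
  unfold psi
  rw [LinearMap.comp_apply, LinearMap.lTensor_tmul, Derivation.liftKaehlerDifferential_comp_D]
  rw [LinearEquiv.coe_coe, TensorProduct.rid_tmul, Algebra.smul_def, mul_one]
  rfl

theorem phi_vmap (x : K) :
    (KaehlerDifferential.mapBaseChange ℤ K L).lTensor (ResidueField L) (vmap (L := L) x) =
      (1 : ResidueField L) ⊗ₜ[L] KaehlerDifferential.D ℤ L (algebraMap K L x) := by
  unfold vmap jmap
  rw [LinearMap.lTensor_tmul, KaehlerDifferential.mapBaseChange_tmul, one_smul,
    KaehlerDifferential.map_D]

theorem injOn_span (h : Dichotomy K L) (S : Finset K) :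
    ∀ m ∈ Submodule.span L (vmap (L := L) '' (S : Set K)),
      (KaehlerDifferential.mapBaseChange ℤ K L).lTensor (ResidueField L) m = 0 → m = 0 := by
  classical
  induction S using Finset.induction_on with
  | empty =>
    intro m hm _
    rw [Finset.coe_empty, Set.image_empty, Submodule.span_empty, Submodule.mem_bot] at hm
    exact hm
  | insert f S _ ih =>
    intro m hm hΦ
    rw [Finset.coe_insert, Set.image_insert_eq] at hm
    rcases h S f with hdep | ⟨DK, DL, hext, hS, hf⟩
    · have hv : vmap (L := L) f ∈ Submodule.span L (vmap (L := L) '' (S : Set K)) :=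
        jmap_mem (L := L) (S : Set K) _ hdep
      rw [Submodule.span_insert_eq_span hv] at hm
      exact ih m hm hΦ
    · rw [Submodule.mem_span_insert] at hm
      obtain ⟨l, m', hm', rfl⟩ := hm
      set Φ := (KaehlerDifferential.mapBaseChange ℤ K L).lTensor (ResidueField L) with hΦdef
      have hψS : ∀ z ∈ Submodule.span L (vmap (L := L) '' (S : Set K)),
          psi DL (Φ z) = 0 := by
        intro z hz
        induction hz using Submodule.span_induction with
        | mem y hy =>
          obtain ⟨s, hs, rfl⟩ := hy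
          rw [hΦdef, phi_vmap, psi_tmul_D, hext, hS s hs, map_zero, map_zero]
        | zero => rw [map_zero, map_zero]
        | add y z _ _ hy hz => rw [map_add, map_add, hy, hz, add_zero]
        | smul c y _ hy => rw [map_smul, map_smul, hy, smul_zero]
      have h1 : psi DL (Φ (l • vmap (L := L) f + m')) = 0 := by rw [hΦ, map_zero]
      rw [map_add, map_add, hψS m' hm', add_zero, map_smul, map_smul, hΦdef, phi_vmap,
        psi_tmul_D, hext] at h1
      have hunit : IsUnit (IsLocalRing.residue L (algebraMap K L (DK f))) :=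
        ((IsUnit.mk0 _ hf).map (algebraMap K L)).map (IsLocalRing.residue L)
      have hl : IsLocalRing.residue L l = 0 := by
        rw [Algebra.smul_def] at h1
        exact (hunit.mul_left_eq_zero).mp h1
      have hlv : l • vmap (L := L) f = 0 := by
        unfold vmap jmap
        rw [smul_tmul', Algebra.smul_def, mul_one]
        change (IsLocalRing.residue L l) ⊗ₜ[L] _ = 0
        rw [hl, zero_tmul]
      rw [hlv, zero_add] at hΦ ⊢
      exact ih m' hm' hΦ

theorem injective_of_dichotomy (h : Dichotomy K L) :
    Function.Injective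
      ((KaehlerDifferential.mapBaseChange ℤ K L).lTensor (ResidueField L)) := by
  classical
  rw [injective_iff_map_eq_zero]
  intro m hm
  have hmem : m ∈ Submodule.span L (Set.range (vmap (K := K) (L := L))) := by
    rw [span_range_vmap]; exact Submodule.mem_top
  obtain ⟨T, hT, hmT⟩ := Submodule.mem_span_finite_of_mem_span hmem
  rw [← Set.image_univ, Finset.subset_set_image_iff] at hT
  obtain ⟨S, -, rfl⟩ := hT
  refine injOn_span h S m ?_ hm
  rwa [Finset.coe_image] at hmT

/-- **The derivation criterion.** -/
theorem isAdicFormallySmooth_of_dichotomy [IsNoetherianRing L] (hreg : IsRegularLocalRing L)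
    (h : Dichotomy K L) : CAlgX.IsAdicFormallySmooth K L (maximalIdeal L) :=
  isAdicFormallySmooth_iff_regular_and_injective.mpr ⟨hreg, injective_of_dichotomy h⟩

end Groth.Agent.Lib.Helper96.DerivCrit
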