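import Mathlib
import Groth.Agent.Lib.Helper13.Admissible

/-!
# Directed families of subfields containing the `p`-th powers (helper96)

Field-theoretic input for the `G`-ring chain (Stacks 07P1–07PF): adjoining one element to a
directed family of subfields commutes with intersections, derivations separating an element from a
subfield containing all `p`-th powers.
-/

set_option autoImplicit false
set_option linter.style.haveILetI false
set_option linter.unusedSectionVars false

universe u

namespace Groth.Agent.Lib.Helper96.PField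

open Polynomial

variable {K : Type u} [Field K] (p : ℕ) [hp : Fact p.Prime] [CharP K p]

/-- In characteristic `p`, `b ^ p = s ^ p` forces `b = s`. -/
theorem eq_of_pow_eq (b s : K) (h : b ^ p = s ^ p) : b = s := by
  have h1 : (b - s) ^ p = 0 := by rw [sub_pow_char, h, sub_self]
  exact sub_eq_zero.mp (pow_eq_zero_iff (hp.out.ne_zero) |>.mp h1)

section Simple

variable (F : Subfield K) (s : K)

/-- Every element of `F(s)` is a polynomial of degree `< p` in `s` when `s ^ p ∈ F`. -/
theorem exists_repr (hs : s ^ p ∈ F) (x : K)
    (hx : x ∈ Subfield.closure ((F : Set K) ∪ {s})) :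
    ∃ c : ℕ → K, (∀ i, c i ∈ F) ∧ x = ∑ i ∈ Finset.range p, c i * s ^ i := by
  classical
  have hint : IsIntegral F s := by
    refine IsIntegral.of_pow hp.out.pos ?_
    exact isIntegral_algebraMap (x := (⟨s ^ p, hs⟩ : F))
  have hx' : x ∈ IntermediateField.adjoin F ({s} : Set K) := by
    rw [← IntermediateField.mem_toSubfield, IntermediateField.adjoin_toSubfield]
    have : Set.range (algebraMap F K) = (F : Set K) := by
      ext y
      constructor
      · rintro ⟨z, rfl⟩; exact z.2
      · intro hy; exact ⟨⟨y, hy⟩, rfl⟩
    rw [this]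
    exact hx
  have hx'' : x ∈ (IntermediateField.adjoin F ({s} : Set K)).toSubalgebra := hx'
  rw [IntermediateField.adjoin_simple_toSubalgebra_of_isAlgebraic hint.isAlgebraic,
    Algebra.adjoin_singleton_eq_range_aeval] at hx''
  obtain ⟨q, rfl⟩ := hx''
  set g : F[X] := X ^ p - C (⟨s ^ p, hs⟩ : F) with hg
  have hgm : g.Monic := monic_X_pow_sub_C _ hp.out.ne_zero
  have hgs : aeval s g = 0 := by
    rw [hg, map_sub, map_pow, aeval_X, aeval_C]
    exact sub_self _
  have hq : aeval s q = aeval s (q %ₘ g) := by
    conv_lhs => rw [← modByMonic_add_div q g]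
    rw [map_add, map_mul, hgs, zero_mul, add_zero]
  have hdeg : (q %ₘ g).natDegree < p ∨ q %ₘ g = 0 := by
    by_cases h0 : q %ₘ g = 0
    · exact Or.inr h0
    · left
      have h1 := natDegree_modByMonic_lt q hgm (by
        intro h1
        have := congrArg natDegree h1
        rw [hg, natDegree_X_pow_sub_C, natDegree_one] at this
        exact hp.out.ne_zero this)
      rwa [hg, natDegree_X_pow_sub_C] at h1
  refine ⟨fun i => ((q %ₘ g).coeff i : K), fun i => ((q %ₘ g).coeff i).2, ?_⟩
  change aeval s q = _
  rw [hq]
  rcases hdeg with hdeg | h0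
  · rw [aeval_eq_sum_range' hdeg]
    refine Finset.sum_congr rfl fun i _ => ?_
    rw [Algebra.smul_def]
    rfl
  · rw [h0]
    simp

/-- The powers `1, s, …, s ^ (p - 1)` are linearly independent over `F` when `s ∉ F`, `s ^ p ∈ F`. -/
theorem eq_zero_of_sum_eq_zero (hs : s ^ p ∈ F) (hsF : s ∉ F) (c : ℕ → K) (hc : ∀ i, c i ∈ F)
    (h : ∑ i ∈ Finset.range p, c i * s ^ i = 0) : ∀ i ∈ Finset.range p, c i = 0 := by
  classical
  set a : F := ⟨s ^ p, hs⟩ with ha
  have hirr : Irreducible (X ^ p - C a : F[X]) := by
    refine X_pow_sub_C_irreducible_of_prime hp.out ?_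
    intro b hb
    apply hsF
    have h1 : (b : K) ^ p = s ^ p := by
      have := congrArg (fun z : F => (z : K)) hb
      simpa using this
    rw [← eq_of_pow_eq p (b : K) s h1]
    exact b.2
  have hmin : minpoly F s = X ^ p - C a := by
    symm
    refine minpoly.eq_of_irreducible_of_monic hirr ?_ (monic_X_pow_sub_C _ hp.out.ne_zero)
    rw [map_sub, map_pow, aeval_X, aeval_C]
    exact sub_self _
  set q : F[X] := ∑ i ∈ Finset.range p, C (⟨c i, hc i⟩ : F) * X ^ i with hq
  have hq0 : aeval s q = 0 := by
    rw [hq, map_sum, ← h]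
    refine Finset.sum_congr rfl fun i _ => ?_
    rw [map_mul, map_pow, aeval_X, aeval_C]
    rfl
  have hqz : q = 0 := by
    by_contra hne
    have h1 := minpoly.degree_le_of_ne_zero F s hne hq0
    rw [hmin, degree_X_pow_sub_C hp.out.pos] at h1
    have h2 : q.degree < (p : WithBot ℕ) := by
      rw [degree_lt_iff_coeff_zero]
      intro m hm
      rw [hq, finset_sum_coeff]
      refine Finset.sum_eq_zero fun i hi => ?_
      rw [coeff_C_mul, coeff_X_pow, if_neg, mul_zero]
      have := Finset.mem_range.mp hi
      omega
    exact absurd (h1.trans_lt h2) (lt_irrefl _)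
  intro i hi
  have h3 : q.coeff i = 0 := by rw [hqz, coeff_zero]
  rw [hq, finset_sum_coeff] at h3
  simp only [coeff_C_mul, coeff_X_pow] at h3
  rw [Finset.sum_eq_single i] at h3
  · simp only [if_true, mul_one] at h3
    have := congrArg (fun z : F => (z : K)) h3
    simpa using this
  · intro j _ hji
    rw [if_neg (Ne.symm hji), mul_zero]
  · intro hi'
    exact absurd hi hi'

end Simple

section Family

variable {ι : Type*} [Nonempty ι] (F : ι → Subfield K)

/-- Adjoining one element commutes with the intersection of a directed family of subfields containing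
all `p`-th powers. -/
theorem iInf_closure_insert_le (hdir : ∀ α β, ∃ γ, F γ ≤ F α ⊓ F β)
    (hpow : ∀ α (x : K), x ^ p ∈ F α) (s : K) :
    ⨅ α, Subfield.closure ((F α : Set K) ∪ {s}) ≤
      Subfield.closure (((⨅ α, F α : Subfield K) : Set K) ∪ {s}) := by
  classical
  intro x hx
  rw [Subfield.mem_iInf] at hx
  by_cases hall : ∀ α, s ∈ F α
  · have hxF : x ∈ ⨅ α, F α := by
      rw [Subfield.mem_iInf]
      intro α
      have h1 : Subfield.closure ((F α : Set K) ∪ {s}) ≤ F α := by
        rw [Subfield.closure_le]
        rintro y (hy | hy)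
        · exact hy
        · rw [Set.mem_singleton_iff.mp hy]; exact hall α
      exact h1 (hx α)
    exact Subfield.subset_closure (Or.inl hxF)
  · push Not at hall
    obtain ⟨α₁, hα₁⟩ := hall
    obtain ⟨c, hc, hxc⟩ := exists_repr p (F α₁) s (hpow α₁ s) x (hx α₁)
    have hcmem : ∀ i ∈ Finset.range p, c i ∈ ⨅ α, F α := by
      intro i hi
      rw [Subfield.mem_iInf]
      intro β
      obtain ⟨γ, hγ⟩ := hdir α₁ β
      obtain ⟨c', hc', hxc'⟩ := exists_repr p (F γ) s (hpow γ s) x (hx γ)
      have hdiff : ∑ j ∈ Finset.range p, (c j - c' j) * s ^ j = 0 := by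
        simp only [sub_mul, Finset.sum_sub_distrib]
        rw [← hxc, ← hxc', sub_self]
      have := eq_zero_of_sum_eq_zero p (F α₁) s (hpow α₁ s) hα₁ (fun j => c j - c' j)
        (fun j => sub_mem (hc j) ((hγ.trans inf_le_left) (hc' j))) hdiff i hi
      rw [sub_eq_zero.mp this]
      exact (hγ.trans inf_le_right) (hc' i)
    rw [hxc]
    refine sum_mem fun i hi => ?_
    have hs_mem : s ∈ Subfield.closure (((⨅ α, F α : Subfield K) : Set K) ∪ {s}) :=
      Subfield.subset_closure (Or.inr (Set.mem_singleton s))
    refine mul_mem (Subfield.subset_closure (Or.inl (hcmem i hi))) ?_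
    exact pow_mem hs_mem i

/-- Adjoining finitely many elements commutes with the intersection of a directed family of
subfields containing all `p`-th powers. -/
theorem iInf_closure_union_le (hdir : ∀ α β, ∃ γ, F γ ≤ F α ⊓ F β)
    (hpow : ∀ α (x : K), x ^ p ∈ F α) (S : Finset K) :
    ⨅ α, Subfield.closure ((F α : Set K) ∪ S) ≤
      Subfield.closure (((⨅ α, F α : Subfield K) : Set K) ∪ S) := by
  classical
  induction S using Finset.induction_on with
  | empty =>
    simp only [Finset.coe_empty, Set.union_empty, Subfield.closure_eq]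
    exact le_rfl
  | insert s S _ ih =>
    set G : ι → Subfield K := fun α => Subfield.closure ((F α : Set K) ∪ S) with hG
    have hGdir : ∀ α β, ∃ γ, G γ ≤ G α ⊓ G β := by
      intro α β
      obtain ⟨γ, hγ⟩ := hdir α β
      refine ⟨γ, le_inf ?_ ?_⟩
      · exact Subfield.closure_mono (Set.union_subset_union_left _ (hγ.trans inf_le_left))
      · exact Subfield.closure_mono (Set.union_subset_union_left _ (hγ.trans inf_le_right))
    have hGpow : ∀ α (x : K), x ^ p ∈ G α := fun α x =>
      Subfield.subset_closure (Or.inl (hpow α x))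
    have key := iInf_closure_insert_le p G hGdir hGpow s
    have hstep : ∀ (H : Subfield K),
        Subfield.closure (((Subfield.closure ((H : Set K) ∪ S) : Subfield K) : Set K) ∪ {s}) =
          Subfield.closure ((H : Set K) ∪ ((insert s S : Finset K) : Set K)) := by
      intro H
      apply le_antisymm
      · rw [Subfield.closure_le]
        rintro y (hy | hy)
        · have h1 : Subfield.closure ((H : Set K) ∪ S) ≤
              Subfield.closure ((H : Set K) ∪ ((insert s S : Finset K) : Set K)) := by
            apply Subfield.closure_mono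
            apply Set.union_subset_union_right
            intro z hz
            exact Finset.mem_coe.mpr (Finset.mem_insert_of_mem (Finset.mem_coe.mp hz))
          exact h1 hy
        · rw [Set.mem_singleton_iff.mp hy]
          exact Subfield.subset_closure (Or.inr (Finset.mem_coe.mpr (Finset.mem_insert_self s S)))
      · rw [Subfield.closure_le]
        rintro y (hy | hy)
        · exact Subfield.subset_closure (Or.inl (Subfield.subset_closure (Or.inl hy)))
        · rcases Finset.mem_insert.mp (Finset.mem_coe.mp hy) with rfl | hyS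
          · exact Subfield.subset_closure (Or.inr rfl)
          · exact Subfield.subset_closure (Or.inl (Subfield.subset_closure
              (Or.inr (Finset.mem_coe.mpr hyS))))
    intro x hx
    rw [Subfield.mem_iInf] at hx
    have hx' : x ∈ ⨅ α, Subfield.closure ((G α : Set K) ∪ {s}) := by
      rw [Subfield.mem_iInf]
      intro α
      rw [hG, hstep]
      exact hx α
    have h2 := key hx'
    have h3 : Subfield.closure (((⨅ α, G α : Subfield K) : Set K) ∪ {s}) ≤
        Subfield.closure (((Subfield.closure (((⨅ α, F α : Subfield K) : Set K) ∪ S) :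
          Subfield K) : Set K) ∪ {s}) := by
      apply Subfield.closure_mono
      apply Set.union_subset_union_left
      exact ih
    rw [← hstep]
    exact h3 h2

end Family

section Deriv

/-- A derivation separating an element from a subfield containing all `p`-th powers. -/
theorem exists_derivation_ne_zero (E : Subfield K) (hE : ∀ x : K, x ^ p ∈ E) (f : K) (hf : f ∉ E) :
    ∃ D : Derivation ℤ K K, (∀ e ∈ E, D e = 0) ∧ D f ≠ 0 := by
  classical
  have hd : KaehlerDifferential.D E K f ≠ 0 := by
    intro h0
    have hmem := (Groth.Agent.Lib.Helper13.Admissible.D_eq_zero_iff p (k := E) (K := K) f).mp h0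
    have hle : EGA41.pPowerSubalgebra p E K ≤ ⊥ := by
      unfold EGA41.pPowerSubalgebra
      rw [Algebra.adjoin_le_iff]
      rintro _ ⟨y, rfl⟩
      exact ⟨⟨y ^ p, hE y⟩, rfl⟩
    obtain ⟨e, he⟩ := hle hmem
    apply hf
    rw [← he]
    exact e.2
  obtain ⟨φ, hφ⟩ : ∃ φ : Module.Dual K (Ω[K⁄E]), φ (KaehlerDifferential.D E K f) ≠ 0 := by
    by_contra hcon
    push Not at hcon
    exact hd ((Module.forall_dual_apply_eq_zero_iff K _).mp hcon)
  let D₀ : Derivation E K K := φ.compDer (KaehlerDifferential.D E K)
  refine ⟨D₀.restrictScalars ℤ, ?_, hφ⟩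
  intro e he
  have : D₀ (algebraMap E K ⟨e, he⟩) = 0 := D₀.map_algebraMap _
  exact this

/-- Differentials of elements of `K^p(S)` lie in the span of the differentials of `S`. -/
theorem D_mem_span_of_mem_closure (S : Set K) (x : K)
    (hx : x ∈ Subfield.closure (Set.range (fun y : K => y ^ p) ∪ S)) :
    KaehlerDifferential.D ℤ K x ∈
      Submodule.span K ((KaehlerDifferential.D ℤ K) '' S) := by
  induction hx using Subfield.closure_induction with
  | mem y hy =>
    rcases hy with ⟨z, rfl⟩ | hy
    · rw [Derivation.leibniz_pow]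
      have : ((p : ℕ) : K) = 0 := CharP.cast_eq_zero K p
      rw [← Nat.cast_smul_eq_nsmul K, this, zero_smul]
      exact zero_mem _
    · exact Submodule.subset_span ⟨y, hy, rfl⟩
  | one => rw [Derivation.map_one_eq_zero]; exact zero_mem _
  | add y z _ _ hy hz => rw [map_add]; exact add_mem hy hz
  | neg y _ hy => rw [map_neg]; exact neg_mem hy
  | inv y _ hy =>
    rw [Derivation.leibniz_inv]
    exact Submodule.smul_mem _ _ hy
  | mul y z _ _ hy hz =>
    rw [Derivation.leibniz]
    exact add_mem (Submodule.smul_mem _ _ hz) (Submodule.smul_mem _ _ hy)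

end Deriv

end Groth.Agent.Lib.Helper96.PField
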