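import Mathlib
import Groth.Agent.Lib.Helper96.PField
import Groth.Agent.Lib.Helper96.DerivCrit

/-!
# Good families of subrings and the derivation dichotomy (helper96)

A *good family* on a domain `A` of characteristic `p` is a directed family of subrings `A_α ⊇ A^p`
over which `A` is finitely generated as a ring, each saturated in `A`, and with intersection `A^p`.
Given such a family and a `Frac A`-algebra `L` to which every derivation of `A` extends, the
derivation dichotomy of `DerivCrit` holds (Stacks 07PD–07PF in abstract form).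
-/

set_option autoImplicit false
set_option linter.style.haveILetI false
set_option linter.unusedSectionVars false

universe u

namespace Groth.Agent.Lib.Helper96.GoodFamily

open Groth.Agent.Lib.Helper96

/-- A good family of subrings. -/
structure IsGood {A : Type u} [CommRing A] (p : ℕ) {ι : Type*} (sub : ι → Subring A) : Prop where
  directed : ∀ α β, ∃ γ, sub γ ≤ sub α ⊓ sub β
  pow_mem : ∀ α (a : A), a ^ p ∈ sub α
  fg : ∀ α, ∃ t : Finset A, Subring.closure ((sub α : Set A) ∪ t) = ⊤
  sat : ∀ α (u v b : A), u ∈ sub α → v ∈ sub α → v ≠ 0 → v * b = u → b ∈ sub α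
  inf : ∀ b : A, (∀ α, b ∈ sub α) → ∃ c : A, c ^ p = b

variable {A : Type u} [CommRing A] [IsDomain A] (p : ℕ) [hp : Fact p.Prime] [CharP A p]
  {ι : Type*} [Nonempty ι] (sub : ι → Subring A)
  (K : Type u) [Field K] [Algebra A K] [IsFractionRing A K]

/-- The subfield of `K` generated by `A_α`. -/
def Kα (α : ι) : Subfield K := Subfield.closure (algebraMap A K '' (sub α : Set A))

variable {K}

theorem mem_Kα (α : ι) (x : K) (hx : x ∈ Kα sub K α) :
    ∃ u ∈ sub α, ∃ v ∈ sub α, v ≠ 0 ∧ x * algebraMap A K v = algebraMap A K u := by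
  unfold Kα at hx
  rw [Subfield.mem_closure_iff] at hx
  obtain ⟨y, hy, z, hz, rfl⟩ := hx
  have himg : Subring.closure (algebraMap A K '' (sub α : Set A)) = (sub α).map (algebraMap A K) := by
    rw [← RingHom.map_closure, Subring.closure_eq]
  rw [himg] at hy hz
  obtain ⟨u, hu, rfl⟩ := hy
  obtain ⟨v, hv, rfl⟩ := hz
  by_cases hv0 : v = 0
  · refine ⟨0, zero_mem _, 1, one_mem _, one_ne_zero, ?_⟩
    simp [hv0]
  · refine ⟨u, hu, v, hv, hv0, ?_⟩
    have : algebraMap A K v ≠ 0 := by
      rw [Ne, map_eq_zero_iff _ (IsFractionRing.injective A K)]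
      exact hv0
    rw [div_mul_cancel₀ _ this]

theorem algebraMap_mem_Kα (α : ι) (a : A) (ha : a ∈ sub α) : algebraMap A K a ∈ Kα sub K α :=
  Subfield.subset_closure ⟨a, ha, rfl⟩

variable {sub}

theorem pow_mem_Kα (h : IsGood p sub) (α : ι) (x : K) : x ^ p ∈ Kα sub K α := by
  obtain ⟨a, b, hb, rfl⟩ := IsFractionRing.div_surjective (A := A) x
  rw [div_pow, ← map_pow, ← map_pow]
  exact div_mem (algebraMap_mem_Kα sub α _ (h.pow_mem α a))
    (algebraMap_mem_Kα sub α _ (h.pow_mem α b))

theorem Kα_directed (h : IsGood p sub) (α β : ι) :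
    ∃ γ, Kα sub K γ ≤ Kα sub K α ⊓ Kα sub K β := by
  obtain ⟨γ, hγ⟩ := h.directed α β
  refine ⟨γ, le_inf ?_ ?_⟩
  · exact Subfield.closure_mono (Set.image_mono fun x hx => (hγ hx).1)
  · exact Subfield.closure_mono (Set.image_mono fun x hx => (hγ hx).2)

theorem exists_pow_eq_of_mem_iInf (h : IsGood p sub) (x : K) (hx : x ∈ ⨅ α, Kα sub K α) :
    ∃ y : K, y ^ p = x := by
  rw [Subfield.mem_iInf] at hx
  obtain ⟨a, b, hb, rfl⟩ := IsFractionRing.div_surjective (A := A) x
  have hb0 : b ≠ 0 := nonZeroDivisors.ne_zero hb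
  have hbK : algebraMap A K b ≠ 0 := by
    rw [Ne, map_eq_zero_iff _ (IsFractionRing.injective A K)]
    exact hb0
  have hp1 : p - 1 + 1 = p := Nat.sub_add_cancel hp.out.one_le
  set c : A := a * b ^ (p - 1) with hc
  have hcx : algebraMap A K c = algebraMap A K a / algebraMap A K b * algebraMap A K (b ^ p) := by
    rw [hc, map_mul, map_pow, map_pow]
    have : algebraMap A K b ^ p = algebraMap A K b ^ (p - 1) * algebraMap A K b := by
      rw [← pow_succ, hp1]
    rw [this]
    field_simp
  have hcmem : ∀ α, c ∈ sub α := by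
    intro α
    have h1 : algebraMap A K c ∈ Kα sub K α := by
      rw [hcx]
      exact mul_mem (hx α) (algebraMap_mem_Kα sub α _ (h.pow_mem α b))
    obtain ⟨u, hu, v, hv, hv0, huv⟩ := mem_Kα sub α _ h1
    refine h.sat α u v c hu hv hv0 ?_
    apply IsFractionRing.injective A K
    rw [map_mul, mul_comm, huv]
  obtain ⟨e, he⟩ := h.inf c hcmem
  refine ⟨algebraMap A K e / algebraMap A K b, ?_⟩
  rw [div_pow, ← map_pow, he, ← map_pow, hcx, map_pow]
  have : algebraMap A K b ^ p ≠ 0 := pow_ne_zero _ hbK
  field_simp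

/-- A derivation of `K` vanishing on `K_α` is bounded: a nonzero multiple of it preserves `A`. -/
theorem exists_derivation_of_vanishing (h : IsGood p sub) (α : ι) (D : Derivation ℤ K K)
    (hD : ∀ x ∈ Kα sub K α, D x = 0) :
    ∃ (g : A) (_ : g ≠ 0) (DA : Derivation ℤ A A),
      ∀ a : A, algebraMap A K (DA a) = algebraMap A K g * D (algebraMap A K a) := by
  classical
  obtain ⟨t, ht⟩ := h.fg α
  obtain ⟨⟨g, hg⟩, hgt⟩ := IsLocalization.exist_integer_multiples_of_finset (nonZeroDivisors A)
    (t.image fun s => D (algebraMap A K s))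
  have hg0 : g ≠ 0 := nonZeroDivisors.ne_zero hg
  let W : Subring A :=
    { carrier := {a | ∃ r : A, algebraMap A K r = algebraMap A K g * D (algebraMap A K a)}
      mul_mem' := by
        rintro a b ⟨ra, hra⟩ ⟨rb, hrb⟩
        refine ⟨a * rb + b * ra, ?_⟩
        rw [map_add, map_mul, map_mul, hra, hrb, map_mul, Derivation.leibniz, smul_eq_mul,
          smul_eq_mul]
        ring
      one_mem' := ⟨0, by rw [map_one, Derivation.map_one_eq_zero, mul_zero, map_zero]⟩
      add_mem' := by
        rintro a b ⟨ra, hra⟩ ⟨rb, hrb⟩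
        refine ⟨ra + rb, ?_⟩
        rw [map_add, hra, hrb, map_add, map_add, mul_add]
      zero_mem' := ⟨0, by rw [map_zero, map_zero, mul_zero]⟩
      neg_mem' := by
        rintro a ⟨ra, hra⟩
        refine ⟨-ra, ?_⟩
        rw [map_neg, hra, map_neg, map_neg, mul_neg] }
  have hW : W = ⊤ := by
    rw [eq_top_iff, ← ht, Subring.closure_le]
    rintro a (ha | ha)
    · refine ⟨0, ?_⟩
      simp [hD _ (algebraMap_mem_Kα sub α a ha)]
    · obtain ⟨r, hr⟩ := hgt (D (algebraMap A K a)) (Finset.mem_image_of_mem _ (Finset.mem_coe.mp ha))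
      refine ⟨r, ?_⟩
      rw [hr, Algebra.smul_def]
  have hall : ∀ a : A, ∃ r : A, algebraMap A K r = algebraMap A K g * D (algebraMap A K a) := by
    intro a
    have : a ∈ W := by rw [hW]; exact Subring.mem_top a
    exact this
  choose r hr using hall
  have hinj := IsFractionRing.injective A K
  have hadd : ∀ x y, r (x + y) = r x + r y := by
    intro x y
    apply hinj
    rw [map_add, hr, hr, hr, map_add, map_add, mul_add]
  have hzero : r 0 = 0 := by
    apply hinj
    rw [hr]
    simp
  have hmul : ∀ x y, r (x * y) = x • r y + y • r x := by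
    intro x y
    apply hinj
    rw [smul_eq_mul, smul_eq_mul, map_add, map_mul, map_mul, hr, hr, hr, map_mul,
      Derivation.leibniz, smul_eq_mul, smul_eq_mul]
    ring
  let f : A →+ A := { toFun := r, map_zero' := hzero, map_add' := hadd }
  exact ⟨g, hg0, Derivation.mk' f.toIntLinearMap fun a b => hmul a b, fun a => hr a⟩

/-- Two derivations into a `K`-algebra agreeing on `A` agree on `K`. -/
theorem derivation_ext_of_fractionRing {L : Type u} [CommRing L] [Algebra K L]
    (DK : Derivation ℤ K K) (DL : Derivation ℤ L L)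
    (hA : ∀ a : A, DL (algebraMap K L (algebraMap A K a)) =
      algebraMap K L (DK (algebraMap A K a))) (x : K) :
    DL (algebraMap K L x) = algebraMap K L (DK x) := by
  obtain ⟨a, b, hb, rfl⟩ := IsFractionRing.div_surjective (A := A) x
  have hb0 : b ≠ 0 := nonZeroDivisors.ne_zero hb
  have hbK : algebraMap A K b ≠ 0 := by
    rw [Ne, map_eq_zero_iff _ (IsFractionRing.injective A K)]
    exact hb0
  set x : K := algebraMap A K a / algebraMap A K b with hx
  have hxb : x * algebraMap A K b = algebraMap A K a := div_mul_cancel₀ _ hbK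
  have hunit : IsUnit (algebraMap K L (algebraMap A K b)) := (IsUnit.mk0 _ hbK).map _
  have h1 : DL (algebraMap K L (x * algebraMap A K b)) =
      algebraMap K L (DK (x * algebraMap A K b)) := by rw [hxb]; exact hA a
  rw [map_mul, Derivation.leibniz, Derivation.leibniz, hA b, smul_eq_mul, smul_eq_mul,
    smul_eq_mul, smul_eq_mul, map_add, map_mul, map_mul] at h1
  have h2 : algebraMap K L (algebraMap A K b) * (DL (algebraMap K L x) - algebraMap K L (DK x)) =
      0 := by
    rw [mul_sub]
    linear_combination h1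
  exact sub_eq_zero.mp ((hunit.mul_right_eq_zero).mp h2)

/-- **The dichotomy from a good family and extendability of derivations.** -/
theorem dichotomy (h : IsGood p sub) {L : Type u} [CommRing L] [IsLocalRing L] [Algebra K L]
    (hext : ∀ DA : Derivation ℤ A A, ∃ DL : Derivation ℤ L L, ∀ a : A,
      DL (algebraMap K L (algebraMap A K a)) = algebraMap K L (algebraMap A K (DA a))) :
    DerivCrit.Dichotomy K L := by
  classical
  haveI : CharP K p := charP_of_injective_algebraMap (IsFractionRing.injective A K) p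
  intro S f
  by_cases hall : ∀ α, f ∈ Subfield.closure ((Kα sub K α : Set K) ∪ S)
  · left
    have h1 : f ∈ ⨅ α, Subfield.closure ((Kα sub K α : Set K) ∪ S) := by
      rw [Subfield.mem_iInf]; exact hall
    have h2 := PField.iInf_closure_union_le p (Kα sub K) (Kα_directed p h) (pow_mem_Kα p h) S h1
    refine PField.D_mem_span_of_mem_closure p (S : Set K) f ?_
    refine Subfield.closure_mono ?_ h2
    rintro y (hy | hy)
    · obtain ⟨z, hz⟩ := exists_pow_eq_of_mem_iInf p h y hy
      exact Or.inl ⟨z, hz⟩
    · exact Or.inr hy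
  · right
    push Not at hall
    obtain ⟨α, hα⟩ := hall
    set E : Subfield K := Subfield.closure ((Kα sub K α : Set K) ∪ S) with hE
    have hEpow : ∀ x : K, x ^ p ∈ E := fun x =>
      Subfield.subset_closure (Or.inl (pow_mem_Kα p h α x))
    obtain ⟨D, hDE, hDf⟩ := PField.exists_derivation_ne_zero p E hEpow f hα
    obtain ⟨g, hg0, DA, hDA⟩ := exists_derivation_of_vanishing p h α D
      (fun x hx => hDE x (Subfield.subset_closure (Or.inl hx)))
    obtain ⟨DL₀, hDL₀⟩ := hext DA
    have hgK : algebraMap A K g ≠ 0 := by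
      rw [Ne, map_eq_zero_iff _ (IsFractionRing.injective A K)]
      exact hg0
    have hunit : IsUnit (algebraMap K L (algebraMap A K g)) := (IsUnit.mk0 _ hgK).map _
    obtain ⟨w, hw⟩ := hunit
    refine ⟨D, ((w⁻¹ : Lˣ) : L) • DL₀, ?_, ?_, hDf⟩
    · refine derivation_ext_of_fractionRing (A := A) D _ ?_
      intro a
      rw [Derivation.smul_apply, hDL₀, hDA, map_mul, ← hw, smul_eq_mul, ← mul_assoc,
        Units.inv_mul, one_mul]
    · intro s hs
      exact hDE s (Subfield.subset_closure (Or.inr (Finset.mem_coe.mpr hs)))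

end Groth.Agent.Lib.Helper96.GoodFamily
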