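import Mathlib
import Groth.Prelude.Def_Found
import Groth.Prelude.Def_EGA4b
import Groth.Agent.Lib.Helper96.GoodFamily
import Groth.Agent.Lib.Helper96.ExtChain
import Groth.Agent.Lib.Helper96.GeomRegular
import Groth.Agent.Lib.Helper96.FibreBot
import Groth.Agent.Lib.Helper96.RegularHom
import Groth.Agent.Lib.Helper83.FlatLocalDim
import Groth.Agent.Lib.Helper33.RegularRing
import Groth.Agent.Lib.Helper96.SmoothInsep

/-!
# Generic formal fibres of regular domains with a good family (helper96)

If a Noetherian domain `A` of characteristic `p` carries a good family of subrings, then for every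
prime `P` with `A_P` regular the generic formal fibre of `A_P` is geometrically regular.
-/

set_option autoImplicit false
set_option linter.style.haveILetI false
set_option linter.unusedSectionVars false

universe u

namespace Groth.Agent.Lib.Helper96.GenericFibre

open TensorProduct IsLocalRing Groth.Agent.Lib.Helper96

theorem isGeometricallyRegular_formalFibre_bot_of_isGood
    {A : Type u} [CommRing A] [IsDomain A] [IsNoetherianRing A]
    (p : ℕ) [Fact p.Prime] [CharP A p] {ι : Type*} [Nonempty ι] (sub : ι → Subring A)
    (hgood : GoodFamily.IsGood p sub) (P : Ideal A) [P.IsPrime]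
    (hreg : IsRegularLocalRing (Localization.AtPrime P)) :
    CAlg.IsGeometricallyRegular (⊥ : Ideal (Localization.AtPrime P)).ResidueField
      (EGA4.formalFibre (Localization.AtPrime P) (⊥ : Ideal (Localization.AtPrime P))) := by
  classical
  haveI : IsNoetherianRing (Localization.AtPrime P) :=
    IsLocalization.isNoetherianRing P.primeCompl _ inferInstance
  have hne : maximalIdeal (Localization.AtPrime P) ≠ ⊤ := Ideal.IsPrime.ne_top'
  haveI : IsNoetherianRing (AdicCompletion (maximalIdeal (Localization.AtPrime P))
      (Localization.AtPrime P)) :=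
    Groth.Agent.Lib.Helper83.isNoetherianRing_adicCompletion _
  haveI : IsLocalRing (AdicCompletion (maximalIdeal (Localization.AtPrime P))
      (Localization.AtPrime P)) :=
    Groth.Agent.Lib.Helper83.isLocalRing_adicCompletion _ (Ideal.fg_of_isNoetherianRing _) hne
  haveI hregC : IsRegularLocalRing (AdicCompletion (maximalIdeal (Localization.AtPrime P))
      (Localization.AtPrime P)) :=
    (Groth.Agent.Lib.Helper83.isRegularLocalRing_adicCompletion_iff _ hne).mp hreg
  haveI hregR : IsRegularRing (AdicCompletion (maximalIdeal (Localization.AtPrime P))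
      (Localization.AtPrime P)) :=
    Groth.Agent.Lib.Helper33.isRegularRing_of_isRegularLocalRing _
  haveI hNT : IsNoetherianRing (EGA4.formalFibre (Localization.AtPrime P)
      (⊥ : Ideal (Localization.AtPrime P))) :=
    isNoetherianRing_fiber (Localization.AtPrime P) _ ⊥
  have hregT : IsRegularRing (EGA4.formalFibre (Localization.AtPrime P)
      (⊥ : Ideal (Localization.AtPrime P))) := by
    refine (isRegularRing_fiber_bot_iff (Localization.AtPrime P) _).mpr fun q _ _ => ?_
    exact hregR.isRegularLocalRing_localization q
  refine (isGeometricallyRegular_iff_forall_adicFormallySmooth (k := (⊥ : Ideal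
    (Localization.AtPrime P)).ResidueField) (A := EGA4.formalFibre (Localization.AtPrime P)
      (⊥ : Ideal (Localization.AtPrime P)))).mpr fun 𝔮 _ => ?_
  haveI : IsNoetherianRing (Localization.AtPrime 𝔮) :=
    IsLocalization.isNoetherianRing 𝔮.primeCompl _ inferInstance
  haveI : IsFractionRing A (⊥ : Ideal (Localization.AtPrime P)).ResidueField :=
    ExtChain.isFractionRing_residueField_bot_atPrime A P
  haveI : Algebra.FormallyEtale (EGA4.formalFibre (Localization.AtPrime P)
      (⊥ : Ideal (Localization.AtPrime P))) (Localization.AtPrime 𝔮) :=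
    Algebra.FormallyEtale.of_isLocalization 𝔮.primeCompl
  haveI : Algebra.FormallyEtale A (Localization.AtPrime P) :=
    Algebra.FormallyEtale.of_isLocalization P.primeCompl
  refine DerivCrit.isAdicFormallySmooth_of_dichotomy (hregT.isRegularLocalRing_localization 𝔮) ?_
  refine GoodFamily.dichotomy p hgood ?_
  intro DA
  obtain ⟨D₀, hD₀⟩ := ExtChain.exists_derivation_of_formallyEtale
    (T := Localization.AtPrime P) DA
  obtain ⟨DL, hDL⟩ := ExtChain.exists_derivation_formalFibre (Localization.AtPrime P)
    (L := Localization.AtPrime 𝔮) D₀
  refine ⟨DL, fun a => ?_⟩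
  rw [IsScalarTower.algebraMap_apply A (Localization.AtPrime P)
    (⊥ : Ideal (Localization.AtPrime P)).ResidueField, hDL, hD₀,
    ← IsScalarTower.algebraMap_apply A (Localization.AtPrime P)
    (⊥ : Ideal (Localization.AtPrime P)).ResidueField]

/-- In characteristic zero the generic formal fibre of a regular local ring `A_P` is geometrically
regular. -/
theorem isGeometricallyRegular_formalFibre_bot_of_charZero
    {A : Type u} [CommRing A] [IsDomain A] [IsNoetherianRing A] [CharZero A]
    (P : Ideal A) [P.IsPrime]
    (hreg : IsRegularLocalRing (Localization.AtPrime P)) :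
    CAlg.IsGeometricallyRegular (⊥ : Ideal (Localization.AtPrime P)).ResidueField
      (EGA4.formalFibre (Localization.AtPrime P) (⊥ : Ideal (Localization.AtPrime P))) := by
  classical
  haveI : IsNoetherianRing (Localization.AtPrime P) :=
    IsLocalization.isNoetherianRing P.primeCompl _ inferInstance
  have hne : maximalIdeal (Localization.AtPrime P) ≠ ⊤ := Ideal.IsPrime.ne_top'
  haveI : IsNoetherianRing (AdicCompletion (maximalIdeal (Localization.AtPrime P))
      (Localization.AtPrime P)) :=
    Groth.Agent.Lib.Helper83.isNoetherianRing_adicCompletion _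
  haveI : IsLocalRing (AdicCompletion (maximalIdeal (Localization.AtPrime P))
      (Localization.AtPrime P)) :=
    Groth.Agent.Lib.Helper83.isLocalRing_adicCompletion _ (Ideal.fg_of_isNoetherianRing _) hne
  haveI hregC : IsRegularLocalRing (AdicCompletion (maximalIdeal (Localization.AtPrime P))
      (Localization.AtPrime P)) :=
    (Groth.Agent.Lib.Helper83.isRegularLocalRing_adicCompletion_iff _ hne).mp hreg
  haveI hregR : IsRegularRing (AdicCompletion (maximalIdeal (Localization.AtPrime P))
      (Localization.AtPrime P)) :=
    Groth.Agent.Lib.Helper33.isRegularRing_of_isRegularLocalRing _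
  haveI hNT : IsNoetherianRing (EGA4.formalFibre (Localization.AtPrime P)
      (⊥ : Ideal (Localization.AtPrime P))) :=
    isNoetherianRing_fiber (Localization.AtPrime P) _ ⊥
  have hregT : IsRegularRing (EGA4.formalFibre (Localization.AtPrime P)
      (⊥ : Ideal (Localization.AtPrime P))) := by
    refine (isRegularRing_fiber_bot_iff (Localization.AtPrime P) _).mpr fun q _ _ => ?_
    exact hregR.isRegularLocalRing_localization q
  haveI : IsFractionRing A (⊥ : Ideal (Localization.AtPrime P)).ResidueField :=
    ExtChain.isFractionRing_residueField_bot_atPrime A P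
  haveI : CharZero (⊥ : Ideal (Localization.AtPrime P)).ResidueField :=
    charZero_of_injective_algebraMap (IsFractionRing.injective A _)
  refine (isGeometricallyRegular_iff_forall_adicFormallySmooth (k := (⊥ : Ideal
    (Localization.AtPrime P)).ResidueField) (A := EGA4.formalFibre (Localization.AtPrime P)
      (⊥ : Ideal (Localization.AtPrime P)))).mpr fun 𝔮 _ => ?_
  haveI : IsNoetherianRing (Localization.AtPrime 𝔮) :=
    IsLocalization.isNoetherianRing 𝔮.primeCompl _ inferInstance
  exact isAdicFormallySmooth_of_regular_of_charZero (hregT.isRegularLocalRing_localization 𝔮)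

end Groth.Agent.Lib.Helper96.GenericFibre
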