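import Mathlib
import Groth.Agent.Lib.Helper13.Admissible
import Groth.Agent.Lib.Helper13.Admissible4
import Groth.Agent.Lib.Helper13.SepDiff2

/-!
# A cofinite directed family of subfields with intersection `k^p` (helper96)
-/

set_option autoImplicit false
set_option linter.style.haveILetI false
set_option linter.unusedSectionVars false

universe u

namespace Groth.Agent.Lib.Helper96.PFieldFamily

open Groth.Agent.Lib.Helper13.Admissible Groth.Agent.Lib.Helper13.SepDiff

variable (k : Type u) [Field k] (p : ℕ) [hp : Fact p.Prime] [CharP k p]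

/-- Elements of the prime field are fixed by Frobenius. -/
theorem pow_eq_self_of_mem_bot (r : k) (hr : r ∈ (⊥ : Subfield k)) : r ^ p = r := by
  have h : (⊥ : Subfield k) ≤ RingHom.eqLocusField (frobenius k p) (RingHom.id k) := bot_le
  exact h hr

/-- Elements of `k₀[k^p]` are `p`-th powers when `k₀` is the prime field. -/
theorem exists_pow_eq_of_mem_pPowerSubalgebra (x : k)
    (hx : x ∈ EGA41.pPowerSubalgebra p (⊥ : Subfield k) k) : ∃ y : k, y ^ p = x := by
  unfold EGA41.pPowerSubalgebra at hx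
  induction hx using Algebra.adjoin_induction with
  | mem y hy => obtain ⟨z, rfl⟩ := hy; exact ⟨z, rfl⟩
  | algebraMap r => exact ⟨(r : k), pow_eq_self_of_mem_bot k p _ r.2⟩
  | add y z _ _ hy hz =>
    obtain ⟨a, rfl⟩ := hy
    obtain ⟨b, rfl⟩ := hz
    exact ⟨a + b, add_pow_char a b p⟩
  | mul y z _ _ hy hz =>
    obtain ⟨a, rfl⟩ := hy
    obtain ⟨b, rfl⟩ := hz
    exact ⟨a * b, mul_pow a b p⟩

theorem exists_family :
    ∃ (ι : Type u) (_ : Nonempty ι) (F : ι → Subfield k),
      (∀ α β, ∃ γ, F γ ≤ F α ⊓ F β) ∧ (∀ α (x : k), x ^ p ∈ F α) ∧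
      (∀ α, Module.Finite (F α) k) ∧
      (∀ x : k, (∀ α, x ∈ F α) → ∃ y : k, y ^ p = x) := by
  classical
  obtain ⟨B, hB⟩ := exists_pBasis (K := (⊥ : Subfield k)) (E := k) p
  refine ⟨Finset B, ⟨∅⟩, fun α => (kF (k₀ := (⊥ : Subfield k)) p B α).toSubfield, ?_, ?_, ?_, ?_⟩
  · intro α β
    refine ⟨α ∪ β, le_inf ?_ ?_⟩
    · intro x hx
      exact kF_antitone (k₀ := (⊥ : Subfield k)) p B Finset.subset_union_left hx
    · intro x hx
      exact kF_antitone (k₀ := (⊥ : Subfield k)) p B Finset.subset_union_right hx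
  · intro α x
    exact pow_mem_kF (k₀ := (⊥ : Subfield k)) p B α x
  · intro α
    exact finite_kF (k₀ := (⊥ : Subfield k)) p hB α
  · intro x hx
    apply exists_pow_eq_of_mem_pPowerSubalgebra k p x
    rw [← D_eq_zero_iff p (k := (⊥ : Subfield k)) (K := k) x]
    apply kF_separating (k₀ := (⊥ : Subfield k)) p hB
    intro α
    rw [KaehlerDifferential.map_D, Algebra.algebraMap_self_apply]
    have hxα : x ∈ kF (k₀ := (⊥ : Subfield k)) p B α := hx α
    have : x = algebraMap (kF (k₀ := (⊥ : Subfield k)) p B α) k ⟨x, hxα⟩ := rfl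
    rw [this, Derivation.map_algebraMap]

end Groth.Agent.Lib.Helper96.PFieldFamily
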