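import Mathlib
import Groth.Agent.S9829
import Groth.Agent.Lib.Helper76.PSCohen
import Groth.Agent.Lib.Helper96.GoodFamily

/-!
# The good family `k_α[[x^p]]` on a power series ring (helper96)

For a field `k` of characteristic `p` and a subfield `k'`, the subring `k'[[x^p]]` of
`k[[x_1, …, x_n]]`.  If `k' ⊇ k^p` has finite index, `k[[x]]` is finitely generated over it; it is
saturated; and for a directed family `k_α` with intersection `k^p` these subrings form a good
family.
-/

set_option autoImplicit false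
set_option linter.style.haveILetI false
set_option linter.unusedSectionVars false

universe u

namespace Groth.Agent.Lib.Helper96.PSFamily

open MvPowerSeries

variable {k : Type u} [Field k] (p : ℕ) [hp : Fact p.Prime] [CharP k p] (n : ℕ)

/-- the embedding `k'[[x]] → k[[x]]`, `a ↦ a(x^p)` -/
noncomputable def phi (k' : Subfield k) :
    MvPowerSeries (Fin n) k' →+* MvPowerSeries (Fin n) k :=
  ((expand p hp.out.ne_zero : MvPowerSeries (Fin n) k →ₐ[k] MvPowerSeries (Fin n) k) :
    MvPowerSeries (Fin n) k →+* MvPowerSeries (Fin n) k).comp (MvPowerSeries.map k'.subtype)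

/-- the subring `k'[[x^p]]` -/
noncomputable def sub (k' : Subfield k) : Subring (MvPowerSeries (Fin n) k) := (phi p n k').range

theorem exists_eq_smul (d : Fin n →₀ ℕ) (h : ∀ i, p ∣ d i) : ∃ e : Fin n →₀ ℕ, d = p • e := by
  refine ⟨d.mapRange (· / p) (Nat.zero_div p), ?_⟩
  ext i
  rw [Finsupp.smul_apply, Finsupp.mapRange_apply, smul_eq_mul, Nat.mul_div_cancel' (h i)]

theorem coeff_phi_smul (k' : Subfield k) (a : MvPowerSeries (Fin n) k') (e : Fin n →₀ ℕ) :
    coeff (p • e) (phi p n k' a) = ((coeff e a : ↥k') : k) := by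
  unfold phi
  rw [RingHom.comp_apply]
  change coeff (p • e) (expand p hp.out.ne_zero (MvPowerSeries.map k'.subtype a)) = _
  rw [coeff_expand_smul, coeff_map]
  rfl

theorem coeff_phi_of_not_dvd (k' : Subfield k) (a : MvPowerSeries (Fin n) k') {d : Fin n →₀ ℕ}
    {i : Fin n} (h : ¬ p ∣ d i) : coeff d (phi p n k' a) = 0 := by
  unfold phi
  rw [RingHom.comp_apply]
  change coeff d (expand p hp.out.ne_zero (MvPowerSeries.map k'.subtype a)) = _
  exact coeff_expand_of_not_dvd p hp.out.ne_zero _ h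

theorem mem_sub_iff (k' : Subfield k) (a : MvPowerSeries (Fin n) k) :
    a ∈ sub p n k' ↔ ∀ d, coeff d a ∈ k' ∧ (coeff d a ≠ 0 → ∀ i, p ∣ d i) := by
  constructor
  · rintro ⟨a', rfl⟩ d
    by_cases h : ∀ i, p ∣ d i
    · obtain ⟨e, rfl⟩ := exists_eq_smul p n d h
      rw [coeff_phi_smul]
      exact ⟨(coeff e a').2, fun _ => h⟩
    · push Not at h
      obtain ⟨i, hi⟩ := h
      rw [coeff_phi_of_not_dvd p n k' a' hi]
      exact ⟨zero_mem _, fun h => absurd rfl h⟩
  · intro h
    refine ⟨fun e => ⟨coeff (p • e) a, (h _).1⟩, ?_⟩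
    ext d
    by_cases hd : ∀ i, p ∣ d i
    · obtain ⟨e, rfl⟩ := exists_eq_smul p n d hd
      rw [coeff_phi_smul]
      rfl
    · have h0 : coeff d a = 0 := by
        by_contra hne
        exact hd ((h d).2 hne)
      push Not at hd
      obtain ⟨i, hi⟩ := hd
      rw [coeff_phi_of_not_dvd p n k' _ hi, h0]

theorem phi_injective (k' : Subfield k) : Function.Injective (phi p n k') := by
  rw [injective_iff_map_eq_zero]
  intro a ha
  ext e
  have := coeff_phi_smul p n k' a e
  rw [ha, coeff_zero] at this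
  rw [coeff_zero]
  simpa using this.symm

theorem sub_mono {k₁ k₂ : Subfield k} (h : k₁ ≤ k₂) : sub p n k₁ ≤ sub p n k₂ := by
  intro a ha
  rw [mem_sub_iff] at ha ⊢
  exact fun d => ⟨h (ha d).1, (ha d).2⟩

theorem pow_mem_sub (k' : Subfield k) (hk' : ∀ x : k, x ^ p ∈ k') (b : MvPowerSeries (Fin n) k) :
    b ^ p ∈ sub p n k' := by
  rw [mem_sub_iff]
  intro d
  have h1 : b ^ p = (b.expand p hp.out.ne_zero).map (frobenius k p) :=
    (map_frobenius_expand p hp.out.ne_zero).symm
  rw [h1, coeff_map, frobenius_def]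
  refine ⟨hk' _, fun hne i => ?_⟩
  by_contra hi
  rw [coeff_expand_of_not_dvd p hp.out.ne_zero b hi, zero_pow hp.out.ne_zero] at hne
  exact hne rfl

theorem sat_sub (k' : Subfield k) (hk' : ∀ x : k, x ^ p ∈ k') (u v b : MvPowerSeries (Fin n) k)
    (hu : u ∈ sub p n k') (hv : v ∈ sub p n k') (hv0 : v ≠ 0) (h : v * b = u) :
    b ∈ sub p n k' := by
  classical
  obtain ⟨u', rfl⟩ := hu
  obtain ⟨v', rfl⟩ := hv
  obtain ⟨w', hw'⟩ := pow_mem_sub p n k' hk' b
  haveI : IsDomain (MvPowerSeries (Fin n) k') := NoZeroDivisors.to_isDomain _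
  haveI : IsDomain (MvPowerSeries (Fin n) k) := NoZeroDivisors.to_isDomain _
  haveI : IsIntegrallyClosed (MvPowerSeries (Fin n) k') := Groth.Agent.S9829.result _
  have hv'0 : v' ≠ 0 := by
    rintro rfl
    exact hv0 (map_zero _)
  have hrel : u' ^ p = w' * v' ^ p := by
    apply phi_injective p n k'
    rw [map_pow, map_mul, map_pow, hw', ← h, mul_pow]
    ring
  set Fr := FractionRing (MvPowerSeries (Fin n) k') with hFr
  have hvF : algebraMap (MvPowerSeries (Fin n) k') Fr v' ≠ 0 := by
    rw [Ne, map_eq_zero_iff _ (IsFractionRing.injective _ Fr)]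
    exact hv'0
  set x : Fr := algebraMap _ Fr u' / algebraMap _ Fr v' with hx
  have hxp : x ^ p = algebraMap _ Fr w' := by
    rw [hx, div_pow, ← map_pow, ← map_pow, hrel, map_mul, map_pow, mul_div_assoc,
      div_self (pow_ne_zero _ hvF), mul_one]
  have hint : IsIntegral (MvPowerSeries (Fin n) k') x := by
    refine IsIntegral.of_pow hp.out.pos ?_
    rw [hxp]
    exact isIntegral_algebraMap
  obtain ⟨c', hc'⟩ := IsIntegrallyClosed.isIntegral_iff.mp hint
  have huc : u' = c' * v' := by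
    apply IsFractionRing.injective (MvPowerSeries (Fin n) k') Fr
    rw [map_mul, hc', hx, div_mul_cancel₀ _ hvF]
  refine ⟨c', ?_⟩
  have h2 : phi p n k' v' * phi p n k' c' = phi p n k' v' * b := by
    rw [h, huc, map_mul, mul_comm]
  exact mul_left_cancel₀ hv0 h2

theorem inf_sub {ι : Type*} [Nonempty ι] (F : ι → Subfield k)
    (hinf : ∀ x : k, (∀ α, x ∈ F α) → ∃ y : k, y ^ p = x) (b : MvPowerSeries (Fin n) k)
    (hb : ∀ α, b ∈ sub p n (F α)) : ∃ c : MvPowerSeries (Fin n) k, c ^ p = b := by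
  classical
  have h1 : ∀ e : Fin n →₀ ℕ, ∃ y : k, y ^ p = coeff (p • e) b := fun e =>
    hinf _ fun α => (((mem_sub_iff p n (F α) b).mp (hb α)) _).1
  choose y hy using h1
  let c : MvPowerSeries (Fin n) k := fun e => y e
  refine ⟨c, ?_⟩
  have h2 : c ^ p = (c.expand p hp.out.ne_zero).map (frobenius k p) :=
    (map_frobenius_expand p hp.out.ne_zero).symm
  rw [h2]
  ext d
  rw [coeff_map, frobenius_def]
  by_cases hd : ∀ i, p ∣ d i
  · obtain ⟨e, rfl⟩ := exists_eq_smul p n d hd
    rw [coeff_expand_smul, ← hy e]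
    rfl
  · have h0 : coeff d b = 0 := by
      by_contra hne
      obtain ⟨α⟩ := ‹Nonempty ι›
      exact hd ((((mem_sub_iff p n (F α) b).mp (hb α)) d).2 hne)
    push Not at hd
    obtain ⟨i, hi⟩ := hd
    rw [coeff_expand_of_not_dvd p hp.out.ne_zero _ hi, h0, zero_pow hp.out.ne_zero]

end Groth.Agent.Lib.Helper96.PSFamily
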