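import Mathlib
import Groth.Agent.Lib.Helper96.PSFamily

/-!
# Finite generation of `k[[x]]` over `k'[[x^p]]` (helper96)
-/

set_option autoImplicit false
set_option linter.style.haveILetI false
set_option linter.unusedSectionVars false

universe u

namespace Groth.Agent.Lib.Helper96.PSFamily

open MvPowerSeries

variable {k : Type u} [Field k] (p : ℕ) [hp : Fact p.Prime] [CharP k p] (n : ℕ)

/-- componentwise remainder -/
noncomputable def rem (d : Fin n →₀ ℕ) : Fin n →₀ ℕ := d.mapRange (· % p) (Nat.zero_mod p)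

/-- componentwise quotient -/
noncomputable def quo (d : Fin n →₀ ℕ) : Fin n →₀ ℕ := d.mapRange (· / p) (Nat.zero_div p)

theorem quo_add_rem (d : Fin n →₀ ℕ) : p • quo p n d + rem p n d = d := by
  ext i
  simp [quo, rem, Nat.div_add_mod]

/-- the `I`-th slice of a power series -/
noncomputable def slice (I : Fin n →₀ ℕ) (a : MvPowerSeries (Fin n) k) :
    MvPowerSeries (Fin n) k :=
  fun e => coeff (p • e + I) a

/-- the bound `(p - 1, …, p - 1)` -/
noncomputable def topI : Fin n →₀ ℕ := Finsupp.equivFunOnFinite.symm (fun _ => p - 1)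

theorem decomp (a : MvPowerSeries (Fin n) k) :
    a = ∑ I ∈ Finset.Iic (topI p n),
      monomial I (1 : k) * expand p hp.out.ne_zero (slice p n I a) := by
  classical
  ext d
  rw [map_sum]
  have hd := quo_add_rem p n d
  rw [Finset.sum_eq_single (rem p n d)]
  · have hle : rem p n d ≤ d := by
      intro i
      simp only [rem, Finsupp.mapRange_apply]
      exact Nat.mod_le _ _
    rw [coeff_monomial_mul, if_pos hle, one_mul]
    have h1 : d - rem p n d = p • quo p n d := tsub_eq_of_eq_add hd.symm
    rw [h1, coeff_expand_smul]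
    change _ = coeff (p • quo p n d + rem p n d) a
    rw [hd]
  · intro I hI hne
    rw [coeff_monomial_mul]
    split_ifs with hle
    · rw [one_mul]
      obtain ⟨i, hi⟩ : ∃ i, I i ≠ d i % p := by
        by_contra hcon
        push Not at hcon
        apply hne
        ext i
        simp only [rem, Finsupp.mapRange_apply]
        exact hcon i
      apply coeff_expand_of_not_dvd p hp.out.ne_zero _ (i := i)
      intro hdvd
      apply hi
      have hIi : I i ≤ p - 1 := by
        have := (Finset.mem_Iic.mp hI) i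
        simpa [topI] using this
      have hle_i : I i ≤ d i := hle i
      rw [Finsupp.tsub_apply] at hdvd
      obtain ⟨c, hc⟩ := hdvd
      have h2 : d i = p * c + I i := by omega
      have hppos := hp.out.pos
      rw [h2, Nat.mul_add_mod, Nat.mod_eq_of_lt (by omega)]
    · rfl
  · intro hnot
    exfalso
    apply hnot
    rw [Finset.mem_Iic]
    intro i
    have := Nat.mod_lt (d i) hp.out.pos
    simp only [rem, Finsupp.mapRange_apply, topI, Finsupp.equivFunOnFinite_symm_apply_apply]
    omega

theorem monomial_mem (W : Subring (MvPowerSeries (Fin n) k)) (hX : ∀ i, X i ∈ W)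
    (I : Fin n →₀ ℕ) : monomial I (1 : k) ∈ W := by
  induction I using Finsupp.induction_linear with
  | zero =>
    have : monomial (0 : Fin n →₀ ℕ) (1 : k) = 1 := rfl
    rw [this]
    exact one_mem _
  | add f g hf hg =>
    have := monomial_mul_monomial f g (1 : k) 1
    rw [one_mul] at this
    rw [← this]
    exact mul_mem hf hg
  | single i m =>
    rw [← X_pow_eq]
    exact pow_mem (hX i) m

theorem expand_mem (k' : Subfield k) (s : Finset k)
    (hs : Submodule.span k' (s : Set k) = ⊤)
    (W : Subring (MvPowerSeries (Fin n) k)) (hW : sub p n k' ≤ W) (hC : ∀ e ∈ s, C e ∈ W)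
    (b : MvPowerSeries (Fin n) k) : expand p hp.out.ne_zero b ∈ W := by
  classical
  have h1 : ∀ d : Fin n →₀ ℕ, ∃ f : k → k', ∑ e ∈ s, f e • e = coeff d b := by
    intro d
    have : coeff d b ∈ Submodule.span k' (s : Set k) := by rw [hs]; trivial
    obtain ⟨f, -, hf⟩ := Submodule.mem_span_finset.mp this
    exact ⟨f, hf⟩
  choose f hf using h1
  let g : k → MvPowerSeries (Fin n) k := fun e d => ((f d e : k') : k)
  have hg : ∀ e d, coeff d (g e) = ((f d e : k') : k) := fun e d => rfl
  have h2 : b = ∑ e ∈ s, (C e : MvPowerSeries (Fin n) k) * g e := by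
    ext d
    rw [map_sum, ← hf d]
    refine Finset.sum_congr rfl fun e _ => ?_
    rw [coeff_C_mul, mul_comm, hg]
    rfl
  rw [h2, map_sum]
  refine sum_mem fun e he => ?_
  rw [map_mul, expand_C]
  refine mul_mem (hC e he) (hW ?_)
  rw [mem_sub_iff]
  intro d
  by_cases hd : ∀ i, p ∣ d i
  · obtain ⟨e', rfl⟩ := exists_eq_smul p n d hd
    rw [coeff_expand_smul, hg]
    exact ⟨(f e' e).2, fun _ => hd⟩
  · push Not at hd
    obtain ⟨i, hi⟩ := hd
    rw [coeff_expand_of_not_dvd p hp.out.ne_zero _ hi]
    exact ⟨zero_mem _, fun h => absurd rfl h⟩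

theorem fg_sub (k' : Subfield k) [Module.Finite k' k] :
    ∃ t : Finset (MvPowerSeries (Fin n) k),
      Subring.closure ((sub p n k' : Set (MvPowerSeries (Fin n) k)) ∪ t) = ⊤ := by
  classical
  obtain ⟨s, hs⟩ := (Module.Finite.fg_top : (⊤ : Submodule k' k).FG)
  refine ⟨Finset.univ.image (X : Fin n → MvPowerSeries (Fin n) k) ∪ s.image C, ?_⟩
  rw [eq_top_iff]
  rintro a -
  set W := Subring.closure ((sub p n k' : Set (MvPowerSeries (Fin n) k)) ∪
    ((Finset.univ.image (X : Fin n → MvPowerSeries (Fin n) k) ∪ s.image C : Finset _) : Set _))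
    with hWdef
  have hW : sub p n k' ≤ W := fun x hx => Subring.subset_closure (Or.inl hx)
  have hX : ∀ i, X i ∈ W := fun i => Subring.subset_closure (Or.inr (by
    rw [Finset.mem_coe, Finset.mem_union]
    exact Or.inl (Finset.mem_image_of_mem _ (Finset.mem_univ i))))
  have hC : ∀ e ∈ s, C e ∈ W := fun e he => Subring.subset_closure (Or.inr (by
    rw [Finset.mem_coe, Finset.mem_union]
    exact Or.inr (Finset.mem_image_of_mem _ he)))
  rw [decomp p n a]
  exact sum_mem fun I _ => mul_mem (monomial_mem n W hX I) (expand_mem p n k' s hs W hW hC _)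

/-- **The good family** `k_α[[x^p]]`. -/
theorem isGood_sub {ι : Type*} [Nonempty ι] (F : ι → Subfield k)
    (hdir : ∀ α β, ∃ γ, F γ ≤ F α ⊓ F β) (hpow : ∀ α (x : k), x ^ p ∈ F α)
    (hfin : ∀ α, Module.Finite (F α) k)
    (hinf : ∀ x : k, (∀ α, x ∈ F α) → ∃ y : k, y ^ p = x) :
    GoodFamily.IsGood p (fun α => sub p n (F α)) where
  directed α β := by
    obtain ⟨γ, hγ⟩ := hdir α β
    exact ⟨γ, le_inf (sub_mono p n (hγ.trans inf_le_left)) (sub_mono p n (hγ.trans inf_le_right))⟩
  pow_mem α a := pow_mem_sub p n (F α) (hpow α) a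
  fg α := by
    haveI := hfin α
    exact fg_sub p n (F α)
  sat α u v b hu hv hv0 h := sat_sub p n (F α) (hpow α) u v b hu hv hv0 h
  inf b hb := inf_sub p n F hinf b hb

end Groth.Agent.Lib.Helper96.PSFamily
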