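import Mathlib
import Groth.Agent.Lib.Helper96.FiniteCompletion3

/-!
# Finite free models and formal fibres (helper96)

If all formal fibres of the local rings of finite free `R`-algebras are regular, then the formal
fibres of the local rings of `R` are geometrically regular.
-/

set_option autoImplicit false
set_option linter.style.haveILetI false

universe u

namespace Groth.Agent.Lib.Helper96

open IsLocalRing TensorProduct

/-- Finitely many integral elements lie in the image of a finite free algebra. -/
theorem exists_finite_free_algHom (R L : Type u) [CommRing R] [CommRing L] [Algebra R L]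
    (b : Finset L) (hb : ∀ ℓ ∈ b, IsIntegral R ℓ) :
    ∃ (S : Type u) (_ : CommRing S) (_ : Algebra R S) (_ : Module.Finite R S)
      (_ : Module.Free R S) (φ : S →ₐ[R] L), ∀ ℓ ∈ b, ℓ ∈ φ.range := by
  classical
  induction b using Finset.induction_on with
  | empty =>
    exact ⟨R, inferInstance, inferInstance, inferInstance, inferInstance, Algebra.ofId R L, by simp⟩
  | insert ℓ b hℓ ih =>
    obtain ⟨S, _, _, _, _, φ, hφ⟩ := ih (fun x hx => hb x (Finset.mem_insert_of_mem hx))
    obtain ⟨f, hfm, hf0⟩ := hb ℓ (Finset.mem_insert_self _ _)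
    haveI : Module.Finite R (AdjoinRoot f) := hfm.finite_adjoinRoot
    haveI : Module.Free R (AdjoinRoot f) := hfm.free_adjoinRoot
    let ψ : AdjoinRoot f →ₐ[R] L := AdjoinRoot.liftAlgHom f (Algebra.ofId R L) ℓ hf0
    refine ⟨S ⊗[R] AdjoinRoot f, inferInstance, inferInstance, inferInstance, inferInstance,
      Algebra.TensorProduct.lift φ ψ (fun _ _ => Commute.all _ _), ?_⟩
    intro x hx
    rcases Finset.mem_insert.mp hx with rfl | hx
    · exact ⟨1 ⊗ₜ AdjoinRoot.root f, by simp [ψ]⟩
    · obtain ⟨s, rfl⟩ := hφ x hx
      exact ⟨s ⊗ₜ 1, by simp⟩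

/-- The zero ring is regular. -/
theorem isRegularRing_of_subsingleton (X : Type*) [CommRing X] [Subsingleton X] :
    IsRegularRing X := by
  haveI : IsNoetherianRing X := inferInstance
  rw [isRegularRing_iff]
  intro P hP
  exact absurd (Subsingleton.elim P ⊤) hP.ne_top

section Main

attribute [local instance] Algebra.TensorProduct.rightAlgebra

variable (R : Type u) [CommRing R] [IsNoetherianRing R]

set_option maxHeartbeats 1600000 in
/-- If all formal fibres of local rings of finite free `R`-algebras are regular, then the formal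
fibres of the local rings of `R` are geometrically regular. -/
theorem isGeometricallyRegular_formalFibre_of_finite_free
    (H : ∀ (S : Type u) [CommRing S] [Algebra R S] [Module.Finite R S] [Module.Free R S]
      (q : Ideal S) [q.IsPrime] (P : Ideal (Localization.AtPrime q)) [P.IsPrime],
      IsRegularRing (P.Fiber (AdicCompletion (maximalIdeal (Localization.AtPrime q))
        (Localization.AtPrime q))))
    (p : Ideal R) [p.IsPrime] (Q : Ideal (Localization.AtPrime p)) [Q.IsPrime] :
    CAlg.IsGeometricallyRegular Q.ResidueField
      (Q.Fiber (AdicCompletion (maximalIdeal (Localization.AtPrime p)) (Localization.AtPrime p))) := by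
  classical
  intro L _ _ hfin
  haveI := hfin
  -- algebra structures on `L`
  letI algAQL : Algebra (Localization.AtPrime Q) L :=
    ((algebraMap Q.ResidueField L).comp
      (algebraMap (Localization.AtPrime Q) Q.ResidueField)).toAlgebra
  haveI : IsScalarTower (Localization.AtPrime Q) Q.ResidueField L := .of_algebraMap_eq' rfl
  letI algAL : Algebra (Localization.AtPrime p) L :=
    ((algebraMap (Localization.AtPrime Q) L).comp
      (algebraMap (Localization.AtPrime p) (Localization.AtPrime Q))).toAlgebra
  haveI : IsScalarTower (Localization.AtPrime p) (Localization.AtPrime Q) L :=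
    .of_algebraMap_eq' rfl
  haveI : IsScalarTower (Localization.AtPrime p) Q.ResidueField L := by
    refine .of_algebraMap_eq (fun a => ?_)
    rw [IsScalarTower.algebraMap_apply (Localization.AtPrime p) (Localization.AtPrime Q) L,
      IsScalarTower.algebraMap_apply (Localization.AtPrime Q) Q.ResidueField L,
      ← IsScalarTower.algebraMap_apply (Localization.AtPrime p) (Localization.AtPrime Q)
        Q.ResidueField]
  letI algRL : Algebra R L :=
    ((algebraMap (Localization.AtPrime p) L).comp (algebraMap R (Localization.AtPrime p))).toAlgebra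
  haveI : IsScalarTower R (Localization.AtPrime p) L := .of_algebraMap_eq' rfl
  haveI : IsScalarTower R (Localization.AtPrime Q) L := by
    refine .of_algebraMap_eq (fun r => ?_)
    rw [IsScalarTower.algebraMap_apply R (Localization.AtPrime p) L,
      IsScalarTower.algebraMap_apply (Localization.AtPrime p) (Localization.AtPrime Q) L,
      ← IsScalarTower.algebraMap_apply R (Localization.AtPrime p) (Localization.AtPrime Q)]
  set P₀ : Ideal R := Q.comap (algebraMap R (Localization.AtPrime p)) with hP₀
  haveI hlocQ : IsLocalization.AtPrime (Localization.AtPrime Q) P₀ :=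
    IsLocalization.isLocalization_isLocalization_atPrime_isLocalization p.primeCompl
      (Localization.AtPrime Q) Q
  have hkerQ : RingHom.ker (algebraMap (Localization.AtPrime Q) L) =
      maximalIdeal (Localization.AtPrime Q) := by
    rw [IsScalarTower.algebraMap_eq (Localization.AtPrime Q) Q.ResidueField L, ← RingHom.comap_ker,
      (RingHom.injective_iff_ker_eq_bot _).mp (algebraMap Q.ResidueField L).injective,
      ← RingHom.ker_eq_comap_bot]
    exact IsLocalRing.ker_residue
  have hkerR : ∀ r : R, algebraMap R L r = 0 ↔ r ∈ P₀ := by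
    intro r
    rw [IsScalarTower.algebraMap_apply R (Localization.AtPrime Q) L, ← RingHom.mem_ker, hkerQ]
    exact IsLocalization.AtPrime.to_map_mem_maximal_iff (Localization.AtPrime Q) P₀ r
  -- integral multiples
  have hint : ∀ ℓ : L, ∃ m : R, algebraMap R L m ≠ 0 ∧ IsIntegral R (m • ℓ) := by
    intro ℓ
    have h1 : IsIntegral Q.ResidueField ℓ := Algebra.IsIntegral.isIntegral ℓ
    haveI : Algebra.IsIntegral (Localization.AtPrime Q) Q.ResidueField :=
      Algebra.isIntegral_of_surjective IsLocalRing.residue_surjective
    have h2 : IsIntegral (Localization.AtPrime Q) ℓ := isIntegral_trans ℓ h1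
    obtain ⟨m, hm⟩ := IsIntegral.exists_multiple_integral_of_isLocalization P₀.primeCompl ℓ h2
    exact ⟨m, fun h0 => m.2 ((hkerR _).mp h0), hm⟩
  choose m hm0 hmint using hint
  obtain ⟨b₀, hb₀⟩ := (Module.Finite.fg_top : (⊤ : Submodule Q.ResidueField L).FG)
  obtain ⟨S, _, _, _, _, φ, hφ⟩ := exists_finite_free_algHom R L (b₀.image (fun ℓ => m ℓ • ℓ)) (by
    intro x hx
    obtain ⟨ℓ, _, rfl⟩ := Finset.mem_image.mp hx
    exact hmint ℓ)
  letI algSL : Algebra S L := φ.toRingHom.toAlgebra
  haveI : IsScalarTower R S L := .of_algebraMap_eq (fun r => (φ.commutes r).symm)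
  have hφS : ∀ s : S, algebraMap S L s = φ s := fun s => rfl
  -- reduction to `L ⊗_S T`
  haveI hNfib : IsNoetherianRing (Q.Fiber (AdicCompletion (maximalIdeal (Localization.AtPrime p))
      (Localization.AtPrime p))) := isNoetherianRing_fiber (Localization.AtPrime p) _ Q
  let e0 := Algebra.TensorProduct.cancelBaseChange (Localization.AtPrime p) Q.ResidueField L L
    (AdicCompletion (maximalIdeal (Localization.AtPrime p)) (Localization.AtPrime p))
  haveI : IsNoetherianRing (Q.Fiber (AdicCompletion (maximalIdeal (Localization.AtPrime p))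
      (Localization.AtPrime p)) ⊗[Q.ResidueField] L) :=
    Algebra.FiniteType.isNoetherianRing (Q.Fiber (AdicCompletion
      (maximalIdeal (Localization.AtPrime p)) (Localization.AtPrime p)))
      (Q.Fiber (AdicCompletion (maximalIdeal (Localization.AtPrime p))
      (Localization.AtPrime p)) ⊗[Q.ResidueField] L)
  haveI : IsNoetherianRing (L ⊗[Q.ResidueField] Q.Fiber (AdicCompletion
      (maximalIdeal (Localization.AtPrime p)) (Localization.AtPrime p))) :=
    isNoetherianRing_of_ringEquiv _ (Algebra.TensorProduct.comm _ _ _).toRingEquiv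
  haveI : IsNoetherianRing (L ⊗[Localization.AtPrime p] AdicCompletion
      (maximalIdeal (Localization.AtPrime p)) (Localization.AtPrime p)) :=
    isNoetherianRing_of_ringEquiv _ e0.toRingEquiv
  obtain ⟨e2⟩ := nonempty_ringEquiv_tensor_T R S p L
  haveI : IsNoetherianRing (L ⊗[S] (AdicCompletion (maximalIdeal (Localization.AtPrime p))
      (Localization.AtPrime p) ⊗[R] S)) :=
    isNoetherianRing_of_ringEquiv (L ⊗[Localization.AtPrime p] AdicCompletion
      (maximalIdeal (Localization.AtPrime p)) (Localization.AtPrime p)) e2.symm
  suffices hT : IsRegularRing (L ⊗[S] (AdicCompletion (maximalIdeal (Localization.AtPrime p))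
      (Localization.AtPrime p) ⊗[R] S)) by
    haveI : IsRegularRing (L ⊗[Localization.AtPrime p] AdicCompletion
        (maximalIdeal (Localization.AtPrime p)) (Localization.AtPrime p)) :=
      IsRegularRing.of_ringEquiv (R := L ⊗[S] (AdicCompletion (maximalIdeal (Localization.AtPrime p))
        (Localization.AtPrime p) ⊗[R] S)) e2
    exact IsRegularRing.of_ringEquiv e0.symm.toRingEquiv
  apply isRegularRing_tensor_of_forall_isMaximal S L
  intro N hN
  set q : Ideal S := N.comap (algebraMap S (AdicCompletion (maximalIdeal (Localization.AtPrime p))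
      (Localization.AtPrime p) ⊗[R] S)) with hq
  by_cases hq0 : RingHom.ker (algebraMap S L) ≤ q
  · -- `L` is an algebra over `D = S_q`
    have hunitsS : ∀ y : q.primeCompl, IsUnit (algebraMap S L y) := by
      intro y
      rw [isUnit_iff_ne_zero]
      intro h0
      exact y.2 (hq0 (RingHom.mem_ker.mpr h0))
    letI algDL : Algebra (Localization.AtPrime q) L :=
      (IsLocalization.lift (M := q.primeCompl) (g := algebraMap S L) hunitsS).toAlgebra
    haveI : IsScalarTower S (Localization.AtPrime q) L :=
      .of_algebraMap_eq (fun r => (IsLocalization.lift_eq _ r).symm)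
    obtain ⟨e1⟩ := nonempty_ringEquiv_tensor_locN R S p N (Localization.AtPrime q) L
    suffices hD : IsRegularRing (L ⊗[Localization.AtPrime q]
        AdicCompletion (maximalIdeal (Localization.AtPrime q)) (Localization.AtPrime q)) from
      IsRegularRing.of_ringEquiv (R := L ⊗[Localization.AtPrime q]
        AdicCompletion (maximalIdeal (Localization.AtPrime q)) (Localization.AtPrime q)) e1
    set 𝔓 : Ideal (Localization.AtPrime q) := RingHom.ker (algebraMap (Localization.AtPrime q) L)
      with h𝔓
    haveI : 𝔓.IsPrime := RingHom.ker_isPrime _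
    have hunitsD : 𝔓.primeCompl ≤
        (IsUnit.submonoid L).comap (algebraMap (Localization.AtPrime q) L) := by
      intro x hx
      rw [Submonoid.mem_comap, IsUnit.mem_submonoid_iff, isUnit_iff_ne_zero]
      intro h0
      exact hx (RingHom.mem_ker.mpr h0)
    letI algκL : Algebra 𝔓.ResidueField L :=
      (Ideal.ResidueField.lift 𝔓 (algebraMap (Localization.AtPrime q) L) le_rfl hunitsD).toAlgebra
    haveI : IsScalarTower (Localization.AtPrime q) 𝔓.ResidueField L :=
      .of_algebraMap_eq fun x => (Ideal.ResidueField.lift_algebraMap _ _ le_rfl hunitsD x).symm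
    -- surjectivity of `κ(𝔓) → L`
    set F' : Subfield L := (algebraMap 𝔓.ResidueField L).fieldRange with hF'
    have hS : ∀ s : S, algebraMap S L s ∈ F' := by
      intro s
      rw [IsScalarTower.algebraMap_apply S (Localization.AtPrime q) L,
        IsScalarTower.algebraMap_apply (Localization.AtPrime q) 𝔓.ResidueField L]
      exact ⟨_, rfl⟩
    have hR : ∀ r : R, algebraMap R L r ∈ F' := by
      intro r
      rw [IsScalarTower.algebraMap_apply R S L]
      exact hS _
    have hAQ : ∀ x : Localization.AtPrime Q, algebraMap (Localization.AtPrime Q) L x ∈ F' := by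
      intro x
      obtain ⟨r, u, rfl⟩ := IsLocalization.exists_mk'_eq P₀.primeCompl x
      have hu : algebraMap R L u ≠ 0 := fun h0 => u.2 ((hkerR _).mp h0)
      have h1 : algebraMap (Localization.AtPrime Q) L (IsLocalization.mk' _ r u) =
          algebraMap R L r / algebraMap R L u := by
        rw [eq_div_iff hu, IsScalarTower.algebraMap_apply R (Localization.AtPrime Q) L,
          IsScalarTower.algebraMap_apply R (Localization.AtPrime Q) L, ← map_mul,
          IsLocalization.mk'_spec]
      rw [h1]
      exact F'.div_mem (hR r) (hR u)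
    have hκ : ∀ c : Q.ResidueField, algebraMap Q.ResidueField L c ∈ F' := by
      intro c
      obtain ⟨x, rfl⟩ := IsLocalRing.residue_surjective c
      exact hAQ x
    have hb : ∀ ℓ ∈ b₀, ℓ ∈ F' := by
      intro ℓ hℓ
      obtain ⟨s, hs⟩ := hφ (m ℓ • ℓ) (Finset.mem_image_of_mem _ hℓ)
      have hs' : φ s = m ℓ • ℓ := hs
      have h1 : ℓ = φ s / algebraMap R L (m ℓ) := by
        rw [eq_div_iff (hm0 ℓ), hs', Algebra.smul_def, mul_comm]
      rw [h1]
      exact F'.div_mem (hS s) (hR _)
    have hall : ∀ ℓ : L, ℓ ∈ F' := by
      intro ℓ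
      have hmem : ℓ ∈ Submodule.span Q.ResidueField (b₀ : Set L) := by rw [hb₀]; trivial
      induction hmem using Submodule.span_induction with
      | mem x hx => exact hb x hx
      | zero => exact F'.zero_mem
      | add x y _ _ hx hy => exact F'.add_mem hx hy
      | smul c x _ hx =>
        rw [Algebra.smul_def]
        exact F'.mul_mem (hκ c) hx
    have hbij : Function.Bijective (IsScalarTower.toAlgHom (Localization.AtPrime q)
        𝔓.ResidueField L) := by
      refine ⟨(algebraMap 𝔓.ResidueField L).injective, fun ℓ => ?_⟩
      obtain ⟨c, hc⟩ := hall ℓ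
      exact ⟨c, hc⟩
    let e : 𝔓.ResidueField ≃ₐ[Localization.AtPrime q] L := AlgEquiv.ofBijective _ hbij
    haveI := H S q 𝔓
    exact IsRegularRing.of_ringEquiv
      (Algebra.TensorProduct.congr e (AlgEquiv.refl : AdicCompletion (maximalIdeal
        (Localization.AtPrime q)) (Localization.AtPrime q) ≃ₐ[Localization.AtPrime q] _)).toRingEquiv
  · -- the tensor product vanishes
    obtain ⟨s, hs0, hsq⟩ := SetLike.not_le_iff_exists.mp hq0
    have hs0' : algebraMap S L s = 0 := RingHom.mem_ker.mp hs0
    have hunit : IsUnit (algebraMap S (Localization.AtPrime N) s) := by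
      rw [IsScalarTower.algebraMap_apply S (AdicCompletion (maximalIdeal (Localization.AtPrime p))
        (Localization.AtPrime p) ⊗[R] S) (Localization.AtPrime N)]
      exact IsLocalization.map_units (Localization.AtPrime N)
        (⟨algebraMap S _ s, hsq⟩ : N.primeCompl)
    obtain ⟨v, hv⟩ := hunit.exists_right_inv
    haveI : Subsingleton (L ⊗[S] Localization.AtPrime N) := by
      apply subsingleton_of_zero_eq_one
      have h1 : (1 : L ⊗[S] Localization.AtPrime N) = (1 : L) ⊗ₜ[S] (s • v) := by
        rw [Algebra.smul_def, hv]; rfl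
      rw [h1, ← smul_tmul, Algebra.smul_def, hs0', zero_mul, zero_tmul]
    exact isRegularRing_of_subsingleton _

end Main

end Groth.Agent.Lib.Helper96
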