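import Mathlib
import Groth.Agent.Lib.Helper96.FiniteFreeModel

/-!
# Formal fibres via the generic formal fibres of the quotient domains (helper96)
-/

set_option autoImplicit false
set_option linter.style.haveILetI false

universe u

namespace Groth.Agent.Lib.Helper96

open IsLocalRing TensorProduct

section Main

attribute [local instance] Algebra.TensorProduct.rightAlgebra

variable (R : Type u) [CommRing R] [IsNoetherianRing R]

set_option maxHeartbeats 1600000 in
/-- If `S` is a domain which is a quotient of `R` by the contraction of the prime `Q` of `R_p`, and the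
generic formal fibres of all the local domains `S_P` are geometrically regular, then the formal
fibre of `R_p` at `Q` is geometrically regular. -/
theorem isGeometricallyRegular_formalFibre_of_quotient_aux
    (p : Ideal R) [p.IsPrime] (Q : Ideal (Localization.AtPrime p)) [Q.IsPrime]
    (S : Type u) [CommRing S] [IsDomain S] [Algebra R S]
    (hsurj : Function.Surjective (algebraMap R S))
    (hker : RingHom.ker (algebraMap R S) = Q.comap (algebraMap R (Localization.AtPrime p)))
    (H : ∀ (P : Ideal S) [P.IsPrime],
      CAlg.IsGeometricallyRegular (⊥ : Ideal (Localization.AtPrime P)).ResidueField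
        ((⊥ : Ideal (Localization.AtPrime P)).Fiber
          (AdicCompletion (maximalIdeal (Localization.AtPrime P)) (Localization.AtPrime P)))) :
    CAlg.IsGeometricallyRegular Q.ResidueField
      (Q.Fiber (AdicCompletion (maximalIdeal (Localization.AtPrime p)) (Localization.AtPrime p))) := by
  classical
  intro L _ _ hfin
  haveI := hfin
  -- algebra structures on `L`
  letI algAL : Algebra (Localization.AtPrime p) L :=
    ((algebraMap Q.ResidueField L).comp
      (algebraMap (Localization.AtPrime p) Q.ResidueField)).toAlgebra
  haveI : IsScalarTower (Localization.AtPrime p) Q.ResidueField L := .of_algebraMap_eq' rfl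
  letI algRL : Algebra R L :=
    ((algebraMap (Localization.AtPrime p) L).comp (algebraMap R (Localization.AtPrime p))).toAlgebra
  haveI : IsScalarTower R (Localization.AtPrime p) L := .of_algebraMap_eq' rfl
  have hkerA : RingHom.ker (algebraMap (Localization.AtPrime p) L) = Q := by
    rw [IsScalarTower.algebraMap_eq (Localization.AtPrime p) Q.ResidueField L, ← RingHom.comap_ker,
      (RingHom.injective_iff_ker_eq_bot _).mp (algebraMap Q.ResidueField L).injective,
      ← RingHom.ker_eq_comap_bot, Ideal.ker_algebraMap_residueField]
  have hkerR : RingHom.ker (algebraMap R L) = RingHom.ker (algebraMap R S) := by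
    rw [IsScalarTower.algebraMap_eq R (Localization.AtPrime p) L, ← RingHom.comap_ker, hkerA, hker]
  letI algSL : Algebra S L :=
    (RingHom.liftOfSurjective (algebraMap R S) hsurj ⟨algebraMap R L, hkerR.ge⟩).toAlgebra
  haveI : IsScalarTower R S L := by
    refine .of_algebraMap_eq (fun r => ?_)
    exact (RingHom.liftOfRightInverse_comp_apply (algebraMap R S) _
      (Function.rightInverse_surjInv hsurj) ⟨algebraMap R L, hkerR.ge⟩ r).symm
  have hinjS : Function.Injective (algebraMap S L) := by
    rw [injective_iff_map_eq_zero]
    intro s hs
    obtain ⟨r, rfl⟩ := hsurj s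
    rw [← IsScalarTower.algebraMap_apply R S L, ← RingHom.mem_ker, hkerR, RingHom.mem_ker] at hs
    exact hs
  -- reduction to `L ⊗_S T`
  haveI hNfib : IsNoetherianRing (Q.Fiber (AdicCompletion (maximalIdeal (Localization.AtPrime p))
      (Localization.AtPrime p))) := isNoetherianRing_fiber (Localization.AtPrime p) _ Q
  let e0 := Algebra.TensorProduct.cancelBaseChange (Localization.AtPrime p) Q.ResidueField L L
    (AdicCompletion (maximalIdeal (Localization.AtPrime p)) (Localization.AtPrime p))
  haveI : IsNoetherianRing (Q.Fiber (AdicCompletion (maximalIdeal (Localization.AtPrime p))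
      (Localization.AtPrime p)) ⊗[Q.ResidueField] L) :=
    Algebra.FiniteType.isNoetherianRing (Q.Fiber (AdicCompletion
      (maximalIdeal (Localization.AtPrime p)) (Localization.AtPrime p)))
      (Q.Fiber (AdicCompletion (maximalIdeal (Localization.AtPrime p))
      (Localization.AtPrime p)) ⊗[Q.ResidueField] L)
  haveI : IsNoetherianRing (L ⊗[Q.ResidueField] Q.Fiber (AdicCompletion
      (maximalIdeal (Localization.AtPrime p)) (Localization.AtPrime p))) :=
    isNoetherianRing_of_ringEquiv _ (Algebra.TensorProduct.comm _ _ _).toRingEquiv
  haveI : IsNoetherianRing (L ⊗[Localization.AtPrime p] AdicCompletion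
      (maximalIdeal (Localization.AtPrime p)) (Localization.AtPrime p)) :=
    isNoetherianRing_of_ringEquiv _ e0.toRingEquiv
  haveI : Module.Finite R S := Module.Finite.of_surjective
    (Algebra.linearMap R S) hsurj
  obtain ⟨e2⟩ := nonempty_ringEquiv_tensor_T R S p L
  haveI : IsNoetherianRing (L ⊗[S] (AdicCompletion (maximalIdeal (Localization.AtPrime p))
      (Localization.AtPrime p) ⊗[R] S)) :=
    isNoetherianRing_of_ringEquiv (L ⊗[Localization.AtPrime p] AdicCompletion
      (maximalIdeal (Localization.AtPrime p)) (Localization.AtPrime p)) e2.symm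
  suffices hT : IsRegularRing (L ⊗[S] (AdicCompletion (maximalIdeal (Localization.AtPrime p))
      (Localization.AtPrime p) ⊗[R] S)) by
    haveI : IsRegularRing (L ⊗[Localization.AtPrime p] AdicCompletion
        (maximalIdeal (Localization.AtPrime p)) (Localization.AtPrime p)) :=
      IsRegularRing.of_ringEquiv (R := L ⊗[S] (AdicCompletion
        (maximalIdeal (Localization.AtPrime p)) (Localization.AtPrime p) ⊗[R] S)) e2
    exact IsRegularRing.of_ringEquiv e0.symm.toRingEquiv
  apply isRegularRing_tensor_of_forall_isMaximal S L
  intro N hN
  set q' : Ideal S := N.comap (algebraMap S (AdicCompletion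
      (maximalIdeal (Localization.AtPrime p)) (Localization.AtPrime p) ⊗[R] S)) with hq'
  have hunitsS : ∀ y : q'.primeCompl, IsUnit (algebraMap S L y) := by
    intro y
    rw [isUnit_iff_ne_zero]
    intro h0
    have : (y : S) = 0 := hinjS (by rw [h0, map_zero])
    exact y.2 (this ▸ q'.zero_mem)
  letI algDL : Algebra (Localization.AtPrime q') L :=
    (IsLocalization.lift (M := q'.primeCompl) (g := algebraMap S L) hunitsS).toAlgebra
  haveI : IsScalarTower S (Localization.AtPrime q') L :=
    .of_algebraMap_eq (fun r => (IsLocalization.lift_eq _ r).symm)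
  obtain ⟨e1⟩ := nonempty_ringEquiv_tensor_locN R S p N (Localization.AtPrime q') L
  suffices hD : IsRegularRing (L ⊗[Localization.AtPrime q']
      AdicCompletion (maximalIdeal (Localization.AtPrime q')) (Localization.AtPrime q')) from
    IsRegularRing.of_ringEquiv (R := L ⊗[Localization.AtPrime q']
      AdicCompletion (maximalIdeal (Localization.AtPrime q')) (Localization.AtPrime q')) e1
  have hkerD : RingHom.ker (algebraMap (Localization.AtPrime q') L) = ⊥ := by
    have h1 := IsLocalization.map_comap q'.primeCompl (Localization.AtPrime q')
      (RingHom.ker (algebraMap (Localization.AtPrime q') L))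
    have h3 : (RingHom.ker (algebraMap (Localization.AtPrime q') L)).comap
        (algebraMap S (Localization.AtPrime q')) = ⊥ := by
      rw [RingHom.comap_ker, ← IsScalarTower.algebraMap_eq]
      exact (RingHom.injective_iff_ker_eq_bot _).mp hinjS
    rw [← h1, show Ideal.under S (RingHom.ker (algebraMap (Localization.AtPrime q') L)) = ⊥ from h3,
      Ideal.map_bot]
  have hunitsD : (⊥ : Ideal (Localization.AtPrime q')).primeCompl ≤
      (IsUnit.submonoid L).comap (algebraMap (Localization.AtPrime q') L) := by
    intro x hx
    rw [Submonoid.mem_comap, IsUnit.mem_submonoid_iff, isUnit_iff_ne_zero]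
    intro h0
    apply hx
    rw [← hkerD]
    exact RingHom.mem_ker.mpr h0
  letI algκL : Algebra (⊥ : Ideal (Localization.AtPrime q')).ResidueField L :=
    (Ideal.ResidueField.lift ⊥ (algebraMap (Localization.AtPrime q') L) bot_le hunitsD).toAlgebra
  haveI : IsScalarTower (Localization.AtPrime q')
      (⊥ : Ideal (Localization.AtPrime q')).ResidueField L :=
    .of_algebraMap_eq fun x => (Ideal.ResidueField.lift_algebraMap _ _ bot_le hunitsD x).symm
  have hfin' : Module.Finite (⊥ : Ideal (Localization.AtPrime q')).ResidueField L := by
    haveI : Algebra.QuasiFinite (Localization.AtPrime p) L :=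
      Algebra.QuasiFinite.trans (Localization.AtPrime p) Q.ResidueField L
    haveI : Algebra.QuasiFinite R L := Algebra.QuasiFinite.trans R (Localization.AtPrime p) L
    haveI : Algebra.QuasiFinite S L := Algebra.QuasiFinite.of_restrictScalars R _ L
    haveI : Algebra.QuasiFinite (Localization.AtPrime q') L :=
      Algebra.QuasiFinite.of_restrictScalars S _ L
    haveI : Algebra.QuasiFinite (⊥ : Ideal (Localization.AtPrime q')).ResidueField L :=
      Algebra.QuasiFinite.of_restrictScalars (Localization.AtPrime q') _ L
    exact Module.Finite.of_quasiFinite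
  haveI := H q' L hfin'
  exact IsRegularRing.of_ringEquiv
    (Algebra.TensorProduct.cancelBaseChange (Localization.AtPrime q')
      (⊥ : Ideal (Localization.AtPrime q')).ResidueField L L
      (AdicCompletion (maximalIdeal (Localization.AtPrime q'))
        (Localization.AtPrime q'))).toRingEquiv

end Main

end Groth.Agent.Lib.Helper96
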