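import Mathlib
import Groth.Agent.S9257
import Groth.Agent.Lib.Helper96.GenericFibre
import Groth.Agent.Lib.Helper96.PSFamily2
import Groth.Agent.Lib.Helper96.PFieldFamily
import Groth.Agent.Lib.Helper96.FiniteCompletion3
import Groth.Agent.Lib.Helper96.PSRegularDVR
import Groth.Agent.Lib.Helper88.CohenStruct2
import Groth.Agent.Lib.Helper64.CRingQuot
import Groth.Agent.Lib.Helper76.PSCohen

/-!
# Complete Noetherian local rings are G-rings (helper96; Stacks 07PS)
-/

set_option autoImplicit false
set_option linter.style.haveILetI false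
set_option linter.unusedSectionVars false

universe u

namespace Groth.Agent.Lib.Helper96.GRingComplete

open IsLocalRing Groth.Agent.Lib.Helper96

/-- Generic formal fibres of `k[[x_1, …, x_n]]_P`, `k` a field of characteristic `p`. -/
theorem isGeometricallyRegular_formalFibre_mvPowerSeries_charP (k : Type u) [Field k] (p : ℕ)
    [Fact p.Prime] [CharP k p] (n : ℕ) [IsDomain (MvPowerSeries (Fin n) k)]
    (P : Ideal (MvPowerSeries (Fin n) k)) [P.IsPrime] :
    CAlg.IsGeometricallyRegular (⊥ : Ideal (Localization.AtPrime P)).ResidueField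
      (EGA4.formalFibre (Localization.AtPrime P) (⊥ : Ideal (Localization.AtPrime P))) := by
  classical
  obtain ⟨ι, hne, F, hdir, hpow, hfin, hinf⟩ := PFieldFamily.exists_family k p
  haveI := hne
  have hgood := PSFamily.isGood_sub p n F hdir hpow hfin hinf
  haveI : CharP (MvPowerSeries (Fin n) k) p :=
    charP_of_injective_algebraMap (algebraMap k (MvPowerSeries (Fin n) k)).injective p
  haveI : IsRegularRing (MvPowerSeries (Fin n) k) :=
    Groth.Agent.Lib.Helper33.isRegularRing_of_isRegularLocalRing _
  exact GenericFibre.isGeometricallyRegular_formalFibre_bot_of_isGood p _ hgood P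
    (IsRegularRing.isRegularLocalRing_localization P)

/-- Generic formal fibres of `Λ[[x_1, …, x_n]]_P` in characteristic zero, given regularity. -/
theorem isGeometricallyRegular_formalFibre_mvPowerSeries_charZero (Λ : Type u) [CommRing Λ]
    [IsDomain Λ] [IsNoetherianRing Λ] [CharZero Λ] (n : ℕ) [IsDomain (MvPowerSeries (Fin n) Λ)]
    (hreg : IsRegularLocalRing (MvPowerSeries (Fin n) Λ))
    (P : Ideal (MvPowerSeries (Fin n) Λ)) [P.IsPrime] :
    CAlg.IsGeometricallyRegular (⊥ : Ideal (Localization.AtPrime P)).ResidueField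
      (EGA4.formalFibre (Localization.AtPrime P) (⊥ : Ideal (Localization.AtPrime P))) := by
  haveI : CharZero (MvPowerSeries (Fin n) Λ) :=
    charZero_of_injective_ringHom (MvPowerSeries.C_injective (σ := Fin n) (R := Λ))
  haveI : IsRegularRing (MvPowerSeries (Fin n) Λ) :=
    Groth.Agent.Lib.Helper33.isRegularRing_of_isRegularLocalRing _
  exact GenericFibre.isGeometricallyRegular_formalFibre_bot_of_charZero P
    (IsRegularRing.isRegularLocalRing_localization P)

/-- Generic formal fibres of the localizations of a complete Noetherian local domain. -/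
theorem isGeometricallyRegular_formalFibre_of_complete_domain (D : Type u) [CommRing D]
    [IsDomain D] [IsLocalRing D] [IsNoetherianRing D] [IsAdicComplete (maximalIdeal D) D]
    (P : Ideal D) [P.IsPrime] :
    CAlg.IsGeometricallyRegular (⊥ : Ideal (Localization.AtPrime P)).ResidueField
      (EGA4.formalFibre (Localization.AtPrime P) (⊥ : Ideal (Localization.AtPrime P))) := by
  classical
  obtain ⟨Λ, _, n, f, hΛ, hinj, hfin, -⟩ :=
    Groth.Agent.Lib.Helper88.CohenStruct2.exists_finite_injective D
  -- the base `A₀ = Λ[[x]]` is a Noetherian domain with geometrically regular generic formal fibres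
  have key : ∃ (_ : IsDomain (MvPowerSeries (Fin n) Λ))
      (_ : IsNoetherianRing (MvPowerSeries (Fin n) Λ)),
      ∀ (p₀ : Ideal (MvPowerSeries (Fin n) Λ)) [p₀.IsPrime],
        CAlg.IsGeometricallyRegular (⊥ : Ideal (Localization.AtPrime p₀)).ResidueField
          (EGA4.formalFibre (Localization.AtPrime p₀)
            (⊥ : Ideal (Localization.AtPrime p₀))) := by
    rcases hΛ with hfield | ⟨hcohen, hchar0⟩
    · letI : Field Λ := hfield.toField
      haveI hdom : IsDomain (MvPowerSeries (Fin n) Λ) := NoZeroDivisors.to_isDomain _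
      refine ⟨hdom, inferInstance, ?_⟩
      intro p₀ _
      obtain ⟨c, hc⟩ := CharP.exists Λ
      rcases CharP.char_is_prime_or_zero Λ c with hprime | hzero
      · haveI : Fact c.Prime := ⟨hprime⟩
        exact isGeometricallyRegular_formalFibre_mvPowerSeries_charP Λ c n p₀
      · subst hzero
        haveI : CharZero Λ := CharP.charP_to_charZero Λ
        exact isGeometricallyRegular_formalFibre_mvPowerSeries_charZero Λ n inferInstance p₀
    · obtain ⟨hdomΛ, hdvr, -, c, -, hmax⟩ := hcohen
      haveI := hdomΛ
      haveI := hdvr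
      haveI := hchar0
      haveI hdom : IsDomain (MvPowerSeries (Fin n) Λ) := NoZeroDivisors.to_isDomain _
      refine ⟨hdom, inferInstance, ?_⟩
      intro p₀ _
      have hreg : IsRegularLocalRing (MvPowerSeries (Fin n) Λ) :=
        isRegularLocalRing_mvPowerSeries_of_principal Λ
          (IsDiscreteValuationRing.not_isField Λ) (c : Λ) hmax n
      exact isGeometricallyRegular_formalFibre_mvPowerSeries_charZero Λ n hreg p₀
  obtain ⟨hdom, hnoeth, hA₀⟩ := key
  letI : Algebra (MvPowerSeries (Fin n) Λ) D := f.toAlgebra
  haveI : Module.Finite (MvPowerSeries (Fin n) Λ) D := hfin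
  have hinj' : Function.Injective (algebraMap (MvPowerSeries (Fin n) Λ) D) := hinj
  refine isGeometricallyRegular_formalFibre_of_finite (MvPowerSeries (Fin n) Λ) D
    (P.comap (algebraMap (MvPowerSeries (Fin n) Λ) D)) P rfl (Localization.AtPrime P) ⊥ ⊥ ?_
    (hA₀ _)
  rw [Ideal.comap_bot_of_injective _ (IsLocalization.injective _
      (P.comap (algebraMap (MvPowerSeries (Fin n) Λ) D)).primeCompl_le_nonZeroDivisors),
    Ideal.comap_bot_of_injective _ (IsLocalization.injective _ P.primeCompl_le_nonZeroDivisors),
    Ideal.comap_bot_of_injective _ hinj']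

/-- **Stacks 07PS**: a complete Noetherian local ring is a G-ring. -/
theorem isGRing_of_isAdicComplete (R : Type u) [CommRing R] [IsLocalRing R] [IsNoetherianRing R]
    [IsAdicComplete (maximalIdeal R) R] : CAlg.IsGRing R := by
  rw [Groth.Agent.S9257.result]
  intro q hq P _
  have hq' : q ≠ ⊤ := hq.ne_top
  haveI := Groth.Agent.Lib.Helper64.isLocalRing_quotient q hq'
  haveI := Groth.Agent.Lib.Helper64.isAdicComplete_quotient q hq'
  exact isGeometricallyRegular_formalFibre_of_complete_domain (R ⧸ q) P

end Groth.Agent.Lib.Helper96.GRingComplete
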