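import Mathlib
import Groth.Agent.Lib.Helper96.RegularHom
import Groth.Agent.Lib.Helper24.FibreChart

/-!
# Regular morphisms: affine-local regularity versus flat with geometrically regular fibres (helper96)
-/

set_option autoImplicit false
set_option linter.style.haveILetI false

universe u

namespace Groth.Agent.Lib.Helper96.RegularFibres

open TensorProduct

section Algebra

/-- A symmetric reformulation of "the fibre of `A → S` over the point `A → κ` is geometrically
regular". -/
def FibreRegular (A S κ : Type u) [CommRing A] [CommRing S] [Algebra A S] [Field κ]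
    [Algebra A κ] : Prop :=
  ∀ (K : Type u) [Field K] [Algebra A K] [Algebra κ K] [IsScalarTower A κ K],
    Module.Finite κ K → IsRegularRing (K ⊗[A] S)

variable (A S κ : Type u) [CommRing A] [CommRing S] [Algebra A S] [Field κ] [Algebra A κ]

theorem isGeometricallyRegular_tensor_iff :
    CAlg.IsGeometricallyRegular κ (κ ⊗[A] S) ↔ FibreRegular A S κ := by
  constructor
  · intro h K _ _ _ _ hfin
    haveI := h K hfin
    exact IsRegularRing.of_ringEquiv (R := K ⊗[κ] (κ ⊗[A] S)) (R' := K ⊗[A] S)
      (Algebra.TensorProduct.cancelBaseChange A κ κ K S).toRingEquiv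
  · intro h K _ _ hfin
    letI : Algebra A K := ((algebraMap κ K).comp (algebraMap A κ)).toAlgebra
    haveI : IsScalarTower A κ K := IsScalarTower.of_algebraMap_eq (fun _ => rfl)
    haveI := h K hfin
    exact IsRegularRing.of_ringEquiv (R' := K ⊗[κ] (κ ⊗[A] S)) (R := K ⊗[A] S)
      (Algebra.TensorProduct.cancelBaseChange A κ κ K S).toRingEquiv.symm

variable {A S κ}

theorem fibreRegular_of_ringEquiv {κ₂ : Type u} [Field κ₂] [Algebra A κ₂] (σ : κ ≃+* κ₂)
    (hσ : ∀ a : A, σ (algebraMap A κ a) = algebraMap A κ₂ a) (h : FibreRegular A S κ) :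
    FibreRegular A S κ₂ := by
  intro K _ _ _ _ hfin
  letI : Algebra κ K := ((algebraMap κ₂ K).comp σ.toRingHom).toAlgebra
  haveI : IsScalarTower A κ K := IsScalarTower.of_algebraMap_eq (fun a => by
    change algebraMap A K a = algebraMap κ₂ K (σ (algebraMap A κ a))
    rw [hσ, ← IsScalarTower.algebraMap_apply])
  have hfin' : Module.Finite κ K :=
    Module.Finite.of_equiv_equiv σ.symm (RingEquiv.refl K) (by
      ext x
      change algebraMap κ₂ K (σ (σ.symm x)) = algebraMap κ₂ K x
      rw [RingEquiv.apply_symm_apply])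
  exact h K hfin'

theorem FibreRegular.isNoetherianRing (h : FibreRegular A S κ) : IsNoetherianRing (κ ⊗[A] S) := by
  haveI := h κ inferInstance
  infer_instance

/-- Finite base field extension preserves Noetherianity. -/
theorem isNoetherianRing_tensor_of_finite (k K C : Type u) [Field k] [Field K] [Algebra k K]
    [CommRing C] [Algebra k C] [Module.Finite k K] [IsNoetherianRing C] :
    IsNoetherianRing (K ⊗[k] C) := by
  haveI : IsNoetherianRing (C ⊗[k] K) := Algebra.FiniteType.isNoetherianRing C _
  exact isNoetherianRing_of_ringEquiv _ (Algebra.TensorProduct.comm k C K).toRingEquiv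

end Algebra

open TensorProduct CategoryTheory CategoryTheory.Limits AlgebraicGeometry

section Scheme

theorem regularStalks_iff_of_isOpenImmersion {Z Z' : Scheme.{u}} (h : Z ⟶ Z') [IsOpenImmersion h] :
    (∀ z : Z, IsRegularLocalRing (Z.presheaf.stalk z)) ↔
      ∀ z' : Z', z' ∈ Set.range h → IsRegularLocalRing (Z'.presheaf.stalk z') := by
  constructor
  · rintro H _ ⟨z, rfl⟩
    haveI := H z
    exact IsRegularLocalRing.of_ringEquiv (asIso (h.stalkMap z)).commRingCatIsoToRingEquiv.symm
  · intro H z
    haveI := H _ ⟨z, rfl⟩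
    exact IsRegularLocalRing.of_ringEquiv (asIso (h.stalkMap z)).commRingCatIsoToRingEquiv

theorem regularStalks_Spec_iff (R : CommRingCat.{u}) [IsNoetherianRing R] :
    (∀ z : Spec R, IsRegularLocalRing ((Spec R).presheaf.stalk z)) ↔ IsRegularRing R := by
  rw [isRegularRing_iff]
  constructor
  · intro H p hp
    let x : Spec R := ⟨p, hp⟩
    letI : Algebra ↑R ↑((Spec R).presheaf.stalk x) := StructureSheaf.stalkAlgebra (↑R) x
    haveI : IsLocalization.AtPrime (↑((Spec R).presheaf.stalk x)) p :=
      StructureSheaf.IsLocalization.to_stalk R x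
    haveI := H x
    exact IsRegularLocalRing.of_ringEquiv (IsLocalization.algEquiv p.primeCompl
      ((Spec R).presheaf.stalk x) (Localization.AtPrime p)).toRingEquiv
  · intro H x
    haveI : x.asIdeal.IsPrime := x.isPrime
    letI : Algebra ↑R ↑((Spec R).presheaf.stalk x) := StructureSheaf.stalkAlgebra (↑R) x
    haveI : IsLocalization.AtPrime (↑((Spec R).presheaf.stalk x)) x.asIdeal :=
      StructureSheaf.IsLocalization.to_stalk R x
    haveI := H x.asIdeal
    exact IsRegularLocalRing.of_ringEquiv (IsLocalization.algEquiv x.asIdeal.primeCompl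
      (Localization.AtPrime x.asIdeal) ((Spec R).presheaf.stalk x)).toRingEquiv

variable {F : Scheme.{u}} {κ K C : Type u} [CommRing κ] [CommRing K] [CommRing C] [Algebra κ K]
  [Algebra κ C] (g : F ⟶ Spec (.of κ)) (j : Spec (.of C) ⟶ F)
  (hj : j ≫ g = Spec.map (CommRingCat.ofHom (algebraMap κ C)))

/-- The base change of a chart. -/
noncomputable def chartBC :
    pullback (Spec.map (CommRingCat.ofHom (algebraMap κ C)))
      (Spec.map (CommRingCat.ofHom (algebraMap κ K))) ⟶
    pullback g (Spec.map (CommRingCat.ofHom (algebraMap κ K))) :=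
  pullback.lift (pullback.fst _ _ ≫ j) (pullback.snd _ _) (by
    rw [Category.assoc, hj, pullback.condition])

@[reassoc (attr := simp)]
lemma chartBC_fst : chartBC (K := K) g j hj ≫ pullback.fst _ _ = pullback.fst _ _ ≫ j :=
  pullback.lift_fst _ _ _

@[reassoc (attr := simp)]
lemma chartBC_snd : chartBC (K := K) g j hj ≫ pullback.snd _ _ = pullback.snd _ _ :=
  pullback.lift_snd _ _ _

lemma isPullback_chartBC :
    IsPullback (chartBC (K := K) g j hj) (pullback.fst _ _) (pullback.fst _ _) j := by
  have hbot : IsPullback (pullback.fst g (Spec.map (CommRingCat.ofHom (algebraMap κ K))))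
      (pullback.snd _ _) g _ := IsPullback.of_hasPullback _ _
  have hbig : IsPullback (pullback.fst (Spec.map (CommRingCat.ofHom (algebraMap κ C)))
      (Spec.map (CommRingCat.ofHom (algebraMap κ K)))) (pullback.snd _ _) (j ≫ g)
      (Spec.map (CommRingCat.ofHom (algebraMap κ K))) := by
    rw [hj]
    exact IsPullback.of_hasPullback _ _
  refine (IsPullback.of_bot ?_ (chartBC_fst g j hj).symm hbot).flip
  rw [chartBC_snd]
  exact hbig

variable [IsOpenImmersion j]

instance : IsOpenImmersion (chartBC (K := K) g j hj) :=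
  MorphismProperty.of_isPullback (isPullback_chartBC g j hj).flip
    (inferInstance : IsOpenImmersion j)

lemma range_chartBC :
    Set.range (chartBC (K := K) g j hj) =
      (pullback.fst g (Spec.map (CommRingCat.ofHom (algebraMap κ K)))) ⁻¹' (Set.range j) := by
  have h := isPullback_chartBC (K := K) g j hj
  have hsurj : Function.Surjective h.isoPullback.hom := h.isoPullback.hom.homeomorph.surjective
  rw [← Scheme.Pullback.range_fst, ← h.isoPullback_hom_fst,
    Scheme.Hom.comp_base, TopCat.coe_comp, Set.range_comp, hsurj.range_eq, Set.image_univ]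

include hj in
/-- The master lemma: regularity of the base-changed chart ring is equivalent to regularity of the
stalks of the base-changed scheme over the chart. -/
theorem regular_chart_iff [IsNoetherianRing (K ⊗[κ] C)] :
    IsRegularRing (K ⊗[κ] C) ↔
      ∀ x' : ↥(pullback g (Spec.map (CommRingCat.ofHom (algebraMap κ K)))),
        (pullback.fst g (Spec.map (CommRingCat.ofHom (algebraMap κ K)))) x' ∈ Set.range j →
          IsRegularLocalRing
            ((pullback g (Spec.map (CommRingCat.ofHom (algebraMap κ K)))).presheaf.stalk x') := by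
  haveI : IsNoetherianRing (C ⊗[κ] K) :=
    isNoetherianRing_of_ringEquiv _ (Algebra.TensorProduct.comm κ K C).toRingEquiv
  haveI : IsNoetherianRing (CommRingCat.of (C ⊗[κ] K)) := ‹_›
  let i₁ : Spec (.of (C ⊗[κ] K)) ≅ pullback (Spec.map (CommRingCat.ofHom (algebraMap κ C)))
      (Spec.map (CommRingCat.ofHom (algebraMap κ K))) := (pullbackSpecIso κ C K).symm
  let j'' := i₁.hom ≫ chartBC (K := K) g j hj
  have hrange : Set.range j'' =
      (pullback.fst g (Spec.map (CommRingCat.ofHom (algebraMap κ K)))) ⁻¹' (Set.range j) := by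
    have hsurj : Function.Surjective i₁.hom := i₁.hom.homeomorph.surjective
    rw [← range_chartBC g j hj]
    change Set.range (i₁.hom ≫ chartBC (K := K) g j hj) = _
    rw [Scheme.Hom.comp_base, TopCat.coe_comp, Set.range_comp, hsurj.range_eq, Set.image_univ]
  have h1 : IsRegularRing (K ⊗[κ] C) ↔ IsRegularRing (C ⊗[κ] K) :=
    ⟨fun _ => IsRegularRing.of_ringEquiv (R := K ⊗[κ] C) (R' := C ⊗[κ] K)
        (Algebra.TensorProduct.comm κ K C).toRingEquiv,
      fun _ => IsRegularRing.of_ringEquiv (R' := K ⊗[κ] C) (R := C ⊗[κ] K)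
        (Algebra.TensorProduct.comm κ C K).toRingEquiv⟩
  rw [h1, ← regularStalks_Spec_iff (CommRingCat.of (C ⊗[κ] K)),
    regularStalks_iff_of_isOpenImmersion j'', hrange]
  rfl

end Scheme


section Points

theorem fromSpec_comp_eq {F : Scheme.{u}} {R : CommRingCat.{u}} (g : F ⟶ Spec R) {W : F.Opens}
    (hW : IsAffineOpen W) :
    hW.fromSpec ≫ g =
      Spec.map ((Scheme.ΓSpecIso R).inv ≫ g.appTop ≫ F.presheaf.map (homOfLE le_top).op) := by
  have h1 : g = F.toSpecΓ ≫ Spec.map ((Scheme.ΓSpecIso R).inv ≫ g.appTop) := by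
    rw [Spec.map_comp, ← Scheme.toSpecΓ_naturality_assoc, toSpecΓ_SpecMap_ΓSpecIso_inv,
      Category.comp_id]
  conv_lhs => rw [h1]
  rw [← Category.assoc, hW.fromSpec_toSpecΓ, ← Spec.map_comp, Category.assoc]

theorem ker_evaluation_fromSpec {Y : Scheme.{u}} {V : Y.Opens} (hV : IsAffineOpen V)
    (q : PrimeSpectrum Γ(Y, V)) (hy : hV.fromSpec q ∈ V) :
    RingHom.ker (Y.evaluation V (hV.fromSpec q) hy).hom = q.asIdeal := by
  ext a
  rw [RingHom.mem_ker]
  change Y.evaluation V (hV.fromSpec q) hy a = 0 ↔ _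
  rw [Scheme.evaluation_eq_zero_iff_notMem_basicOpen]
  have h := hV.fromSpec_preimage_basicOpen a
  have h2 : hV.fromSpec q ∈ Y.basicOpen a ↔ q ∈ PrimeSpectrum.basicOpen a := by
    rw [← h]
    rfl
  rw [h2, PrimeSpectrum.mem_basicOpen, not_not]

theorem exists_residueField_equiv {Y : Scheme.{u}} {V : Y.Opens} (hV : IsAffineOpen V) (y : Y)
    (hy : y ∈ V) (p : Ideal Γ(Y, V)) [p.IsPrime]
    (hp : RingHom.ker (Y.evaluation V y hy).hom = p) :
    ∃ σ : p.ResidueField ≃+* Y.residueField y,
      ∀ a, σ (algebraMap Γ(Y, V) p.ResidueField a) = Y.evaluation V y hy a := by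
  let φ : Γ(Y, V) →+* Y.residueField y := (Y.evaluation V y hy).hom
  have h1 : p ≤ RingHom.ker φ := hp.ge
  have h2 : p.primeCompl ≤ (IsUnit.submonoid (Y.residueField y)).comap φ := by
    intro a ha
    change IsUnit (φ a)
    rw [isUnit_iff_ne_zero]
    intro h0
    exact ha (hp ▸ (RingHom.mem_ker.mpr h0))
  let l := Ideal.ResidueField.lift p φ h1 h2
  have hl : ∀ a, l (algebraMap Γ(Y, V) p.ResidueField a) = φ a :=
    fun a => Ideal.ResidueField.lift_algebraMap p φ h1 h2 a
  have hbij : Function.Bijective l := by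
    refine ⟨l.injective, fun x => ?_⟩
    obtain ⟨s, t, ht, hst⟩ :=
      Groth.Agent.Lib.Helper24.FibreChart.exists_evaluation_div hV y hy x
    refine ⟨algebraMap Γ(Y, V) p.ResidueField s / algebraMap Γ(Y, V) p.ResidueField t, ?_⟩
    rw [map_div₀, hl, hl]
    change (Y.evaluation V y hy s) / (Y.evaluation V y hy t) = x
    rw [← hst, mul_div_assoc, div_self ht, mul_one]
  exact ⟨RingEquiv.ofBijective l hbij, hl⟩

end Points

section Fibres

/-- `regular_chart_iff` over a field (so that instance paths go through `Field`). -/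
theorem regular_chart_iff_field {F : Scheme.{u}} {κ K C : Type u} [Field κ] [CommRing K]
    [CommRing C] [Algebra κ K] [Algebra κ C] (g : F ⟶ Spec (.of κ)) (j : Spec (.of C) ⟶ F)
    (hj : j ≫ g = Spec.map (CommRingCat.ofHom (algebraMap κ C))) [IsOpenImmersion j]
    [IsNoetherianRing (K ⊗[κ] C)] :
    IsRegularRing (K ⊗[κ] C) ↔
      ∀ x' : ↥(pullback g (Spec.map (CommRingCat.ofHom (algebraMap κ K)))),
        (pullback.fst g (Spec.map (CommRingCat.ofHom (algebraMap κ K)))) x' ∈ Set.range j →
          IsRegularLocalRing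
            ((pullback g (Spec.map (CommRingCat.ofHom (algebraMap κ K)))).presheaf.stalk x') :=
  regular_chart_iff g j hj

variable {X Y : Scheme.{u}} (f : X ⟶ Y)

/-- All stalks of all finite base field extensions of the fibre over `y` are regular. -/
def FibreStalksRegular (y : Y) : Prop :=
  ∀ (K : Type u) [Field K] [Algebra (Y.residueField y) K], Module.Finite (Y.residueField y) K →
    ∀ x' : ↥(pullback (f.fiberToSpecResidueField y)
      (Spec.map (CommRingCat.ofHom (algebraMap (Y.residueField y) K)))),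
      IsRegularLocalRing ((pullback (f.fiberToSpecResidueField y)
        (Spec.map (CommRingCat.ofHom (algebraMap (Y.residueField y) K)))).presheaf.stalk x')

variable {V : Y.Opens} (hV : IsAffineOpen V) {U : X.Opens} (hU : IsAffineOpen U)
  (e : U ≤ f ⁻¹ᵁ V) (y : Y) (hy : y ∈ V)

include hV hU in
/-- The chart of the fibre, restated with instance paths through `Field`. -/
theorem exists_chart :
    letI : Algebra Γ(Y, V) Γ(X, U) := (f.appLE V U e).hom.toAlgebra
    letI : Algebra Γ(Y, V) ↑(Y.residueField y) := (Y.evaluation V y hy).hom.toAlgebra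
    ∃ j : Spec (.of ((Y.residueField y) ⊗[Γ(Y, V)] Γ(X, U))) ⟶ f.fiber y,
      IsOpenImmersion j ∧ Set.range j = (f.fiberι y) ⁻¹' (U : Set X) ∧
        j ≫ f.fiberToSpecResidueField y =
          Spec.map (CommRingCat.ofHom (algebraMap (Y.residueField y)
            ((Y.residueField y) ⊗[Γ(Y, V)] Γ(X, U)))) :=
  Groth.Agent.Lib.Helper24.FibreChart.exists_specChart f hV hU e y hy

include hV hU in
theorem fibreRegular_of_fibreStalksRegular [IsLocallyNoetherian (f.fiber y)]
    (H : FibreStalksRegular f y) :
    letI : Algebra Γ(Y, V) Γ(X, U) := (f.appLE V U e).hom.toAlgebra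
    letI : Algebra Γ(Y, V) ↑(Y.residueField y) := (Y.evaluation V y hy).hom.toAlgebra
    FibreRegular Γ(Y, V) Γ(X, U) (Y.residueField y) := by
  letI : Algebra Γ(Y, V) Γ(X, U) := (f.appLE V U e).hom.toAlgebra
  letI : Algebra Γ(Y, V) ↑(Y.residueField y) := (Y.evaluation V y hy).hom.toAlgebra
  rw [← isGeometricallyRegular_tensor_iff]
  obtain ⟨j, hj1, hj2, hj3⟩ := exists_chart f hV hU e y hy
  intro K _ _ hfin
  haveI := hfin
  haveI : IsLocallyNoetherian (Spec (.of ((Y.residueField y) ⊗[Γ(Y, V)] Γ(X, U)))) :=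
    isLocallyNoetherian_of_isOpenImmersion j
  haveI : IsNoetherianRing ((Y.residueField y) ⊗[Γ(Y, V)] Γ(X, U)) :=
    isLocallyNoetherian_Spec.mp ‹_›
  haveI : IsNoetherianRing (K ⊗[Y.residueField y] ((Y.residueField y) ⊗[Γ(Y, V)] Γ(X, U))) :=
    isNoetherianRing_tensor_of_finite _ _ _
  rw [regular_chart_iff_field (κ := Y.residueField y)
    (C := (Y.residueField y) ⊗[Γ(Y, V)] Γ(X, U)) (f.fiberToSpecResidueField y) j hj3]
  intro x' _
  exact H K hfin x'

include hV hU in
theorem regular_stalk_of_fibreRegular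
    (H : letI : Algebra Γ(Y, V) Γ(X, U) := (f.appLE V U e).hom.toAlgebra
      letI : Algebra Γ(Y, V) ↑(Y.residueField y) := (Y.evaluation V y hy).hom.toAlgebra
      FibreRegular Γ(Y, V) Γ(X, U) (Y.residueField y))
    (K : Type u) [Field K] [Algebra (Y.residueField y) K] (hfin : Module.Finite (Y.residueField y) K)
    (x' : ↥(pullback (f.fiberToSpecResidueField y)
      (Spec.map (CommRingCat.ofHom (algebraMap (Y.residueField y) K)))))
    (hx' : f.fiberι y ((pullback.fst (f.fiberToSpecResidueField y)
      (Spec.map (CommRingCat.ofHom (algebraMap (Y.residueField y) K)))) x') ∈ U) :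
    IsRegularLocalRing ((pullback (f.fiberToSpecResidueField y)
      (Spec.map (CommRingCat.ofHom (algebraMap (Y.residueField y) K)))).presheaf.stalk x') := by
  letI : Algebra Γ(Y, V) Γ(X, U) := (f.appLE V U e).hom.toAlgebra
  letI : Algebra Γ(Y, V) ↑(Y.residueField y) := (Y.evaluation V y hy).hom.toAlgebra
  rw [← isGeometricallyRegular_tensor_iff] at H
  obtain ⟨j, hj1, hj2, hj3⟩ := exists_chart f hV hU e y hy
  haveI := H K hfin
  refine (regular_chart_iff_field (κ := Y.residueField y)
    (C := (Y.residueField y) ⊗[Γ(Y, V)] Γ(X, U)) (f.fiberToSpecResidueField y) j hj3).mp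
    inferInstance x' ?_
  rw [hj2]
  exact hx'

/-- The algebra structure on sections of the fibre over an affine open. -/
noncomputable abbrev fibreAlgebra (y : Y) (W : (f.fiber y).Opens) :
    Algebra ↑(Y.residueField y) ↑Γ(f.fiber y, W) :=
  ((Scheme.ΓSpecIso (Y.residueField y)).inv ≫ (f.fiberToSpecResidueField y).appTop ≫
    (f.fiber y).presheaf.map (homOfLE le_top).op).hom.toAlgebra

theorem fibreStalksRegular_iff_affine (y : Y) [IsLocallyNoetherian (f.fiber y)] :
    FibreStalksRegular f y ↔ ∀ (W : (f.fiber y).Opens), IsAffineOpen W →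
      letI := fibreAlgebra f y W
      CAlg.IsGeometricallyRegular ↑(Y.residueField y) ↑Γ(f.fiber y, W) := by
  constructor
  · intro H W hW
    letI := fibreAlgebra f y W
    intro K _ _ hfin
    haveI := hfin
    haveI : IsNoetherianRing Γ(f.fiber y, W) :=
      IsLocallyNoetherian.component_noetherian ⟨W, hW⟩
    haveI : IsNoetherianRing (K ⊗[Y.residueField y] Γ(f.fiber y, W)) :=
      isNoetherianRing_tensor_of_finite _ _ _
    rw [regular_chart_iff_field (κ := Y.residueField y) (C := Γ(f.fiber y, W)) (f.fiberToSpecResidueField y) hW.fromSpec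
      (fromSpec_comp_eq _ hW)]
    intro x' _
    exact H K hfin x'
  · intro H K _ _ hfin x'
    obtain ⟨_, ⟨W, hW, rfl⟩, hxW, -⟩ := (f.fiber y).isBasis_affineOpens.exists_subset_of_mem_open
      (Set.mem_univ ((pullback.fst (f.fiberToSpecResidueField y)
        (Spec.map (CommRingCat.ofHom (algebraMap (Y.residueField y) K)))) x')) isOpen_univ
    letI := fibreAlgebra f y W
    haveI := H W hW K hfin
    haveI : IsOpenImmersion (hW.fromSpec : Spec (.of Γ(f.fiber y, W)) ⟶ f.fiber y) :=
      hW.isOpenImmersion_fromSpec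
    refine (regular_chart_iff_field (κ := Y.residueField y) (C := Γ(f.fiber y, W))
      (f.fiberToSpecResidueField y) hW.fromSpec (fromSpec_comp_eq _ hW)).mp inferInstance x' ?_
    rw [hW.range_fromSpec]
    exact hxW

end Fibres

end Groth.Agent.Lib.Helper96.RegularFibres

namespace Groth.Agent.Lib.Helper96.RegularFibres

open TensorProduct

theorem isRegularHom_fibre_iff (A S : Type u) [CommRing A] [CommRing S] [Algebra A S]
    (p : Ideal A) [p.IsPrime] :
    (IsNoetherianRing (p.Fiber S) ∧ CAlg.IsGeometricallyRegular p.ResidueField (p.Fiber S)) ↔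
      FibreRegular A S p.ResidueField :=
  ⟨fun h => (isGeometricallyRegular_tensor_iff A S p.ResidueField).mp h.2,
    fun h => ⟨h.isNoetherianRing, (isGeometricallyRegular_tensor_iff A S p.ResidueField).mpr h⟩⟩

end Groth.Agent.Lib.Helper96.RegularFibres
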