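import Mathlib
import Groth.Agent.Lib.Helper96.GRingComplete
import Groth.Agent.Lib.Helper96.ComplRegular
import Groth.Agent.Lib.Helper96.RegularLocalGlobal2
import Groth.Agent.Lib.Helper96.FiniteCompletion
import Groth.Agent.Lib.Helper69.GRingLocal

/-!
# G-rings can be tested on maximal ideals (helper96; Stacks 07PT / 07QW-type)
-/

set_option autoImplicit false
set_option linter.style.haveILetI false
set_option linter.unusedSectionVars false

universe u

namespace Groth.Agent.Lib.Helper96.GRingLocalCrit

open IsLocalRing Groth.Agent.Lib.Helper96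

/-- A Noetherian local ring whose completion map is regular is a G-ring. -/
theorem isGRing_of_isRegularHom_adicCompletion (A : Type u) [CommRing A] [IsLocalRing A]
    [IsNoetherianRing A]
    (hA : CAlg.IsRegularHom A (AdicCompletion (maximalIdeal A) A)) : CAlg.IsGRing A := by
  classical
  refine ⟨inferInstance, fun 𝔭 h𝔭 => ?_⟩
  have hGC : CAlg.IsGRing (AdicCompletion (maximalIdeal A) A) :=
    GRingComplete.isGRing_of_isAdicComplete _
  haveI hlocC : IsLocalHom (algebraMap A (AdicCompletion (maximalIdeal A) A)) := by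
    apply ((IsLocalRing.local_hom_TFAE (algebraMap A (AdicCompletion (maximalIdeal A) A))).out
      0 2).mpr
    rw [AdicCompletion.maximalIdeal_eq_map]
  haveI : Module.FaithfullyFlat A (AdicCompletion (maximalIdeal A) A) :=
    Module.FaithfullyFlat.of_flat_of_isLocalHom
  obtain ⟨⟨𝔭', h𝔭'⟩, hcomap⟩ := PrimeSpectrum.comap_surjective_of_faithfullyFlat
    (A := A) (B := AdicCompletion (maximalIdeal A) A) ⟨𝔭, h𝔭⟩
  have hcomap' : 𝔭'.comap (algebraMap A (AdicCompletion (maximalIdeal A) A)) = 𝔭 :=
    congrArg PrimeSpectrum.asIdeal hcomap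
  subst hcomap'
  haveI := h𝔭'
  set 𝔭 := 𝔭'.comap (algebraMap A (AdicCompletion (maximalIdeal A) A)) with h𝔭def
  haveI : IsNoetherianRing (Localization.AtPrime 𝔭) :=
    IsLocalization.isNoetherianRing 𝔭.primeCompl _ inferInstance
  haveI : IsNoetherianRing (Localization.AtPrime 𝔭') :=
    IsLocalization.isNoetherianRing 𝔭'.primeCompl _ inferInstance
  letI alg1 : Algebra (Localization.AtPrime 𝔭) (Localization.AtPrime 𝔭') :=
    (Localization.localRingHom 𝔭 𝔭' (algebraMap A (AdicCompletion (maximalIdeal A) A)) rfl).toAlgebra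
  haveI hloc1 : IsLocalHom (algebraMap (Localization.AtPrime 𝔭) (Localization.AtPrime 𝔭')) :=
    Localization.isLocalHom_localRingHom 𝔭 𝔭' _ rfl
  have h1 : CAlg.IsRegularHom (Localization.AtPrime 𝔭) (Localization.AtPrime 𝔭') :=
    isRegularHom_localRingHom A (AdicCompletion (maximalIdeal A) A) hA 𝔭'
  have h2 : CAlg.IsRegularHom (Localization.AtPrime 𝔭')
      (AdicCompletion (maximalIdeal (Localization.AtPrime 𝔭')) (Localization.AtPrime 𝔭')) :=
    hGC.2 𝔭'
  haveI : Module.Flat (Localization.AtPrime 𝔭) (Localization.AtPrime 𝔭') := h1.1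
  have h3 : CAlg.IsRegularHom (Localization.AtPrime 𝔭)
      (AdicCompletion (maximalIdeal (Localization.AtPrime 𝔭')) (Localization.AtPrime 𝔭')) :=
    Groth.Agent.Lib.Helper49.RegularHom.isRegularHom_comp _ (Localization.AtPrime 𝔭') _ h1 h2
      (fun p _ => isNoetherianRing_fiber _ _ p)
  letI alg3 : Algebra (AdicCompletion (maximalIdeal (Localization.AtPrime 𝔭)) (Localization.AtPrime 𝔭))
      (AdicCompletion (maximalIdeal (Localization.AtPrime 𝔭')) (Localization.AtPrime 𝔭')) :=
    (cplMap (Localization.AtPrime 𝔭) (Localization.AtPrime 𝔭')).toAlgebra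
  haveI tower2 : IsScalarTower (Localization.AtPrime 𝔭)
      (AdicCompletion (maximalIdeal (Localization.AtPrime 𝔭)) (Localization.AtPrime 𝔭))
      (AdicCompletion (maximalIdeal (Localization.AtPrime 𝔭')) (Localization.AtPrime 𝔭')) :=
    IsScalarTower.of_algebraMap_eq (fun a =>
      (cplMap_algebraMap (Localization.AtPrime 𝔭) (Localization.AtPrime 𝔭') a).symm)
  haveI : Module.Flat (AdicCompletion (maximalIdeal (Localization.AtPrime 𝔭)) (Localization.AtPrime 𝔭))
      (AdicCompletion (maximalIdeal (Localization.AtPrime 𝔭')) (Localization.AtPrime 𝔭')) :=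
    RingHom.flat_algebraMap_iff.mp (flat_cplMap (Localization.AtPrime 𝔭) (Localization.AtPrime 𝔭'))
  haveI : IsLocalHom (algebraMap
      (AdicCompletion (maximalIdeal (Localization.AtPrime 𝔭)) (Localization.AtPrime 𝔭))
      (AdicCompletion (maximalIdeal (Localization.AtPrime 𝔭')) (Localization.AtPrime 𝔭'))) :=
    isLocalHom_cplMap (Localization.AtPrime 𝔭) (Localization.AtPrime 𝔭')
  haveI : Module.FaithfullyFlat
      (AdicCompletion (maximalIdeal (Localization.AtPrime 𝔭)) (Localization.AtPrime 𝔭))
      (AdicCompletion (maximalIdeal (Localization.AtPrime 𝔭')) (Localization.AtPrime 𝔭')) :=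
    Module.FaithfullyFlat.of_flat_of_isLocalHom
  exact isRegularHom_of_comp_of_faithfullyFlat (Localization.AtPrime 𝔭)
    (AdicCompletion (maximalIdeal (Localization.AtPrime 𝔭)) (Localization.AtPrime 𝔭))
    (AdicCompletion (maximalIdeal (Localization.AtPrime 𝔭')) (Localization.AtPrime 𝔭')) h3

/-- **Stacks 07PT-type**: a Noetherian ring is a G-ring as soon as the completion maps of its
localizations at maximal ideals are regular. -/
theorem isGRing_of_forall_isMaximal (R : Type u) [CommRing R] [IsNoetherianRing R]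
    (H : ∀ (m : Ideal R) [m.IsMaximal],
      CAlg.IsRegularHom (Localization.AtPrime m)
        (AdicCompletion (maximalIdeal (Localization.AtPrime m)) (Localization.AtPrime m))) :
    CAlg.IsGRing R := by
  classical
  refine ⟨inferInstance, fun p hp => ?_⟩
  obtain ⟨m, hm, hpm⟩ := Ideal.exists_le_maximal p hp.ne_top
  haveI := hm
  haveI : IsNoetherianRing (Localization.AtPrime m) :=
    IsLocalization.isNoetherianRing m.primeCompl _ inferInstance
  have hG := isGRing_of_isRegularHom_adicCompletion (Localization.AtPrime m) (H m)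
  set 𝔭 : Ideal (Localization.AtPrime m) := p.map (algebraMap R (Localization.AtPrime m)) with h𝔭
  have hdisj : Disjoint (m.primeCompl : Set R) (p : Set R) := by
    rw [Set.disjoint_left]
    intro x hx hxp
    exact hx (hpm hxp)
  haveI h𝔭prime : 𝔭.IsPrime :=
    IsLocalization.isPrime_of_isPrime_disjoint m.primeCompl _ p hp hdisj
  have hcomap : 𝔭.comap (algebraMap R (Localization.AtPrime m)) = p :=
    IsLocalization.under_map_of_isPrime_disjoint m.primeCompl _ hp hdisj
  have key : ∀ (q : Ideal R) (hq : q.IsPrime), q = p →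
      @IsLocalization.AtPrime _ _ (Localization.AtPrime 𝔭) _ _ q hq →
        IsLocalization.AtPrime (Localization.AtPrime 𝔭) p := by
    rintro q hq rfl h
    exact h
  haveI hloc2 : IsLocalization.AtPrime (Localization.AtPrime 𝔭) p :=
    key _ _ hcomap (IsLocalization.isLocalization_isLocalization_atPrime_isLocalization
      m.primeCompl (Localization.AtPrime 𝔭) 𝔭)
  have e : Localization.AtPrime p ≃ₐ[R] Localization.AtPrime 𝔭 :=
    IsLocalization.algEquiv p.primeCompl _ _
  exact Groth.Agent.Lib.Helper69.GRingLocal.regular_completion_of_ringEquiv e.symm.toRingEquiv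
    (hG.2 𝔭)

end Groth.Agent.Lib.Helper96.GRingLocalCrit
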