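import Mathlib
import Groth.Prelude.Def_EGA43

/-!
# Openness at a point: descent along closed surjective maps (helper96)
-/

open CategoryTheory CategoryTheory.Limits AlgebraicGeometry

universe u

namespace Groth.Agent.Lib.Helper96.UnivOpenAt

/-- Pure topology: openness at a point descends along a closed surjection, given a
"set-theoretically surjective" commutative square. -/
theorem isOpenAt_of_closed_surj {X Y Y₁ P : Type*} [TopologicalSpace X] [TopologicalSpace Y]
    [TopologicalSpace Y₁] [TopologicalSpace P] (f : X → Y) (v : Y₁ → Y) (p : P → X) (q : P → Y₁)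
    (hcomm : ∀ z, f (p z) = v (q z))
    (hsurj : ∀ x y₁, f x = v y₁ → ∃ z, p z = x ∧ q z = y₁)
    (hp : Continuous p) (hv : IsClosedMap v) (hvs : Function.Surjective v) (x : X)
    (h : ∀ z, p z = x → EGA43.IsOpenAt q z) : EGA43.IsOpenAt f x := by
  intro U hU
  -- q (p⁻¹ U) = v⁻¹ (f U)
  have hqU : q '' (p ⁻¹' U) = v ⁻¹' (f '' U) := by
    ext y₁
    constructor
    · rintro ⟨z, hz, rfl⟩
      exact ⟨p z, hz, hcomm z⟩
    · rintro ⟨x', hx', hfx'⟩
      obtain ⟨z, hz1, hz2⟩ := hsurj x' y₁ hfx'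
      exact ⟨z, by simpa [hz1] using hx', hz2⟩
  -- v⁻¹(f U) is a neighbourhood of every point of the fibre v⁻¹(f x)
  have hnhd : ∀ y₁, v y₁ = f x → v ⁻¹' (f '' U) ∈ nhds y₁ := by
    intro y₁ hy₁
    obtain ⟨z, hz1, hz2⟩ := hsurj x y₁ hy₁.symm
    have := h z hz1 (p ⁻¹' U) (hp.continuousAt.preimage_mem_nhds (by rw [hz1]; exact hU))
    rw [hqU, hz2] at this
    exact this
  -- W = interior of v⁻¹(f U) contains the fibre
  set W := interior (v ⁻¹' (f '' U)) with hW
  have hWfib : ∀ y₁, v y₁ = f x → y₁ ∈ W := fun y₁ hy₁ => mem_interior_iff_mem_nhds.mpr (hnhd y₁ hy₁)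
  have hcl : IsClosed (v '' Wᶜ) := hv _ (isOpen_interior.isClosed_compl)
  have hV : (v '' Wᶜ)ᶜ ∈ nhds (f x) := by
    apply hcl.isOpen_compl.mem_nhds
    rintro ⟨y₁, hy₁, hy₁x⟩
    exact hy₁ (hWfib y₁ hy₁x)
  refine Filter.mem_of_superset hV ?_
  intro y hy
  obtain ⟨y₁, rfl⟩ := hvs y
  have hy₁W : y₁ ∈ W := by
    by_contra hcon
    exact hy ⟨y₁, hcon, rfl⟩
  have h5 : y₁ ∈ v ⁻¹' (f '' U) := interior_subset hy₁W
  exact h5

/-- Surjectivity of a pullback square of schemes onto the set-theoretic fibre product. -/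
theorem exists_preimage_of_isPullback {P X Y Y₁ : Scheme.{u}} {p : P ⟶ X} {q : P ⟶ Y₁}
    {f : X ⟶ Y} {v : Y₁ ⟶ Y} (sq : IsPullback p q f v) (x : X) (y₁ : Y₁)
    (hxy : f.base x = v.base y₁) : ∃ z : P, p.base z = x ∧ q.base z = y₁ := by
  obtain ⟨z, hz1, hz2⟩ := Scheme.Pullback.exists_preimage_pullback (f := f) (g := v) x y₁ hxy
  refine ⟨sq.isoPullback.inv.base z, ?_, ?_⟩
  · rw [← hz1, ← Scheme.Hom.comp_apply, IsPullback.isoPullback_inv_fst]
  · rw [← hz2, ← Scheme.Hom.comp_apply, IsPullback.isoPullback_inv_snd]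

theorem isOpenAt_of_isPullback_closed_surjective {P X Y Y₁ : Scheme.{u}} {p : P ⟶ X} {q : P ⟶ Y₁}
    {f : X ⟶ Y} {v : Y₁ ⟶ Y} (sq : IsPullback p q f v) (hv : IsClosedMap v.base)
    (hvs : Function.Surjective v.base) (x : X)
    (h : ∀ z : P, p.base z = x → EGA43.IsOpenAt q.base z) : EGA43.IsOpenAt f.base x := by
  refine isOpenAt_of_closed_surj f.base v.base p.base q.base ?_ ?_ p.continuous hv hvs x h
  · intro z
    rw [← Scheme.Hom.comp_apply, ← Scheme.Hom.comp_apply, sq.w]
  · intro x y₁ hxy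
    exact exists_preimage_of_isPullback sq x y₁ hxy

/-- Universal openness at a point gives openness at points of any pullback square. -/
theorem isOpenAt_of_isPullback_of_isUnivOpenAt {P X Y Y' : Scheme.{u}} {p : P ⟶ X} {q : P ⟶ Y'}
    {f : X ⟶ Y} {g : Y' ⟶ Y} (sq : IsPullback p q f g) (x : X) (hf : EGA43.IsUnivOpenAt f x)
    (z : P) (hz : p.base z = x) : EGA43.IsOpenAt q.base z := by
  intro U hU
  have h1 : (pullback.fst f g).base (sq.isoPullback.hom.base z) = x := by
    rw [← Scheme.Hom.comp_apply, IsPullback.isoPullback_hom_fst, hz]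
  have h2 := hf Y' g (sq.isoPullback.hom.base z) h1 (sq.isoPullback.hom.base '' U)
    (sq.isoPullback.hom.isOpenEmbedding.isOpenMap.image_mem_nhds hU)
  have h3 : (pullback.snd f g).base '' (sq.isoPullback.hom.base '' U) = q.base '' U := by
    rw [Set.image_image]
    congr 1
    ext w
    rw [← Scheme.Hom.comp_apply, IsPullback.isoPullback_hom_snd]
  have h4 : (pullback.snd f g).base (sq.isoPullback.hom.base z) = q.base z := by
    rw [← Scheme.Hom.comp_apply, IsPullback.isoPullback_hom_snd]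
  rw [h3, h4] at h2
  exact h2

/-- Universal openness at a point descends along universally closed surjective morphisms. -/
theorem isUnivOpenAt_of_universallyClosed_surjective {X Y Y₁ : Scheme.{u}} (v : Y₁ ⟶ Y)
    [UniversallyClosed v] [Surjective v] (f : X ⟶ Y) (x : X)
    (h : ∀ x₁ : ↥(pullback f v), (pullback.fst f v).base x₁ = x →
      EGA43.IsUnivOpenAt (pullback.snd f v) x₁) :
    EGA43.IsUnivOpenAt f x := by
  intro Y' g x' hx'
  refine isOpenAt_of_isPullback_closed_surjective
    (IsPullback.of_hasPullback (pullback.snd f g) (pullback.snd v g))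
    (pullback.snd v g).isClosedMap Surjective.surj x' ?_
  intro z hz
  have s1 : IsPullback (pullback.fst (pullback.snd f g) (pullback.snd v g))
      (pullback.snd (pullback.snd f g) (pullback.snd v g)) (pullback.snd f g) (pullback.snd v g) :=
    IsPullback.of_hasPullback _ _
  have t1 : IsPullback (pullback.fst f g) (pullback.snd f g) f g := IsPullback.of_hasPullback _ _
  have s2 := s1.paste_horiz t1
  have hc : pullback.snd v g ≫ g = pullback.fst v g ≫ v := pullback.condition.symm
  rw [hc] at s2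
  have t2 : IsPullback (pullback.fst f v) (pullback.snd f v) f v := IsPullback.of_hasPullback _ _
  have sqL := IsPullback.of_right' s2 t2
  refine isOpenAt_of_isPullback_of_isUnivOpenAt sqL _ (h _ ?_) z rfl
  rw [← Scheme.Hom.comp_apply, IsPullback.lift_fst, Scheme.Hom.comp_apply, hz, hx']

/-- The double base change square used for universal statements. -/
theorem isOpenAt_snd_snd {X Y Y₁ Y' : Scheme.{u}} (f : X ⟶ Y) (v : Y₁ ⟶ Y) (g : Y' ⟶ Y) (x : X)
    (h : ∀ x₁ : ↥(pullback f v), (pullback.fst f v).base x₁ = x →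
      EGA43.IsUnivOpenAt (pullback.snd f v) x₁)
    (x' : ↥(pullback f g)) (hx' : (pullback.fst f g).base x' = x)
    (z : ↥(pullback (pullback.snd f g) (pullback.snd v g)))
    (hz : (pullback.fst (pullback.snd f g) (pullback.snd v g)).base z = x') :
    EGA43.IsOpenAt (pullback.snd (pullback.snd f g) (pullback.snd v g)).base z := by
  have s1 : IsPullback (pullback.fst (pullback.snd f g) (pullback.snd v g))
      (pullback.snd (pullback.snd f g) (pullback.snd v g)) (pullback.snd f g) (pullback.snd v g) :=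
    IsPullback.of_hasPullback _ _
  have t1 : IsPullback (pullback.fst f g) (pullback.snd f g) f g := IsPullback.of_hasPullback _ _
  have s2 := s1.paste_horiz t1
  have hc : pullback.snd v g ≫ g = pullback.fst v g ≫ v := pullback.condition.symm
  rw [hc] at s2
  have t2 : IsPullback (pullback.fst f v) (pullback.snd f v) f v := IsPullback.of_hasPullback _ _
  have sqL := IsPullback.of_right' s2 t2
  refine isOpenAt_of_isPullback_of_isUnivOpenAt sqL _ (h _ ?_) z rfl
  rw [← Scheme.Hom.comp_apply, IsPullback.lift_fst, Scheme.Hom.comp_apply, hz, hx']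

/-- Pure topology: openness at a point can be checked on a finite closed cover of the target. -/
theorem isOpenAt_of_finite_closed_cover {X Y : Type*} [TopologicalSpace X] [TopologicalSpace Y]
    (f : X → Y) {ι : Type*} [Finite ι] (T : ι → Type*) [∀ i, TopologicalSpace (T i)]
    (t : ∀ i, T i → Y) (ht : ∀ i, Topology.IsClosedEmbedding (t i))
    (hcov : ⋃ i, Set.range (t i) = Set.univ)
    (P : ι → Type*) [∀ i, TopologicalSpace (P i)] (p : ∀ i, P i → X) (q : ∀ i, P i → T i)
    (hcomm : ∀ i z, f (p i z) = t i (q i z))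
    (hsurj : ∀ i x y, f x = t i y → ∃ z, p i z = x ∧ q i z = y)
    (hp : ∀ i, Continuous (p i)) (x : X)
    (h : ∀ i z, p i z = x → EGA43.IsOpenAt (q i) z) : EGA43.IsOpenAt f x := by
  intro U hU
  have key : ∀ i, ∃ W : Set Y, IsOpen W ∧ f x ∈ W ∧ W ∩ Set.range (t i) ⊆ f '' U := by
    intro i
    by_cases hx : f x ∈ Set.range (t i)
    · obtain ⟨y, hy⟩ := hx
      obtain ⟨z, hz1, hz2⟩ := hsurj i x y hy.symm
      have h1 := h i z hz1 ((p i) ⁻¹' U)
        ((hp i).continuousAt.preimage_mem_nhds (by rw [hz1]; exact hU))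
      have h2 : (q i) '' ((p i) ⁻¹' U) ⊆ (t i) ⁻¹' (f '' U) := by
        rintro _ ⟨w, hw, rfl⟩
        exact ⟨p i w, hw, hcomm i w⟩
      have h3 : (t i) ⁻¹' (f '' U) ∈ nhds y := by
        rw [← hz2]; exact Filter.mem_of_superset h1 h2
      rw [(ht i).isInducing.nhds_eq_comap, Filter.mem_comap] at h3
      obtain ⟨V, hV, hVsub⟩ := h3
      obtain ⟨W, hWV, hWo, hWy⟩ := mem_nhds_iff.mp hV
      refine ⟨W, hWo, by rw [← hy]; exact hWy, ?_⟩
      rintro _ ⟨hw, ⟨y', rfl⟩⟩
      exact hVsub (hWV hw)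
    · refine ⟨(Set.range (t i))ᶜ, (ht i).isClosed_range.isOpen_compl, hx, ?_⟩
      rintro w ⟨hw1, hw2⟩
      exact absurd hw2 hw1
  choose W hWo hWx hWsub using key
  have hI : (⋂ i, W i) ∈ nhds (f x) :=
    (isOpen_iInter_of_finite hWo).mem_nhds (Set.mem_iInter.mpr hWx)
  refine Filter.mem_of_superset hI ?_
  intro y hy
  have : y ∈ ⋃ i, Set.range (t i) := by rw [hcov]; trivial
  obtain ⟨j, hj⟩ := Set.mem_iUnion.mp this
  exact hWsub j ⟨Set.mem_iInter.mp hy j, hj⟩

/-- Universal openness at a point can be checked on a finite cover by closed subschemes. -/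
theorem isUnivOpenAt_of_finite_closed_cover {X Y : Scheme.{u}} (f : X ⟶ Y) (x : X) {ι : Type*}
    [Finite ι] (T : ι → Scheme.{u}) (g : ∀ i, T i ⟶ Y) [∀ i, IsClosedImmersion (g i)]
    (hcov : ⋃ i, Set.range (g i).base = Set.univ)
    (h : ∀ i, ∀ x' : ↥(pullback f (g i)), (pullback.fst f (g i)).base x' = x →
      EGA43.IsUnivOpenAt (pullback.snd f (g i)) x') :
    EGA43.IsUnivOpenAt f x := by
  intro Y' g' x' hx'
  refine isOpenAt_of_finite_closed_cover (pullback.snd f g').base
    (fun i => ↥(pullback (g i) g')) (fun i => (pullback.snd (g i) g').base)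
    (fun i => (pullback.snd (g i) g').isClosedEmbedding) ?_
    (fun i => ↥(pullback (pullback.snd f g') (pullback.snd (g i) g')))
    (fun i => (pullback.fst (pullback.snd f g') (pullback.snd (g i) g')).base)
    (fun i => (pullback.snd (pullback.snd f g') (pullback.snd (g i) g')).base)
    ?_ ?_ (fun i => Scheme.Hom.continuous _) x' ?_
  · rw [Set.eq_univ_iff_forall]
    intro y'
    have : g'.base y' ∈ ⋃ i, Set.range (g i).base := by rw [hcov]; trivial
    obtain ⟨i, w, hw⟩ := Set.mem_iUnion.mp this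
    obtain ⟨z, -, hz2⟩ := Scheme.Pullback.exists_preimage_pullback (f := g i) (g := g') w y' hw
    exact Set.mem_iUnion.mpr ⟨i, z, hz2⟩
  · intro i z
    rw [← Scheme.Hom.comp_apply, ← Scheme.Hom.comp_apply, pullback.condition]
  · intro i a b hab
    exact Scheme.Pullback.exists_preimage_pullback a b hab
  · intro i z hz
    exact isOpenAt_snd_snd f (g i) g' x (h i) x' hx' z hz

end Groth.Agent.Lib.Helper96.UnivOpenAt
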