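import Mathlib
import Groth.Agent.Lib.Helper96.FiniteCompletion
import Groth.Agent.Lib.Helper37.Hz56

/-!
# Branches of a one-dimensional reduced local ring (helper96)

The number of maximal ideals of the normalization of a reduced one-dimensional Noetherian local
ring with finite normalization equals the number of minimal primes of its completion.
-/

set_option autoImplicit false
set_option linter.style.haveILetI false

universe u

namespace Groth.Agent.Lib.Helper96.CurveBranches

open IsLocalRing TensorProduct

section General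

/-- A Noetherian local ring whose maximal ideal is generated by a nonzerodivisor is a domain. -/
theorem isDomain_of_maximalIdeal_eq_span (X : Type*) [CommRing X] [IsNoetherianRing X]
    [IsLocalRing X] (π : X) (hπ : π ∈ nonZeroDivisors X)
    (hm : maximalIdeal X = Ideal.span {π}) : IsDomain X := by
  classical
  have hkrull : ⨅ i, maximalIdeal X ^ i = ⊥ :=
    Ideal.iInf_pow_eq_bot_of_isLocalRing _ (maximalIdeal.isMaximal X).ne_top
  have key : ∀ x : X, x ≠ 0 → ∃ (k : ℕ) (w : X), IsUnit w ∧ x = π ^ k * w := by
    intro x hx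
    have hex : ∃ i, x ∉ maximalIdeal X ^ i := by
      by_contra hcon
      push Not at hcon
      apply hx
      have : x ∈ ⨅ i, maximalIdeal X ^ i := by
        rw [Ideal.mem_iInf]
        exact hcon
      rw [hkrull] at this
      exact this
    set i := Nat.find hex with hi
    have hi1 : x ∉ maximalIdeal X ^ i := Nat.find_spec hex
    have hi0 : i ≠ 0 := by
      intro h0
      rw [h0, pow_zero, Ideal.one_eq_top] at hi1
      exact hi1 trivial
    obtain ⟨k, hk⟩ := Nat.exists_eq_succ_of_ne_zero hi0
    have hk1 : x ∈ maximalIdeal X ^ k := by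
      by_contra hcon
      have := Nat.find_min' hex hcon
      omega
    rw [hm, Ideal.span_singleton_pow, Ideal.mem_span_singleton'] at hk1
    obtain ⟨w, hw⟩ := hk1
    refine ⟨k, w, ?_, by rw [← hw, mul_comm]⟩
    by_contra hwu
    have hwm : w ∈ maximalIdeal X := (IsLocalRing.mem_maximalIdeal w).mpr hwu
    rw [hm, Ideal.mem_span_singleton'] at hwm
    obtain ⟨v, hv⟩ := hwm
    apply hi1
    rw [hk, hm, Ideal.span_singleton_pow, Ideal.mem_span_singleton']
    refine ⟨v, ?_⟩
    rw [← hw, ← hv, Nat.succ_eq_add_one, pow_succ]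
    ring
  haveI : NoZeroDivisors X := by
    refine ⟨fun {x y} hxy => ?_⟩
    by_contra hcon
    push Not at hcon
    obtain ⟨k, w, hw, hx⟩ := key x hcon.1
    obtain ⟨l, v, hv, hy⟩ := key y hcon.2
    have h1 : (w * v) * π ^ (k + l) = 0 := by
      rw [← hxy, hx, hy, pow_add]; ring
    have h2 : w * v = 0 :=
      (mem_nonZeroDivisors_iff_right.mp (pow_mem hπ (k + l))) _ h1
    have h3 : IsUnit (w * v) := hw.mul hv
    rw [h2] at h3
    exact not_isUnit_zero h3
  exact NoZeroDivisors.to_isDomain X

/-- In a Dedekind domain, a nonzero maximal ideal is generated by one element up to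
multiplication by an element outside of it. -/
theorem exists_uniformizer_of_dedekind (B : Type*) [CommRing B] [IsDedekindDomain B]
    (P : Ideal B) [hP : P.IsMaximal] (hP0 : P ≠ ⊥) :
    ∃ π ∈ P, π ≠ 0 ∧ ∃ s, s ∉ P ∧ ∀ y ∈ P, s * y ∈ Ideal.span {π} := by
  haveI := hP.isPrime
  have hlt : P ^ 2 < P := by
    have := Ideal.pow_succ_lt_pow hP0 1
    rwa [pow_one] at this
  obtain ⟨π, hπP, hπ2⟩ := SetLike.exists_of_lt hlt
  have hle : Ideal.span {π} ≤ P := (Ideal.span_singleton_le_iff_mem _).mpr hπP
  obtain ⟨J, hJ⟩ := Ideal.dvd_iff_le.mpr hle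
  have hJP : ¬ J ≤ P := by
    intro hJP
    obtain ⟨J', hJ'⟩ := Ideal.dvd_iff_le.mpr hJP
    apply hπ2
    have : Ideal.span {π} ≤ P ^ 2 := by
      rw [hJ, hJ', ← mul_assoc, ← pow_two]
      exact Ideal.mul_le_left (I := P ^ 2) (J := J')
    exact this (Ideal.mem_span_singleton_self π)
  obtain ⟨s, hsJ, hsP⟩ := SetLike.not_le_iff_exists.mp hJP
  refine ⟨π, hπP, ?_, s, hsP, fun y hy => ?_⟩
  · rintro rfl
    exact hπ2 (Ideal.zero_mem _)
  · rw [hJ, mul_comm s y]
    exact Ideal.mul_mem_mul hy hsJ

/-- If the localization at a prime `N` is a domain, then `N` contains a unique minimal prime. -/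
theorem minimalPrime_unique_of_isDomain_localization {R : Type*} [CommRing R] (N : Ideal R)
    [hN : N.IsPrime] [IsDomain (Localization.AtPrime N)] (q q' : Ideal R)
    (hq : q ∈ minimalPrimes R) (hq' : q' ∈ minimalPrimes R) (hqN : q ≤ N) (hq'N : q' ≤ N) :
    q = q' := by
  have hP0 : (RingHom.ker (algebraMap R (Localization.AtPrime N))).IsPrime := RingHom.ker_isPrime _
  have hle : ∀ p : Ideal R, p.IsPrime → p ≤ N →
      RingHom.ker (algebraMap R (Localization.AtPrime N)) ≤ p := by
    intro p hp hpN x hx
    rw [RingHom.mem_ker, IsLocalization.map_eq_zero_iff N.primeCompl] at hx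
    obtain ⟨m, hm⟩ := hx
    have h1 : (m : R) * x ∈ p := by rw [hm]; exact p.zero_mem
    rcases hp.mem_or_mem h1 with h | h
    · exact absurd (hpN h) m.2
    · exact h
  have h1 : q = RingHom.ker (algebraMap R (Localization.AtPrime N)) :=
    le_antisymm (hq.2 ⟨hP0, bot_le⟩ (hle q hq.1.1 hqN)) (hle q hq.1.1 hqN)
  have h2 : q' = RingHom.ker (algebraMap R (Localization.AtPrime N)) :=
    le_antisymm (hq'.2 ⟨hP0, bot_le⟩ (hle q' hq'.1.1 hq'N)) (hle q' hq'.1.1 hq'N)
  rw [h1, h2]

end General

section Uniformizer

open Groth.Agent.Lib.Helper37.Hz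

variable {B Q : Type*} [CommRing B] [CommRing Q] [Algebra B Q]

/-- In a one-dimensional Noetherian ring which is integrally closed in its total ring of fractions,
a maximal ideal which is not a minimal prime is generated, up to multiplication by an element outside
of it, by a nonzerodivisor. -/
theorem exists_uniformizer (H : TotNorm.Hyp B Q) [IsNoetherianRing B] [Ring.KrullDimLE 1 B]
    (n : Ideal B) [hn : n.IsMaximal] (hnmin : n ∉ minimalPrimes B) :
    ∃ π ∈ n, π ∈ nonZeroDivisors B ∧ ∃ u, u ∉ n ∧ ∀ y ∈ n, ∃ a, u * y = π * a := by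
  classical
  haveI := H.red
  haveI hnp : n.IsPrime := hn.isPrime
  obtain ⟨𝔭, h𝔭, h𝔭n⟩ := Ideal.exists_minimalPrimes_le (I := ⊥) (J := n) bot_le
  haveI h𝔭p : 𝔭.IsPrime := h𝔭.1.1
  obtain ⟨e, hee, h1e, hep, heq⟩ := TotNorm.exists_idempotent H 𝔭 h𝔭
  haveI hIC : IsIntegrallyClosed (B ⧸ 𝔭) := TotNorm.isIntegrallyClosed_quotient H 𝔭 h𝔭
  have hmksurj : Function.Surjective (Ideal.Quotient.mk 𝔭) := Ideal.Quotient.mk_surjective
  -- dimension ≤ 1 for the quotient
  haveI hdim1 : Ring.DimensionLEOne (B ⧸ 𝔭) := by
    refine ⟨fun {P} hP0 hPp => ?_⟩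
    haveI := hPp
    have hcp : (P.comap (Ideal.Quotient.mk 𝔭)).IsPrime := Ideal.IsPrime.comap _
    have h𝔭le : 𝔭 ≤ P.comap (Ideal.Quotient.mk 𝔭) := by
      intro x hx
      rw [Ideal.mem_comap, Ideal.Quotient.eq_zero_iff_mem.mpr hx]
      exact P.zero_mem
    have hne : P.comap (Ideal.Quotient.mk 𝔭) ≠ 𝔭 := by
      intro heq'
      apply hP0
      rw [eq_bot_iff]
      intro x hx
      obtain ⟨x, rfl⟩ := hmksurj x
      have : x ∈ P.comap (Ideal.Quotient.mk 𝔭) := hx
      rw [heq'] at this
      rw [Ideal.mem_bot, Ideal.Quotient.eq_zero_iff_mem]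
      exact this
    rcases (Ring.krullDimLE_one_iff.mp inferInstance) _ hcp with hmin | hmax
    · exfalso
      apply hne
      exact le_antisymm (hmin.2 ⟨h𝔭p, bot_le⟩ h𝔭le) h𝔭le
    · have h1 : (P.comap (Ideal.Quotient.mk 𝔭)).map (Ideal.Quotient.mk 𝔭) = P :=
        Ideal.map_comap_of_surjective _ hmksurj P
      rcases Ideal.map_eq_top_or_isMaximal_of_surjective _ hmksurj hmax with h | h
      · rw [h1] at h
        exact absurd h hPp.ne_top
      · rwa [h1] at h
  haveI hded : IsDedekindDomain (B ⧸ 𝔭) :=
    { toIsDomain := Ideal.Quotient.isDomain 𝔭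
      toIsNoetherian := (inferInstance : IsNoetherianRing (B ⧸ 𝔭))
      toDimensionLEOne := hdim1
      toIsIntegralClosure := hIC }
  -- the image of `n`
  have hne𝔭 : n ≠ 𝔭 := fun h => hnmin (h ▸ h𝔭)
  have hkerle : RingHom.ker (Ideal.Quotient.mk 𝔭) ≤ n := by
    rw [Ideal.mk_ker]; exact h𝔭n
  have hcm : (n.map (Ideal.Quotient.mk 𝔭)).comap (Ideal.Quotient.mk 𝔭) = n := by
    rw [Ideal.comap_map_of_surjective _ hmksurj, ← RingHom.ker_eq_comap_bot]
    exact sup_eq_left.mpr hkerle
  have hmaxbar : (n.map (Ideal.Quotient.mk 𝔭)).IsMaximal := by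
    rcases Ideal.map_eq_top_or_isMaximal_of_surjective _ hmksurj hn with h | h
    · exfalso
      rw [h, Ideal.comap_top] at hcm
      exact hn.ne_top hcm.symm
    · exact h
  have hbar0 : n.map (Ideal.Quotient.mk 𝔭) ≠ ⊥ := by
    intro h0
    apply hne𝔭
    rw [h0, ← RingHom.ker_eq_comap_bot, Ideal.mk_ker] at hcm
    exact hcm.symm
  obtain ⟨πb, hπb, hπb0, sb, hsb, hys⟩ :=
    exists_uniformizer_of_dedekind (B ⧸ 𝔭) (n.map (Ideal.Quotient.mk 𝔭)) hbar0
  obtain ⟨π, rfl⟩ := hmksurj πb
  obtain ⟨s, rfl⟩ := hmksurj sb
  have hπn : π ∈ n := by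
    rw [← hcm]; exact hπb
  have hπ𝔭 : π ∉ 𝔭 := fun h => hπb0 (Ideal.Quotient.eq_zero_iff_mem.mpr h)
  have hsn : s ∉ n := fun h => hsb (Ideal.mem_map_of_mem _ h)
  have he𝔭 : e ∉ 𝔭 := by
    intro he
    have : (1 : B) ∈ 𝔭 := by
      have := 𝔭.add_mem he h1e
      rwa [add_sub_cancel] at this
    exact h𝔭p.ne_top ((Ideal.eq_top_iff_one _).mpr this)
  have hen : e ∉ n := by
    intro he
    have : (1 : B) ∈ n := by
      have := n.add_mem he (h𝔭n h1e)
      rwa [add_sub_cancel] at this
    exact hn.ne_top ((Ideal.eq_top_iff_one _).mpr this)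
  have he1e : (1 - e) * e = 0 := by
    rw [sub_mul, one_mul, hee, sub_self]
  refine ⟨e * π + (1 - e), n.add_mem (n.mul_mem_left _ hπn) (h𝔭n h1e), ?_, e * s, ?_, ?_⟩
  · apply TotNorm.mem_nonZeroDivisors_of_forall_not_mem
    intro q hq hmem
    haveI hqp : q.IsPrime := hq.1.1
    by_cases hqp' : q = 𝔭
    · subst hqp'
      have h2 : e * π ∈ q := by
        have := q.sub_mem hmem h1e
        rwa [add_sub_cancel_right] at this
      rcases hqp.mem_or_mem h2 with h | h
      · exact he𝔭 h
      · exact hπ𝔭 h
    · have heq' : e ∈ q := heq q hq hqp'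
      have h2 : (1 : B) ∈ q := by
        have h3 : 1 - e ∈ q := by
          have := q.sub_mem hmem (q.mul_mem_right π heq')
          rwa [add_sub_cancel_left] at this
        have := q.add_mem heq' h3
        rwa [add_sub_cancel] at this
      exact hqp.ne_top ((Ideal.eq_top_iff_one _).mpr h2)
  · intro h
    rcases hnp.mem_or_mem h with h | h
    · exact hen h
    · exact hsn h
  · intro y hy
    have h1 := hys (Ideal.Quotient.mk 𝔭 y) (Ideal.mem_map_of_mem _ hy)
    rw [Ideal.mem_span_singleton'] at h1
    obtain ⟨ab, hab⟩ := h1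
    obtain ⟨a, rfl⟩ := hmksurj ab
    rw [← map_mul, ← map_mul, Ideal.Quotient.eq] at hab
    have h2 := hep _ hab
    refine ⟨e * a, ?_⟩
    have h3 : e * (a * π) = e * (s * y) := by
      have : e * (a * π - s * y) = 0 := h2
      rw [mul_sub, sub_eq_zero] at this
      exact this
    calc e * s * y = e * (s * y) := by ring
      _ = e * (a * π) := h3.symm
      _ = (e * e) * (a * π) + ((1 - e) * e) * a := by rw [hee, he1e]; ring
      _ = (e * π + (1 - e)) * (e * a) := by ring

end Uniformizer

section Tensor

attribute [local instance] Algebra.TensorProduct.rightAlgebra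

variable (A : Type u) [CommRing A] [IsNoetherianRing A] [IsLocalRing A]
  (C : Type u) [CommRing C] [Algebra A C] [Module.Finite A C]

set_option hygiene false in
local notation "Â" => AdicCompletion (maximalIdeal A) A
set_option hygiene false in
local notation "TT" => AdicCompletion (maximalIdeal A) A ⊗[A] C

theorem algebraMap_eq_one_tmul (c : C) : algebraMap C TT c = 1 ⊗ₜ[A] c := rfl

theorem mhat_le (N : Ideal TT) [hN : N.IsMaximal] :
    (maximalIdeal Â).map (algebraMap Â TT) ≤ N :=
  Groth.Agent.S9405.map_le_of_isMaximal Â TT N hN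

theorem mhat_le_map_comap (N : Ideal TT) [hN : N.IsMaximal] :
    (maximalIdeal Â).map (algebraMap Â TT) ≤ (N.comap (algebraMap C TT)).map (algebraMap C TT) := by
  have hmN := mhat_le A C N
  rw [AdicCompletion.maximalIdeal_eq_map, Ideal.map_map, ← IsScalarTower.algebraMap_eq,
    IsScalarTower.algebraMap_eq A C TT, ← Ideal.map_map]
  apply Ideal.map_mono
  rw [Ideal.map_le_iff_le_comap]
  intro a ha
  rw [Ideal.mem_comap, Ideal.mem_comap]
  apply hmN
  rw [← IsScalarTower.algebraMap_apply A C TT, IsScalarTower.algebraMap_apply A Â TT]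
  apply Ideal.mem_map_of_mem
  rw [AdicCompletion.maximalIdeal_eq_map]
  exact Ideal.mem_map_of_mem _ ha

theorem le_map_comap (N : Ideal TT) [hN : N.IsMaximal] :
    N ≤ (N.comap (algebraMap C TT)).map (algebraMap C TT) := by
  have hmN := mhat_le A C N
  have hmn := mhat_le_map_comap A C N
  intro t ht
  obtain ⟨c, hc⟩ := exists_sub_one_tmul_mem A C t
  have h1 : algebraMap C TT c ∈ N := by
    have : algebraMap C TT c = t - (t - 1 ⊗ₜ[A] c) := by
      rw [algebraMap_eq_one_tmul]; ring
    rw [this]
    exact Ideal.sub_mem _ ht (hmN hc)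
  have h2 : t = algebraMap C TT c + (t - 1 ⊗ₜ[A] c) := by
    rw [algebraMap_eq_one_tmul]; ring
  rw [h2]
  exact Ideal.add_mem _ (Ideal.mem_map_of_mem _ h1) (hmn hc)

theorem comap_isMaximal (N : Ideal TT) [hN : N.IsMaximal] :
    (N.comap (algebraMap C TT)).IsMaximal := by
  haveI : Algebra.IsIntegral A C := Algebra.IsIntegral.of_finite A C
  haveI := hN.isPrime
  have hmN := mhat_le A C N
  have h1 : (N.comap (algebraMap C TT)).comap (algebraMap A C) = maximalIdeal A := by
    refine ((maximalIdeal.isMaximal A).eq_of_le ?_ ?_).symm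
    · exact Ideal.comap_ne_top _ (Ideal.comap_ne_top _ hN.ne_top)
    · intro a ha
      rw [Ideal.mem_comap, Ideal.mem_comap]
      apply hmN
      rw [← IsScalarTower.algebraMap_apply A C TT, IsScalarTower.algebraMap_apply A Â TT]
      apply Ideal.mem_map_of_mem
      rw [AdicCompletion.maximalIdeal_eq_map]
      exact Ideal.mem_map_of_mem _ ha
  have h2 : ((N.comap (algebraMap C TT)).comap (algebraMap A C)).IsMaximal := by
    rw [h1]; exact maximalIdeal.isMaximal A
  exact Ideal.isMaximal_of_isIntegral_of_isMaximal_comap (R := A) _ h2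

theorem le_of_comap_le (N N' : Ideal TT) [hN : N.IsMaximal] [hN' : N'.IsMaximal]
    (h : N.comap (algebraMap C TT) ≤ N'.comap (algebraMap C TT)) : N ≤ N' := by
  intro t ht
  obtain ⟨c, hc⟩ := exists_sub_one_tmul_mem A C t
  have h1 : algebraMap C TT c ∈ N := by
    have : algebraMap C TT c = t - (t - 1 ⊗ₜ[A] c) := by
      rw [algebraMap_eq_one_tmul]; ring
    rw [this]
    exact Ideal.sub_mem _ ht (mhat_le A C N hc)
  have h2 : algebraMap C TT c ∈ N' := h h1
  have h3 : t = algebraMap C TT c + (t - 1 ⊗ₜ[A] c) := by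
    rw [algebraMap_eq_one_tmul]; ring
  rw [h3]
  exact Ideal.add_mem _ h2 (mhat_le A C N' hc)

theorem exists_isMaximal_comap_eq (n : Ideal C) [hn : n.IsMaximal] :
    ∃ N : Ideal TT, N.IsMaximal ∧ N.comap (algebraMap C TT) = n := by
  classical
  haveI : Algebra.IsIntegral A C := Algebra.IsIntegral.of_finite A C
  have hmn : ∀ a ∈ maximalIdeal A, algebraMap A C a ∈ n := by
    intro a ha
    have h1 : (n.comap (algebraMap A C)).IsMaximal :=
      Ideal.isMaximal_comap_of_isIntegral_of_isMaximal (R := A) n
    have h2 := IsLocalRing.eq_maximalIdeal h1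
    have : a ∈ n.comap (algebraMap A C) := by rw [h2]; exact ha
    exact this
  let f1 : AdicCompletion (maximalIdeal A) A →ₐ[A] A ⧸ maximalIdeal A ^ 1 :=
    AdicCompletion.evalₐ (maximalIdeal A) 1
  let f2 : A ⧸ maximalIdeal A ^ 1 →ₐ[A] C ⧸ n :=
    Ideal.Quotient.liftₐ _ (Algebra.ofId A (C ⧸ n)) (by
      intro a ha
      rw [pow_one] at ha
      rw [Algebra.ofId_apply, IsScalarTower.algebraMap_apply A C (C ⧸ n),
        Ideal.Quotient.algebraMap_eq, Ideal.Quotient.eq_zero_iff_mem]
      exact hmn a ha)
  let ρ : AdicCompletion (maximalIdeal A) A ⊗[A] C →ₐ[A] C ⧸ n :=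
    Algebra.TensorProduct.lift (f2.comp f1) (Ideal.Quotient.mkₐ A n) (fun _ _ => Commute.all _ _)
  have hρ : ∀ c : C, ρ (1 ⊗ₜ[A] c) = Ideal.Quotient.mk n c := by
    intro c
    simp [ρ]
  have hne : n.map (algebraMap C TT) ≠ ⊤ := by
    intro htop
    have h1 : n.map (algebraMap C TT) ≤ RingHom.ker ρ.toRingHom := by
      rw [Ideal.map_le_iff_le_comap]
      intro c hc
      rw [Ideal.mem_comap, RingHom.mem_ker]
      change ρ (1 ⊗ₜ[A] c) = 0
      rw [hρ, Ideal.Quotient.eq_zero_iff_mem]
      exact hc
    rw [htop, top_le_iff] at h1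
    have h2 : (1 : AdicCompletion (maximalIdeal A) A ⊗[A] C) ∈ RingHom.ker ρ.toRingHom := by
      rw [h1]; trivial
    rw [RingHom.mem_ker] at h2
    have h3 : ρ.toRingHom 1 = 1 := map_one _
    rw [h3] at h2
    haveI : Nontrivial (C ⧸ n) := Ideal.Quotient.nontrivial_iff.mpr hn.ne_top
    exact one_ne_zero h2
  obtain ⟨N, hNmax, hNle⟩ := Ideal.exists_le_maximal _ hne
  refine ⟨N, hNmax, ?_⟩
  symm
  apply hn.eq_of_le
  · intro htop
    have : (1 : C) ∈ N.comap (algebraMap C TT) := by rw [htop]; trivial
    rw [Ideal.mem_comap, map_one] at this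
    exact hNmax.ne_top ((Ideal.eq_top_iff_one _).mpr this)
  · exact Ideal.map_le_iff_le_comap.mp hNle

theorem ncard_isMaximal_eq :
    {N : Ideal TT | N.IsMaximal}.ncard = {n : Ideal C | n.IsMaximal}.ncard := by
  refine Set.ncard_congr (fun N _ => N.comap (algebraMap C TT)) ?_ ?_ ?_
  · intro N hN
    haveI : N.IsMaximal := hN
    exact comap_isMaximal A C N
  · intro N N' hN hN' h
    haveI : N.IsMaximal := hN
    haveI : N'.IsMaximal := hN'
    exact le_antisymm (le_of_comap_le A C N N' (le_of_eq h))
      (le_of_comap_le A C N' N (le_of_eq h.symm))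
  · intro n hn
    haveI : n.IsMaximal := hn
    obtain ⟨N, hN, hNn⟩ := exists_isMaximal_comap_eq A C n
    exact ⟨N, hN, hNn⟩

theorem algebraMap_mem_nonZeroDivisors (π : C) (hπ : π ∈ nonZeroDivisors C) :
    algebraMap C TT π ∈ nonZeroDivisors TT := by
  have hinj : Function.Injective (LinearMap.mulLeft A π : C →ₗ[A] C) := by
    rw [injective_iff_map_eq_zero]
    intro x hx
    apply (mem_nonZeroDivisors_iff_right.mp hπ) x
    rw [mul_comm]
    exact hx
  have h2 := Module.Flat.lTensor_preserves_injective_linearMap (M := Â)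
    (LinearMap.mulLeft A π) hinj
  have h3 : ∀ t : TT, (LinearMap.lTensor Â (LinearMap.mulLeft A π)) t = algebraMap C TT π * t := by
    intro t
    induction t using TensorProduct.induction_on with
    | zero => simp
    | tmul x c =>
      rw [LinearMap.lTensor_tmul, algebraMap_eq_one_tmul, Algebra.TensorProduct.tmul_mul_tmul,
        one_mul]
      rfl
    | add x y hx hy => rw [map_add, hx, hy, mul_add]
  rw [mem_nonZeroDivisors_iff_right]
  intro t ht
  apply h2
  rw [h3, mul_comm, ht, map_zero]

theorem isDomain_localization (N : Ideal TT) [hN : N.IsMaximal] (π : C)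
    (hπn : π ∈ N.comap (algebraMap C TT)) (hπ : π ∈ nonZeroDivisors C) (u : C)
    (hu : u ∉ N.comap (algebraMap C TT))
    (huy : ∀ y ∈ N.comap (algebraMap C TT), ∃ a, u * y = π * a) :
    IsDomain (Localization.AtPrime N) := by
  haveI := hN.isPrime
  haveI hNT : IsNoetherianRing TT := IsNoetherianRing.of_finite Â TT
  haveI : IsNoetherianRing (Localization.AtPrime N) :=
    IsLocalization.isNoetherianRing N.primeCompl _ inferInstance
  let φ : C →+* Localization.AtPrime N :=
    (algebraMap TT (Localization.AtPrime N)).comp (algebraMap C TT)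
  have hφπ : φ π ∈ nonZeroDivisors (Localization.AtPrime N) := by
    apply IsLocalization.map_nonZeroDivisors_le N.primeCompl (Localization.AtPrime N)
    exact ⟨algebraMap C TT π, algebraMap_mem_nonZeroDivisors A C π hπ, rfl⟩
  apply isDomain_of_maximalIdeal_eq_span (Localization.AtPrime N) (φ π) hφπ
  apply le_antisymm
  · rw [← Localization.AtPrime.map_eq_maximalIdeal (I := N)]
    refine (Ideal.map_mono (le_map_comap A C N)).trans ?_
    rw [Ideal.map_map, Ideal.map_le_iff_le_comap]
    intro y hy
    rw [Ideal.mem_comap]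
    obtain ⟨a, ha⟩ := huy y hy
    have hunit : IsUnit (φ u) :=
      IsLocalization.map_units (Localization.AtPrime N) (⟨algebraMap C TT u, hu⟩ : N.primeCompl)
    have h1 : φ u * φ y = φ π * φ a := by rw [← map_mul, ← map_mul, ha]
    rw [Ideal.mem_span_singleton']
    obtain ⟨v, hv⟩ := hunit.exists_left_inv
    refine ⟨v * φ a, ?_⟩
    calc v * φ a * φ π = v * (φ π * φ a) := by ring
      _ = v * (φ u * φ y) := by rw [h1]
      _ = (v * φ u) * φ y := by ring
      _ = φ y := by rw [hv, one_mul]
  · rw [Ideal.span_singleton_le_iff_mem, ← Localization.AtPrime.map_eq_maximalIdeal (I := N)]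
    exact Ideal.mem_map_of_mem _ hπn

open Groth.Agent.Lib.Helper37.Hz in
theorem ncard_minimalPrimes_eq
    (hdom : ∀ (N : Ideal TT) [N.IsMaximal], IsDomain (Localization.AtPrime N)) :
    (minimalPrimes TT).ncard = {N : Ideal TT | N.IsMaximal}.ncard := by
  classical
  haveI : HenselianLocalRing Â := Compare.henselianLocalRing_of_isAdicComplete Â
  haveI : Algebra.IsIntegral Â TT := Algebra.IsIntegral.of_finite Â TT
  have hex : ∀ q ∈ minimalPrimes TT, ∃ N : Ideal TT, N.IsMaximal ∧ q ≤ N :=
    fun q hq => Ideal.exists_le_maximal q hq.1.1.ne_top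
  refine Set.ncard_congr (fun q hq => (hex q hq).choose) ?_ ?_ ?_
  · intro q hq
    exact (hex q hq).choose_spec.1
  · intro q q' hq hq' h
    have hN : (hex q hq).choose.IsMaximal := (hex q hq).choose_spec.1
    have hqN : q ≤ (hex q hq).choose := (hex q hq).choose_spec.2
    have hq'N : q' ≤ (hex q hq).choose := by
      have := (hex q' hq').choose_spec.2
      rw [← h] at this
      exact this
    haveI := hN
    haveI := hdom (hex q hq).choose
    exact minimalPrime_unique_of_isDomain_localization _ q q' hq hq' hqN hq'N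
  · intro N hN
    haveI : N.IsMaximal := hN
    haveI : N.IsPrime := hN.isPrime
    obtain ⟨q, hq, hqN⟩ := Ideal.exists_minimalPrimes_le (I := ⊥) (J := N) bot_le
    refine ⟨q, hq, ?_⟩
    haveI := hq.1.1
    haveI := (hex q hq).choose_spec.1
    exact TotNorm.maximal_unique_of_le Â TT q _ N (hex q hq).choose_spec.2 hqN

end Tensor

section Main

open Groth.Agent.Lib.Helper37.Hz

/-- The number of minimal primes is invariant under ring isomorphisms. -/
theorem ncard_minimalPrimes_of_ringEquiv {R R' : Type*} [CommRing R] [CommRing R']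
    (e : R ≃+* R') : (minimalPrimes R).ncard = (minimalPrimes R').ncard := by
  have h1 := Ideal.comap_minimalPrimes_eq_of_surjective (f := (e : R →+* R')) e.surjective ⊥
  have h2 : (⊥ : Ideal R').comap (e : R →+* R') = ⊥ := by
    ext x
    rw [Ideal.mem_comap, Ideal.mem_bot, Ideal.mem_bot]
    exact map_eq_zero_iff e e.injective
  rw [h2] at h1
  change minimalPrimes R = Ideal.comap (e : R →+* R') '' minimalPrimes R' at h1
  rw [h1]
  exact Set.ncard_image_of_injective _ (Ideal.comap_injective_of_surjective _ e.surjective)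

attribute [local instance] Algebra.TensorProduct.rightAlgebra

variable (A : Type u) [CommRing A] [IsNoetherianRing A] [IsLocalRing A] [IsReduced A]

theorem hyp_integralClosure (hfin : Module.Finite A (integralClosure A (FractionRing A))) :
    TotNorm.Hyp (integralClosure A (FractionRing A)) (FractionRing A) where
  red := by
    haveI : IsReduced (FractionRing A) := inferInstance
    exact isReduced_of_injective (algebraMap (integralClosure A (FractionRing A)) (FractionRing A))
      Subtype.val_injective
  inj := Subtype.val_injective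
  unit := by
    intro u hu
    obtain ⟨⟨a₀, t⟩, hat⟩ := IsLocalization.surj (nonZeroDivisors A) (u : FractionRing A)
    have hinj := IsFractionRing.injective A (FractionRing A)
    have ha₀ : a₀ ∈ nonZeroDivisors A := by
      rw [mem_nonZeroDivisors_iff_right]
      intro c hc
      have h1 : (algebraMap A (integralClosure A (FractionRing A)) (c * t)) * u = 0 := by
        apply Subtype.val_injective
        change algebraMap A (FractionRing A) (c * t) * (u : FractionRing A) = 0
        rw [map_mul, mul_assoc, mul_comm (algebraMap _ _ (t : A)), hat, ← map_mul, hc,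
          map_zero]
      have h2 := (mem_nonZeroDivisors_iff_right.mp hu) _ h1
      have h3 : c * t = 0 := by
        apply hinj
        rw [map_zero]
        exact congrArg Subtype.val h2
      exact (mem_nonZeroDivisors_iff_right.mp t.2) c h3
    have hu1 : IsUnit (algebraMap A (FractionRing A) a₀) :=
      IsLocalization.map_units _ (⟨a₀, ha₀⟩ : nonZeroDivisors A)
    rw [← hat] at hu1
    exact isUnit_of_mul_isUnit_left hu1
  closed := by
    intro x hx
    have : IsIntegral A x := isIntegral_trans x hx
    exact ⟨⟨x, this⟩, rfl⟩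
  fin := by
    haveI := hfin
    haveI : IsNoetherianRing (integralClosure A (FractionRing A)) :=
      IsNoetherianRing.of_finite A _
    exact minimalPrimes.finite_of_isNoetherianRing _

omit [IsNoetherianRing A] [IsLocalRing A] [IsReduced A] in
theorem krullDimLE_one_integralClosure (hdim : ringKrullDim A = 1) :
    Ring.KrullDimLE 1 (integralClosure A (FractionRing A)) := by
  have hA1 : Ring.KrullDimLE 1 A := by
    rw [Ring.krullDimLE_iff, hdim]
    rfl
  rw [Ring.krullDimLE_one_iff]
  intro P hP
  haveI := hP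
  have hcp : (P.comap (algebraMap A (integralClosure A (FractionRing A)))).IsPrime :=
    Ideal.IsPrime.comap _
  rcases (Ring.krullDimLE_one_iff.mp hA1) _ hcp with hmin | hmax
  · left
    obtain ⟨Q, hQ, hQP⟩ := Ideal.exists_minimalPrimes_le (I := ⊥) (J := P) bot_le
    by_cases hQP' : Q = P
    · rw [← hQP']; exact hQ
    · exfalso
      haveI := hQ.1.1
      have hlt : Q < P := lt_of_le_of_ne hQP hQP'
      have h1 := Ideal.IsIntegral.comap_lt_comap (R := A) hlt
      have h2 := hmin.2 ⟨Ideal.IsPrime.comap _, bot_le⟩ h1.le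
      exact absurd h2 (not_le_of_gt h1)
  · right
    exact Ideal.isMaximal_of_isIntegral_of_isMaximal_comap (R := A) _ hmax

omit [IsNoetherianRing A] [IsLocalRing A] in
/-- An ideal of a reduced ring with finitely many minimal primes which is contained in no minimal
prime contains a nonzerodivisor. -/
theorem exists_mem_nonZeroDivisors (hfinA : (minimalPrimes A).Finite) (I : Ideal A)
    (hI : ∀ p ∈ minimalPrimes A, ¬ I ≤ p) : ∃ a ∈ I, a ∈ nonZeroDivisors A := by
  classical
  by_contra hcon
  push Not at hcon
  have hsub : (I : Set A) ⊆ ⋃ q ∈ (↑hfinA.toFinset : Set (Ideal A)), (id q : Ideal A) := by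
    intro a ha
    have h1 : ¬ ∀ q ∈ minimalPrimes A, a ∉ q :=
      fun h => hcon a ha (TotNorm.mem_nonZeroDivisors_of_forall_not_mem a h)
    push Not at h1
    obtain ⟨q, hq, haq⟩ := h1
    simp only [Set.mem_iUnion]
    exact ⟨q, by simpa using hq, haq⟩
  rw [Ideal.subset_union_prime (⊥ : Ideal A) ⊥] at hsub
  · obtain ⟨q, hq, hIq⟩ := hsub
    exact hI q (by simpa using hq) hIq
  · intro q hq _ _
    exact ((Set.Finite.mem_toFinset hfinA).mp hq).1.1

theorem not_mem_minimalPrimes_of_isMaximal (hdim : ringKrullDim A = 1)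
    (n : Ideal (integralClosure A (FractionRing A))) [hn : n.IsMaximal] :
    n ∉ minimalPrimes (integralClosure A (FractionRing A)) := by
  intro hnmin
  have hmA : ∀ p ∈ minimalPrimes A, ¬ maximalIdeal A ≤ p := by
    intro p hp hle
    haveI := hp.1.1
    have hpm : p = maximalIdeal A :=
      le_antisymm (IsLocalRing.le_maximalIdeal hp.1.1.ne_top) hle
    have h0 : Ring.KrullDimLE 0 A := by
      rw [Ring.krullDimLE_zero_iff]
      intro I hI
      have h1 : I ≤ p := hpm ▸ IsLocalRing.le_maximalIdeal hI.ne_top
      have h2 : p ≤ I := hp.2 ⟨hI, bot_le⟩ h1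
      have : I = maximalIdeal A := by rw [← hpm]; exact le_antisymm h1 h2
      rw [this]
      exact maximalIdeal.isMaximal A
    rw [Ring.krullDimLE_iff, hdim] at h0
    exact absurd h0 (by decide)
  obtain ⟨a, ham, ha⟩ := exists_mem_nonZeroDivisors A
    (minimalPrimes.finite_of_isNoetherianRing A) (maximalIdeal A) hmA
  have h1 : (n.comap (algebraMap A (integralClosure A (FractionRing A)))).IsMaximal :=
    Ideal.isMaximal_comap_of_isIntegral_of_isMaximal (R := A) n
  have h2 := IsLocalRing.eq_maximalIdeal h1
  have han : algebraMap A (integralClosure A (FractionRing A)) a ∈ n := by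
    have : a ∈ n.comap (algebraMap A (integralClosure A (FractionRing A))) := by
      rw [h2]; exact ham
    exact this
  have hnzd : algebraMap A (integralClosure A (FractionRing A)) a ∈
      nonZeroDivisors (integralClosure A (FractionRing A)) := by
    rw [mem_nonZeroDivisors_iff_right]
    intro x hx
    have hu : IsUnit (algebraMap A (FractionRing A) a) :=
      IsLocalization.map_units _ (⟨a, ha⟩ : nonZeroDivisors A)
    have h3 : (x : FractionRing A) * algebraMap A (FractionRing A) a = 0 := by
      have := congrArg Subtype.val hx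
      exact this
    apply Subtype.val_injective
    exact (hu.mul_left_eq_zero).mp h3
  exact Set.disjoint_left.mp (Ideal.disjoint_nonZeroDivisors_of_mem_minimalPrimes hnmin) han hnzd

/-- **Branches of a curve singularity**: for a reduced one-dimensional Noetherian local ring with
finite normalization, the number of maximal ideals of the normalization equals the number of
minimal primes of the completion. -/
theorem ncard_maximal_integralClosure_eq (hdim : ringKrullDim A = 1)
    (hfin : Module.Finite A (integralClosure A (FractionRing A))) :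
    {P : Ideal (integralClosure A (FractionRing A)) | P.IsMaximal}.ncard =
      (minimalPrimes (AdicCompletion (maximalIdeal A) A)).ncard := by
  classical
  haveI := hfin
  haveI : IsNoetherianRing (integralClosure A (FractionRing A)) := IsNoetherianRing.of_finite A _
  have H := hyp_integralClosure A hfin
  haveI := krullDimLE_one_integralClosure A hdim
  have hdom : ∀ (N : Ideal (AdicCompletion (maximalIdeal A) A ⊗[A]
      integralClosure A (FractionRing A))) [N.IsMaximal], IsDomain (Localization.AtPrime N) := by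
    intro N hN
    haveI := comap_isMaximal A (integralClosure A (FractionRing A)) N
    obtain ⟨π, hπn, hπ, u, hu, huy⟩ := exists_uniformizer H
      (N.comap (algebraMap (integralClosure A (FractionRing A))
        (AdicCompletion (maximalIdeal A) A ⊗[A] integralClosure A (FractionRing A))))
      (not_mem_minimalPrimes_of_isMaximal A hdim _)
    exact isDomain_localization A (integralClosure A (FractionRing A)) N π hπn hπ u hu huy
  have e1 := ncard_minimalPrimes_eq A (integralClosure A (FractionRing A)) hdom
  have e2 := ncard_isMaximal_eq A (integralClosure A (FractionRing A))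
  have hinjK := IsFractionRing.injective A (FractionRing A)
  have hT : ∀ t ∈ nonZeroDivisors A, ∀ x : integralClosure A (FractionRing A),
      algebraMap A (integralClosure A (FractionRing A)) t * x = 0 → x = 0 := by
    intro t ht x hx
    have hu : IsUnit (algebraMap A (FractionRing A) t) :=
      IsLocalization.map_units _ (⟨t, ht⟩ : nonZeroDivisors A)
    have h3 : algebraMap A (FractionRing A) t * (x : FractionRing A) = 0 := by
      have := congrArg Subtype.val hx
      exact this
    apply Subtype.val_injective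
    exact (hu.mul_right_eq_zero).mp h3
  have hbir : ∀ x : integralClosure A (FractionRing A), ∃ t ∈ nonZeroDivisors A, ∃ a : A,
      algebraMap A (integralClosure A (FractionRing A)) t * x =
        algebraMap A (integralClosure A (FractionRing A)) a := by
    intro x
    obtain ⟨⟨a, t⟩, hat⟩ := IsLocalization.surj (nonZeroDivisors A) (x : FractionRing A)
    refine ⟨t, t.2, a, ?_⟩
    apply Subtype.val_injective
    change algebraMap A (FractionRing A) t * (x : FractionRing A) = algebraMap A (FractionRing A) a
    rw [mul_comm]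
    exact hat
  have hker : ∀ a : A, algebraMap A (integralClosure A (FractionRing A)) a = 0 →
      IsNilpotent a := by
    intro a ha
    have h1 : algebraMap A (FractionRing A) a = 0 := by
      have := congrArg Subtype.val ha
      exact this
    rw [← map_zero (algebraMap A (FractionRing A))] at h1
    rw [hinjK h1]
    exact IsNilpotent.zero
  have hbij := Birat.bijOn_minimalPrimes (A := A) (A' := integralClosure A (FractionRing A))
    (S := AdicCompletion (maximalIdeal A) A) (nonZeroDivisors A) hT hbir hker
  have e3 : (minimalPrimes (integralClosure A (FractionRing A) ⊗[A]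
      AdicCompletion (maximalIdeal A) A)).ncard =
      (minimalPrimes (AdicCompletion (maximalIdeal A) A)).ncard := by
    rw [← hbij.image_eq]
    exact (Set.ncard_image_of_injOn hbij.injOn).symm
  have e4 := ncard_minimalPrimes_of_ringEquiv
    (R := integralClosure A (FractionRing A) ⊗[A] AdicCompletion (maximalIdeal A) A)
    (R' := AdicCompletion (maximalIdeal A) A ⊗[A] integralClosure A (FractionRing A))
    (Algebra.TensorProduct.comm A (integralClosure A (FractionRing A))
      (AdicCompletion (maximalIdeal A) A)).toRingEquiv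
  rw [← e2, ← e1, ← e3, e4]

end Main

end Groth.Agent.Lib.Helper96.CurveBranches
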