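import Mathlib
import Groth.Agent.Lib.Helper96.PSFamily2

/-!
# Good families on polynomial rings (helper96)

Given an injective ring map `φ : C → B` with image a subring `B'` of `B`, the subring `B'[y^p]` of
`B[y_1, …, y_m]`: membership, `p`-th powers, finite generation, saturation and intersections.
-/

set_option autoImplicit false
set_option linter.style.haveILetI false
set_option linter.unusedSectionVars false

universe u

namespace Groth.Agent.Lib.Helper96.PolyFamily

open MvPolynomial Groth.Agent.Lib.Helper96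

/-- Saturation of the image of an integrally closed domain: if `v b = u` with `u, v` in the image,
`v ≠ 0` and `b ^ p` in the image, then `b` is in the image. -/
theorem mem_range_of_mul_eq {C A : Type*} [CommRing C] [IsDomain C] [IsIntegrallyClosed C]
    [CommRing A] [IsDomain A] (ψ : C →+* A) (hψ : Function.Injective ψ) (p : ℕ) (hp : 0 < p)
    (u v b : A) (hu : u ∈ ψ.range) (hv : v ∈ ψ.range) (hv0 : v ≠ 0) (h : v * b = u)
    (hbp : b ^ p ∈ ψ.range) : b ∈ ψ.range := by
  classical
  obtain ⟨u', rfl⟩ := hu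
  obtain ⟨v', rfl⟩ := hv
  obtain ⟨w', hw'⟩ := hbp
  have hv'0 : v' ≠ 0 := by
    rintro rfl
    exact hv0 (map_zero _)
  have hrel : u' ^ p = w' * v' ^ p := by
    apply hψ
    rw [map_pow, map_mul, map_pow, hw', ← h, mul_pow]
    ring
  set Fr := FractionRing C with hFr
  have hvF : algebraMap C Fr v' ≠ 0 := by
    rw [Ne, map_eq_zero_iff _ (IsFractionRing.injective _ Fr)]
    exact hv'0
  set x : Fr := algebraMap _ Fr u' / algebraMap _ Fr v' with hx
  have hxp : x ^ p = algebraMap _ Fr w' := by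
    rw [hx, div_pow, ← map_pow, ← map_pow, hrel, map_mul, map_pow, mul_div_assoc,
      div_self (pow_ne_zero _ hvF), mul_one]
  have hint : IsIntegral C x := by
    refine IsIntegral.of_pow hp ?_
    rw [hxp]
    exact isIntegral_algebraMap
  obtain ⟨c', hc'⟩ := IsIntegrallyClosed.isIntegral_iff.mp hint
  have huc : u' = c' * v' := by
    apply IsFractionRing.injective C Fr
    rw [map_mul, hc', hx, div_mul_cancel₀ _ hvF]
  refine ⟨c', ?_⟩
  have h2 : ψ v' * ψ c' = ψ v' * b := by
    rw [h, huc, map_mul, mul_comm]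
  exact mul_left_cancel₀ hv0 h2

variable {B : Type u} [CommRing B] (p : ℕ) [hp : Fact p.Prime] (m : ℕ)
  {Cc : Type u} [CommRing Cc] (φ : Cc →+* B)

/-- `g ↦ (φ g)(y^p)` -/
noncomputable def Phi2 : MvPolynomial (Fin m) Cc →+* MvPolynomial (Fin m) B :=
  ((expand p : MvPolynomial (Fin m) B →ₐ[B] MvPolynomial (Fin m) B) :
    MvPolynomial (Fin m) B →+* MvPolynomial (Fin m) B).comp (MvPolynomial.map φ)

/-- the subring `φ(Cc)[y^p]` -/
noncomputable def sub2 : Subring (MvPolynomial (Fin m) B) := (Phi2 p m φ).range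

theorem Phi2_apply (g : MvPolynomial (Fin m) Cc) :
    Phi2 p m φ g = expand p (MvPolynomial.map φ g) := rfl

theorem quo_smul (e : Fin m →₀ ℕ) : PSFamily.quo p m (p • e) = e := by
  ext i
  simp [PSFamily.quo, Nat.mul_div_cancel_left _ hp.out.pos]

theorem mem_sub2_iff (g : MvPolynomial (Fin m) B) :
    g ∈ sub2 p m φ ↔ ∀ d, coeff d g ∈ φ.range ∧ (coeff d g ≠ 0 → ∀ i, p ∣ d i) := by
  classical
  constructor
  · rintro ⟨g', rfl⟩ d
    rw [Phi2_apply]
    by_cases h : ∀ i, p ∣ d i
    · obtain ⟨e, rfl⟩ := PSFamily.exists_eq_smul p m d h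
      rw [coeff_expand_smul p hp.out.ne_zero, coeff_map]
      exact ⟨⟨_, rfl⟩, fun _ => h⟩
    · push Not at h
      obtain ⟨i, hi⟩ := h
      rw [coeff_expand_of_not_dvd _ hi]
      exact ⟨zero_mem _, fun h => absurd rfl h⟩
  · intro h
    have h1 : ∀ d, ∃ c : Cc, φ c = coeff d g := fun d => (h d).1
    choose c hc using h1
    refine ⟨∑ d ∈ g.support, monomial (PSFamily.quo p m d) (c d), ?_⟩
    rw [Phi2_apply, map_sum, map_sum]
    conv_rhs => rw [← support_sum_monomial_coeff g]
    refine Finset.sum_congr rfl fun d hd => ?_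
    rw [map_monomial, expand_monomial, hc]
    obtain ⟨e, rfl⟩ := PSFamily.exists_eq_smul p m d ((h d).2 (mem_support_iff.mp hd))
    rw [quo_smul]

theorem sub2_mono {C' : Type u} [CommRing C'] (φ' : C' →+* B) (h : φ.range ≤ φ'.range) :
    sub2 p m φ ≤ sub2 p m φ' := by
  intro g hg
  rw [mem_sub2_iff] at hg ⊢
  exact fun d => ⟨h (hg d).1, (hg d).2⟩

theorem Phi2_injective (hφ : Function.Injective φ) : Function.Injective (Phi2 p m φ) := by
  intro a b hab
  rw [Phi2_apply, Phi2_apply] at hab
  exact map_injective φ hφ (expand_injective hp.out.pos hab)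

variable [CharP B p]

theorem pow_mem_sub2 (hpow : ∀ b : B, b ^ p ∈ φ.range) (g : MvPolynomial (Fin m) B) :
    g ^ p ∈ sub2 p m φ := by
  rw [mem_sub2_iff]
  intro d
  have h1 : g ^ p = (g.expand p).map (frobenius B p) := (map_frobenius_expand p).symm
  rw [h1, coeff_map, frobenius_def]
  refine ⟨hpow _, fun hne i => ?_⟩
  by_contra hi
  rw [coeff_expand_of_not_dvd _ hi, zero_pow hp.out.ne_zero] at hne
  exact hne rfl

theorem fg_sub2 (hfg : ∃ t : Finset B, Subring.closure ((φ.range : Set B) ∪ t) = ⊤) :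
    ∃ t : Finset (MvPolynomial (Fin m) B),
      Subring.closure ((sub2 p m φ : Set (MvPolynomial (Fin m) B)) ∪ t) = ⊤ := by
  classical
  obtain ⟨t, ht⟩ := hfg
  refine ⟨Finset.univ.image (X : Fin m → MvPolynomial (Fin m) B) ∪ t.image C, ?_⟩
  rw [eq_top_iff]
  rintro a -
  set W := Subring.closure ((sub2 p m φ : Set (MvPolynomial (Fin m) B)) ∪
    ((Finset.univ.image (X : Fin m → MvPolynomial (Fin m) B) ∪ t.image C : Finset _) : Set _))
    with hWdef
  have hX : ∀ i, X i ∈ W := fun i => Subring.subset_closure (Or.inr (by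
    rw [Finset.mem_coe, Finset.mem_union]
    exact Or.inl (Finset.mem_image_of_mem _ (Finset.mem_univ i))))
  have hC : ∀ b : B, C b ∈ W := by
    intro b
    have hb : b ∈ Subring.closure ((φ.range : Set B) ∪ t) := by rw [ht]; trivial
    have hle : Subring.closure ((φ.range : Set B) ∪ t) ≤ W.comap (C : B →+* MvPolynomial (Fin m) B) := by
      rw [Subring.closure_le]
      rintro x (hx | hx)
      · apply Subring.subset_closure
        left
        rw [SetLike.mem_coe, mem_sub2_iff]
        intro d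
        rw [coeff_C]
        split_ifs with h0
        · subst h0
          exact ⟨hx, fun _ i => by simp⟩
        · exact ⟨zero_mem _, fun h => absurd rfl h⟩
      · apply Subring.subset_closure
        right
        rw [Finset.mem_coe, Finset.mem_union]
        exact Or.inr (Finset.mem_image_of_mem _ (Finset.mem_coe.mp hx))
    exact hle hb
  induction a using MvPolynomial.induction_on with
  | C b => exact hC b
  | add f g hf hg => exact add_mem hf hg
  | mul_X f i hf => exact mul_mem hf (hX i)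

theorem sat_sub2 [IsDomain B] [IsDomain (MvPolynomial (Fin m) Cc)]
    [IsIntegrallyClosed (MvPolynomial (Fin m) Cc)]
    (hφ : Function.Injective φ) (hpow : ∀ b : B, b ^ p ∈ φ.range)
    (u v b : MvPolynomial (Fin m) B) (hu : u ∈ sub2 p m φ) (hv : v ∈ sub2 p m φ) (hv0 : v ≠ 0)
    (h : v * b = u) : b ∈ sub2 p m φ :=
  mem_range_of_mul_eq (Phi2 p m φ) (Phi2_injective p m φ hφ) p hp.out.pos u v b hu hv hv0 h
    (pow_mem_sub2 p m φ hpow b)

theorem inf_sub2 {ι : Type*} [Nonempty ι] {Cf : ι → Type u} [∀ α, CommRing (Cf α)]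
    (φf : ∀ α, Cf α →+* B)
    (hinf : ∀ b : B, (∀ α, b ∈ (φf α).range) → ∃ c : B, c ^ p = b)
    (g : MvPolynomial (Fin m) B) (hg : ∀ α, g ∈ sub2 p m (φf α)) :
    ∃ c : MvPolynomial (Fin m) B, c ^ p = g := by
  classical
  have h1 : ∀ d : Fin m →₀ ℕ, ∃ r : B, r ^ p = coeff d g := fun d =>
    hinf _ fun α => (((mem_sub2_iff p m (φf α) g).mp (hg α)) d).1
  choose r hr using h1
  refine ⟨∑ d ∈ g.support, monomial (PSFamily.quo p m d) (r d), ?_⟩
  rw [← map_frobenius_expand p, map_sum, map_sum]
  conv_rhs => rw [← support_sum_monomial_coeff g]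
  refine Finset.sum_congr rfl fun d hd => ?_
  rw [expand_monomial, map_monomial, frobenius_def, hr]
  obtain ⟨α⟩ := ‹Nonempty ι›
  obtain ⟨e, rfl⟩ := PSFamily.exists_eq_smul p m d
    ((((mem_sub2_iff p m (φf α) g).mp (hg α)) d).2 (mem_support_iff.mp hd))
  rw [quo_smul]

/-- **Good families pass to polynomial rings.** -/
theorem isGood_sub2 [IsDomain B] {ι : Type*} [Nonempty ι] {Cf : ι → Type u}
    [∀ α, CommRing (Cf α)] (φf : ∀ α, Cf α →+* B) (hinj : ∀ α, Function.Injective (φf α))
    (hgood : GoodFamily.IsGood p (fun α => (φf α).range))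
    (hdom : ∀ α, IsDomain (MvPolynomial (Fin m) (Cf α)))
    (hic : ∀ α, IsIntegrallyClosed (MvPolynomial (Fin m) (Cf α))) :
    GoodFamily.IsGood p (fun α => sub2 p m (φf α)) where
  directed α β := by
    obtain ⟨γ, hγ⟩ := hgood.directed α β
    exact ⟨γ, le_inf (sub2_mono p m _ _ (hγ.trans inf_le_left))
      (sub2_mono p m _ _ (hγ.trans inf_le_right))⟩
  pow_mem α a := pow_mem_sub2 p m (φf α) (hgood.pow_mem α) a
  fg α := fg_sub2 p m (φf α) (hgood.fg α)
  sat α u v b hu hv hv0 h := by
    haveI := hdom α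
    haveI := hic α
    exact sat_sub2 p m (φf α) (hinj α) (hgood.pow_mem α) u v b hu hv hv0 h
  inf b hb := inf_sub2 p m φf (fun b hb => hgood.inf b hb) b hb

end Groth.Agent.Lib.Helper96.PolyFamily
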