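import Mathlib
import Groth.Agent.Lib.Helper96.GRingComplete
import Groth.Agent.Lib.Helper96.PolyFamily

/-!
# Generic formal fibres of `k[[x]][y]_P` in characteristic `p` (helper96; Stacks 07PP-type)
-/

set_option autoImplicit false
set_option linter.style.haveILetI false
set_option linter.unusedSectionVars false

universe u

namespace Groth.Agent.Lib.Helper96.GRingPoly

open IsLocalRing Groth.Agent.Lib.Helper96

/-- A regular domain is integrally closed. -/
theorem isIntegrallyClosed_of_isRegularRing (R : Type u) [CommRing R] [IsDomain R]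
    [IsRegularRing R] : IsIntegrallyClosed R :=
  IsIntegrallyClosed.of_localization_maximal fun P _ _ =>
    Groth.Agent.S9829.result (Localization.AtPrime P)

theorem isGeometricallyRegular_formalFibre_polynomial_powerSeries (p : ℕ) [Fact p.Prime]
    (k : Type u) [Field k] [CharP k p] (n m : ℕ)
    [IsDomain (MvPolynomial (Fin m) (MvPowerSeries (Fin n) k))]
    (P : Ideal (MvPolynomial (Fin m) (MvPowerSeries (Fin n) k))) [P.IsPrime] :
    CAlg.IsGeometricallyRegular (@Ideal.ResidueField (Localization.AtPrime P) _ ⊥ _)
      (EGA4.formalFibre (Localization.AtPrime P) (⊥ : Ideal (Localization.AtPrime P))) := by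
  classical
  obtain ⟨ι, hne, F, hdir, hpow, hfin, hinf⟩ := PFieldFamily.exists_family k p
  haveI := hne
  have hgood := PSFamily.isGood_sub p n F hdir hpow hfin hinf
  haveI : IsDomain (MvPowerSeries (Fin n) k) := NoZeroDivisors.to_isDomain _
  haveI : CharP (MvPowerSeries (Fin n) k) p :=
    charP_of_injective_algebraMap (algebraMap k (MvPowerSeries (Fin n) k)).injective p
  haveI : IsRegularRing (MvPowerSeries (Fin n) k) :=
    Groth.Agent.Lib.Helper33.isRegularRing_of_isRegularLocalRing _
  have hgood2 : GoodFamily.IsGood p (fun α => PolyFamily.sub2 p m (PSFamily.phi p n (F α))) := by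
    refine PolyFamily.isGood_sub2 p m (fun α => PSFamily.phi p n (F α))
      (fun α => PSFamily.phi_injective p n (F α)) hgood ?_ ?_
    · intro α
      haveI : IsDomain (MvPowerSeries (Fin n) (F α)) := NoZeroDivisors.to_isDomain _
      infer_instance
    · intro α
      haveI : IsDomain (MvPowerSeries (Fin n) (F α)) := NoZeroDivisors.to_isDomain _
      haveI : IsRegularRing (MvPowerSeries (Fin n) (F α)) :=
        Groth.Agent.Lib.Helper33.isRegularRing_of_isRegularLocalRing _
      exact isIntegrallyClosed_of_isRegularRing _
  haveI : CharP (MvPolynomial (Fin m) (MvPowerSeries (Fin n) k)) p :=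
    charP_of_injective_algebraMap (MvPolynomial.C_injective (Fin m) (MvPowerSeries (Fin n) k)) p
  exact GenericFibre.isGeometricallyRegular_formalFibre_bot_of_isGood p _ hgood2 P
    (IsRegularRing.isRegularLocalRing_localization P)

end Groth.Agent.Lib.Helper96.GRingPoly
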