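import Mathlib
import Groth.Agent.Lib.Helper96.PField

/-!
# Families of subfields with intersection the `p`-th powers, and algebraic extensions (helper96)

`PFam p K F` says that `F` is a directed family of subfields of the subfield `K ≤ L`, each containing
`K ^ p`, with `⋂ F α = K ^ p`. The main result is that this is inherited by simple algebraic
extensions `K(θ)`, with the family `F α (θ ^ p)` (the stabilisation argument of Stacks 07PC / EGA
`0_IV` 21.8).
-/

set_option autoImplicit false
set_option linter.style.haveILetI false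
set_option linter.unusedSectionVars false
set_option linter.dupNamespace false

universe u

namespace Groth.Agent.Lib.Helper96.PFam

open Polynomial

variable {L : Type u} [Field L] (p : ℕ) [hp : Fact p.Prime] [CharP L p]

/-- A directed family of subfields of `K` containing `K ^ p` with intersection `K ^ p`. -/
structure PFam {ι : Type*} (K : Subfield L) (F : ι → Subfield L) : Prop where
  le : ∀ α, F α ≤ K
  dir : ∀ α β, ∃ γ, F γ ≤ F α ⊓ F β
  pow : ∀ α, ∀ x ∈ K, x ^ p ∈ F α
  inf : ∀ x, (∀ α, x ∈ F α) → ∃ y ∈ K, y ^ p = x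

section Repr

variable (F : Subfield L) (ζ : L)

/-- Every element of `F(ζ)` is a polynomial in `ζ` of degree less than that of the minimal polynomial. -/
theorem exists_repr (hint : IsIntegral F ζ) (x : L)
    (hx : x ∈ Subfield.closure ((F : Set L) ∪ {ζ})) :
    ∃ c : ℕ → L, (∀ i, c i ∈ F) ∧
      x = ∑ i ∈ Finset.range (minpoly F ζ).natDegree, c i * ζ ^ i := by
  classical
  have hx' : x ∈ IntermediateField.adjoin F ({ζ} : Set L) := by
    rw [← IntermediateField.mem_toSubfield, IntermediateField.adjoin_toSubfield]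
    have : Set.range (algebraMap F L) = (F : Set L) := by
      ext y
      constructor
      · rintro ⟨z, rfl⟩; exact z.2
      · intro hy; exact ⟨⟨y, hy⟩, rfl⟩
    rw [this]
    exact hx
  have hx'' : x ∈ (IntermediateField.adjoin F ({ζ} : Set L)).toSubalgebra := hx'
  rw [IntermediateField.adjoin_simple_toSubalgebra_of_isAlgebraic hint.isAlgebraic,
    Algebra.adjoin_singleton_eq_range_aeval] at hx''
  obtain ⟨q, rfl⟩ := hx''
  set g : F[X] := minpoly F ζ with hg
  have hgm : g.Monic := minpoly.monic hint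
  have hgs : aeval ζ g = 0 := minpoly.aeval F ζ
  have hq : aeval ζ q = aeval ζ (q %ₘ g) := by
    conv_lhs => rw [← modByMonic_add_div q g]
    rw [map_add, map_mul, hgs, zero_mul, add_zero]
  have hdeg : (q %ₘ g).natDegree < g.natDegree ∨ q %ₘ g = 0 := by
    by_cases h0 : q %ₘ g = 0
    · exact Or.inr h0
    · left
      exact natDegree_modByMonic_lt q hgm (minpoly.ne_one F ζ)
  refine ⟨fun i => ((q %ₘ g).coeff i : L), fun i => ((q %ₘ g).coeff i).2, ?_⟩
  change aeval ζ q = _
  rw [hq]
  rcases hdeg with hdeg | h0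
  · rw [aeval_eq_sum_range' hdeg]
    refine Finset.sum_congr rfl fun i _ => ?_
    rw [Algebra.smul_def]
    rfl
  · rw [h0]
    simp

/-- The powers `ζ ^ i`, `i < deg (minpoly F ζ)`, are linearly independent over `F`. -/
theorem eq_zero_of_sum_eq_zero (c : ℕ → L) (hc : ∀ i, c i ∈ F)
    (h : ∑ i ∈ Finset.range (minpoly F ζ).natDegree, c i * ζ ^ i = 0) :
    ∀ i ∈ Finset.range (minpoly F ζ).natDegree, c i = 0 := by
  classical
  set s := (minpoly F ζ).natDegree with hs
  set q : F[X] := ∑ i ∈ Finset.range s, C (⟨c i, hc i⟩ : F) * X ^ i with hq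
  have hq0 : aeval ζ q = 0 := by
    rw [hq, map_sum, ← h]
    refine Finset.sum_congr rfl fun i _ => ?_
    rw [map_mul, map_pow, aeval_X, aeval_C]
    rfl
  have hqz : q = 0 := by
    by_contra hne
    have h1 := minpoly.degree_le_of_ne_zero F ζ hne hq0
    have h2 : q.degree < (s : WithBot ℕ) := by
      rw [degree_lt_iff_coeff_zero]
      intro m hm
      rw [hq, finsetSum_coeff]
      refine Finset.sum_eq_zero fun i hi => ?_
      rw [coeff_C_mul, coeff_X_pow, if_neg, mul_zero]
      have := Finset.mem_range.mp hi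
      omega
    have h3 : (s : WithBot ℕ) ≤ (minpoly F ζ).degree := by
      rw [hs]
      by_cases h0 : minpoly F ζ = 0
      · exfalso
        apply hne
        have hs0 : s = 0 := by rw [hs, h0, natDegree_zero]
        rw [hq, hs0, Finset.range_zero, Finset.sum_empty]
      · rw [degree_eq_natDegree h0]
    exact absurd ((h3.trans h1).trans_lt h2) (lt_irrefl _)
  intro i hi
  have h3 : q.coeff i = 0 := by rw [hqz, coeff_zero]
  rw [hq, finsetSum_coeff] at h3
  simp only [coeff_C_mul, coeff_X_pow] at h3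
  rw [Finset.sum_eq_single i] at h3
  · simp only [if_true, mul_one] at h3
    have := congrArg (fun z : F => (z : L)) h3
    simpa using this
  · intro j _ hji
    rw [if_neg (Ne.symm hji), mul_zero]
  · intro hi'
    exact absurd hi hi'

end Repr

/-- Integrality over a subfield passes to larger subfields. -/
theorem isIntegral_of_le {K K' : Subfield L} (h : K ≤ K') {θ : L} (hθ : IsIntegral K θ) :
    IsIntegral K' θ := by
  obtain ⟨P, hP, hPθ⟩ := hθ
  refine ⟨P.map (Subfield.inclusion h), hP.map _, ?_⟩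
  rw [eval₂_map]
  exact hPθ

/-- Degrees of minimal polynomials grow when the base subfield shrinks. -/
theorem natDegree_minpoly_le_of_le {F F' : Subfield L} (h : F ≤ F') {ζ : L} (hζ : IsIntegral F ζ) :
    (minpoly F' ζ).natDegree ≤ (minpoly F ζ).natDegree := by
  have hmon : ((minpoly F ζ).map (Subfield.inclusion h)).Monic := (minpoly.monic hζ).map _
  have hev : aeval ζ ((minpoly F ζ).map (Subfield.inclusion h)) = 0 := by
    rw [aeval_def, eval₂_map]
    exact minpoly.aeval F ζ
  have h1 := natDegree_le_natDegree (minpoly.min F' ζ hmon hev)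
  exact h1.trans natDegree_map_le

section Adjoin

variable {ι : Type*} {K : Subfield L} {F : ι → Subfield L}

/-- The Frobenius-twisted map `K → F α`, `x ↦ x ^ p`. -/
noncomputable def frobTo (h : PFam p K F) (α : ι) : K →+* F α :=
  RingHom.codRestrict ((frobenius L p).comp K.subtype) (F α) (fun x => h.pow α x x.2)

theorem frobTo_comp (h : PFam p K F) (α : ι) :
    (algebraMap (F α) L).comp (frobTo p h α) = (frobenius L p).comp (algebraMap K L) := by
  ext x; rfl

theorem natDegree_minpoly_pow_le (h : PFam p K F) (α : ι) {θ : L} (hθ : IsIntegral K θ) :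
    IsIntegral (F α) (θ ^ p) ∧
      (minpoly (F α) (θ ^ p)).natDegree ≤ (minpoly K θ).natDegree := by
  have hmon : ((minpoly K θ).map (frobTo p h α)).Monic := (minpoly.monic hθ).map _
  have hev : aeval (θ ^ p) ((minpoly K θ).map (frobTo p h α)) = 0 := by
    rw [aeval_def, eval₂_map, frobTo_comp, ← frobenius_def, ← Polynomial.hom_eval₂]
    have : eval₂ (algebraMap K L) θ (minpoly K θ) = 0 := minpoly.aeval K θ
    rw [this, map_zero]
  exact ⟨⟨_, hmon, hev⟩,
    (natDegree_le_natDegree (minpoly.min (F α) _ hmon hev)).trans natDegree_map_le⟩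

/-- **Simple algebraic extensions**: `⋂ F α (θ ^ p) = K(θ) ^ p`. -/
theorem PFam.adjoin [Nonempty ι] (h : PFam p K F) (θ : L) (hθ : IsIntegral K θ) :
    PFam p (Subfield.closure ((K : Set L) ∪ {θ}))
      (fun α => Subfield.closure ((F α : Set L) ∪ {θ ^ p})) := by
  classical
  set K' := Subfield.closure ((K : Set L) ∪ {θ}) with hK'
  have hθK' : θ ∈ K' := Subfield.subset_closure (Or.inr rfl)
  have hKK' : K ≤ K' := fun x hx => Subfield.subset_closure (Or.inl hx)
  refine ⟨?_, ?_, ?_, ?_⟩
  · intro α
    rw [Subfield.closure_le]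
    rintro y (hy | hy)
    · exact hKK' (h.le α hy)
    · rw [Set.mem_singleton_iff.mp hy]; exact pow_mem hθK' p
  · intro α β
    obtain ⟨γ, hγ⟩ := h.dir α β
    refine ⟨γ, le_inf ?_ ?_⟩
    · exact Subfield.closure_mono (Set.union_subset_union_left _ (hγ.trans inf_le_left))
    · exact Subfield.closure_mono (Set.union_subset_union_left _ (hγ.trans inf_le_right))
  · intro α x hx
    have hle : K' ≤ (Subfield.closure ((F α : Set L) ∪ {θ ^ p})).comap (frobenius L p) := by
      rw [hK', Subfield.closure_le]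
      rintro y (hy | hy)
      · exact Subfield.subset_closure (Or.inl (h.pow α y hy))
      · rw [Set.mem_singleton_iff.mp hy]; exact Subfield.subset_closure (Or.inr rfl)
    exact hle hx
  · intro x hx
    set ζ := θ ^ p with hζ
    have hint : ∀ α, IsIntegral (F α) ζ := fun α => (natDegree_minpoly_pow_le p h α hθ).1
    let s : ι → ℕ := fun α => (minpoly (F α) ζ).natDegree
    have hbdd : BddAbove (Set.range s) := ⟨(minpoly K θ).natDegree, by
      rintro _ ⟨α, rfl⟩; exact (natDegree_minpoly_pow_le p h α hθ).2⟩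
    obtain ⟨α₀, hα₀⟩ : ∃ α₀, s α₀ = sSup (Set.range s) :=
      Nat.sSup_mem (Set.range_nonempty s) hbdd
    have hmax : ∀ β, s β ≤ s α₀ := fun β => hα₀ ▸ le_csSup hbdd ⟨β, rfl⟩
    have heq : ∀ β, F β ≤ F α₀ → s β = s α₀ := fun β hβ =>
      le_antisymm (hmax β) (natDegree_minpoly_le_of_le hβ (hint β))
    obtain ⟨c, hc, hxc⟩ := exists_repr (F α₀) ζ (hint α₀) x (hx α₀)
    have hcmem : ∀ i ∈ Finset.range (s α₀), ∀ α, c i ∈ F α := by
      intro i hi α
      obtain ⟨γ, hγ⟩ := h.dir α α₀
      obtain ⟨c', hc', hxc'⟩ := exists_repr (F γ) ζ (hint γ) x (hx γ)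
      have hsγ : (minpoly (F γ) ζ).natDegree = s α₀ := heq γ (hγ.trans inf_le_right)
      rw [hsγ] at hxc'
      have hdiff : ∑ j ∈ Finset.range (s α₀), (c j - c' j) * ζ ^ j = 0 := by
        simp only [sub_mul, Finset.sum_sub_distrib]
        rw [← hxc, ← hxc', sub_self]
      have := eq_zero_of_sum_eq_zero (F α₀) ζ (fun j => c j - c' j)
        (fun j => sub_mem (hc j) ((hγ.trans inf_le_right) (hc' j))) hdiff i hi
      rw [sub_eq_zero.mp this]
      exact (hγ.trans inf_le_left) (hc' i)
    have hroot : ∀ i, ∃ e ∈ K, i ∈ Finset.range (s α₀) → e ^ p = c i := by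
      intro i
      by_cases hi : i ∈ Finset.range (s α₀)
      · obtain ⟨e, heK, he⟩ := h.inf (c i) (hcmem i hi)
        exact ⟨e, heK, fun _ => he⟩
      · exact ⟨0, zero_mem _, fun hi' => absurd hi' hi⟩
    choose e heK he using hroot
    refine ⟨∑ i ∈ Finset.range (s α₀), e i * θ ^ i, ?_, ?_⟩
    · exact sum_mem fun i _ => mul_mem (hKK' (heK i)) (pow_mem hθK' i)
    · rw [sum_pow_char, hxc]
      refine Finset.sum_congr rfl fun i hi => ?_
      rw [mul_pow, he i hi, hζ, ← pow_mul, ← pow_mul, mul_comm i p]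

/-- **Finitely generated algebraic extensions.** -/
theorem PFam.adjoin_list [Nonempty ι] (t : List L) :
    ∀ {K : Subfield L} {F : ι → Subfield L}, PFam p K F → (∀ θ ∈ t, IsIntegral K θ) →
      ∃ (K₂ : Subfield L) (F₂ : ι → Subfield L), PFam p K₂ F₂ ∧ K ≤ K₂ ∧ (∀ θ ∈ t, θ ∈ K₂) ∧
        ∀ α, F α ≤ F₂ α := by
  induction t with
  | nil =>
    intro K F h _
    exact ⟨K, F, h, le_rfl, fun θ hθ => absurd hθ (List.not_mem_nil), fun α => le_rfl⟩
  | cons θ l ih =>
    intro K F h hint
    have h1 := h.adjoin p θ (hint θ List.mem_cons_self)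
    have hKK' : K ≤ Subfield.closure ((K : Set L) ∪ {θ}) :=
      fun x hx => Subfield.subset_closure (Or.inl hx)
    obtain ⟨K₂, F₂, h2, hle, hmem, hF⟩ := ih h1
      (fun θ' hθ' => isIntegral_of_le hKK' (hint θ' (List.mem_cons_of_mem _ hθ')))
    refine ⟨K₂, F₂, h2, hKK'.trans hle, ?_, ?_⟩
    · intro θ' hθ'
      rcases List.mem_cons.mp hθ' with rfl | hθ'
      · exact hle (Subfield.subset_closure (Or.inr rfl))
      · exact hmem θ' hθ'
    · intro α
      exact le_trans (fun x hx => Subfield.subset_closure (Or.inl hx)) (hF α)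

end Adjoin

end Groth.Agent.Lib.Helper96.PFam
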