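import Mathlib
import Groth.Agent.Lib.Helper96.PFam
import Groth.Agent.Lib.Helper96.GRingPoly

/-!
# Derivations separating non-`p`-th powers on finitely generated domains (helper96)

Stacks 07PD/07PE-type statement: for a domain `B` of characteristic `p`, finitely generated over a
power series ring `k[[x]]`, and `f ∈ B` not a `p`-th power in `Frac B`, some derivation of `B` does
not kill `f`.
-/

set_option autoImplicit false
set_option linter.style.haveILetI false
set_option linter.unusedSectionVars false

universe u

namespace Groth.Agent.Lib.Helper96.DerivFT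

open Groth.Agent.Lib.Helper96 Groth.Agent.Lib.Helper96.PFam

/-- A derivation of the fraction field killing a set over which the ring is finitely generated is
bounded: a nonzero multiple of it preserves the ring. -/
theorem exists_derivation_of_vanishing {B : Type u} [CommRing B] [IsDomain B] {L : Type u}
    [Field L] [Algebra B L] [IsFractionRing B L] (D : Derivation ℤ L L) (S : Set B)
    (hS : ∀ b ∈ S, D (algebraMap B L b) = 0) (T : Finset B)
    (hST : Subring.closure (S ∪ (T : Set B)) = ⊤) :
    ∃ (g : B) (_ : g ≠ 0) (DB : Derivation ℤ B B),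
      ∀ b : B, algebraMap B L (DB b) = algebraMap B L g * D (algebraMap B L b) := by
  classical
  obtain ⟨⟨g, hg⟩, hgt⟩ := IsLocalization.exist_integer_multiples_of_finset (nonZeroDivisors B)
    (T.image fun s => D (algebraMap B L s))
  have hg0 : g ≠ 0 := nonZeroDivisors.ne_zero hg
  let W : Subring B :=
    { carrier := {a | ∃ r : B, algebraMap B L r = algebraMap B L g * D (algebraMap B L a)}
      mul_mem' := by
        rintro a b ⟨ra, hra⟩ ⟨rb, hrb⟩
        refine ⟨a * rb + b * ra, ?_⟩
        rw [map_add, map_mul, map_mul, hra, hrb, map_mul, Derivation.leibniz, smul_eq_mul,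
          smul_eq_mul]
        ring
      one_mem' := ⟨0, by rw [map_one, Derivation.map_one_eq_zero, mul_zero, map_zero]⟩
      add_mem' := by
        rintro a b ⟨ra, hra⟩ ⟨rb, hrb⟩
        refine ⟨ra + rb, ?_⟩
        rw [map_add, hra, hrb, map_add, map_add, mul_add]
      zero_mem' := ⟨0, by rw [map_zero, map_zero, mul_zero]⟩
      neg_mem' := by
        rintro a ⟨ra, hra⟩
        refine ⟨-ra, ?_⟩
        rw [map_neg, hra, map_neg, map_neg, mul_neg] }
  have hW : W = ⊤ := by
    rw [eq_top_iff, ← hST, Subring.closure_le]
    rintro a (ha | ha)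
    · refine ⟨0, ?_⟩
      simp [hS a ha]
    · obtain ⟨r, hr⟩ := hgt (D (algebraMap B L a)) (Finset.mem_image_of_mem _ (Finset.mem_coe.mp ha))
      refine ⟨r, ?_⟩
      rw [hr, Algebra.smul_def]
  have hall : ∀ a : B, ∃ r : B, algebraMap B L r = algebraMap B L g * D (algebraMap B L a) := by
    intro a
    have : a ∈ W := by rw [hW]; exact Subring.mem_top a
    exact this
  choose r hr using hall
  have hinj := IsFractionRing.injective B L
  have hadd : ∀ x y, r (x + y) = r x + r y := by
    intro x y
    apply hinj
    rw [map_add, hr, hr, hr, map_add, map_add, mul_add]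
  have hzero : r 0 = 0 := by
    apply hinj
    rw [hr]
    simp
  have hmul : ∀ x y, r (x * y) = x • r y + y • r x := by
    intro x y
    apply hinj
    rw [smul_eq_mul, smul_eq_mul, map_add, map_mul, map_mul, hr, hr, hr, map_mul,
      Derivation.leibniz, smul_eq_mul, smul_eq_mul]
    ring
  let f : B →+ B := { toFun := r, map_zero' := hzero, map_add' := hadd }
  exact ⟨g, hg0, Derivation.mk' f.toIntLinearMap fun a b => hmul a b, fun a => hr a⟩

/-- **Abstract form.** A domain `B` generated over a subring `A` carrying a good family by finitely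
many elements algebraic over `A`: non-`p`-th powers are detected by derivations of `B`. -/
theorem exists_derivation_ne_zero_of_isGood {A : Type u} [CommRing A] [IsDomain A] (p : ℕ)
    [hp : Fact p.Prime] [CharP A p] {ι : Type*} [Nonempty ι] (sub : ι → Subring A)
    (hgood : GoodFamily.IsGood p sub) {B : Type u} [CommRing B] [IsDomain B] [Algebra A B]
    (hinj : Function.Injective (algebraMap A B)) (t : Finset B)
    (ht : Subring.closure (Set.range (algebraMap A B) ∪ (t : Set B)) = ⊤)
    (halg : ∀ b ∈ t, IsAlgebraic A b) (f : B)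
    (hf : ∀ x : FractionRing B, x ^ p ≠ algebraMap B (FractionRing B) f) :
    ∃ D : Derivation ℤ B B, D f ≠ 0 := by
  classical
  haveI : CharP B p := charP_of_injective_algebraMap hinj p
  haveI : CharP (FractionRing B) p :=
    charP_of_injective_algebraMap (IsFractionRing.injective B (FractionRing B)) p
  haveI : CharP (FractionRing A) p :=
    charP_of_injective_algebraMap (IsFractionRing.injective A (FractionRing A)) p
  have hinjAL : Function.Injective ((algebraMap B (FractionRing B)).comp (algebraMap A B)) :=
    (IsFractionRing.injective B (FractionRing B)).comp hinj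
  let ιK : FractionRing A →+* FractionRing B := IsFractionRing.lift hinjAL
  have hιK : ∀ a : A, ιK (algebraMap A (FractionRing A) a) =
      algebraMap B (FractionRing B) (algebraMap A B a) := fun a =>
    IsFractionRing.lift_algebraMap hinjAL a
  set K' : Subfield (FractionRing B) := ιK.fieldRange with hK'
  set F' : ι → Subfield (FractionRing B) :=
    fun α => (GoodFamily.Kα sub (FractionRing A) α).map ιK with hF'
  have hPF : PFam p K' F' := by
    refine ⟨?_, ?_, ?_, ?_⟩
    · rintro α x ⟨y, _, rfl⟩
      exact RingHom.mem_fieldRange.mpr ⟨y, rfl⟩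
    · intro α β
      obtain ⟨γ, hγ⟩ := GoodFamily.Kα_directed (K := FractionRing A) p hgood α β
      refine ⟨γ, ?_⟩
      rintro x ⟨y, hy, rfl⟩
      exact ⟨⟨y, (hγ hy).1, rfl⟩, ⟨y, (hγ hy).2, rfl⟩⟩
    · intro α x hx
      obtain ⟨y, rfl⟩ := RingHom.mem_fieldRange.mp hx
      exact ⟨y ^ p, GoodFamily.pow_mem_Kα p hgood α y, map_pow _ _ _⟩
    · intro x hx
      obtain ⟨α₁⟩ := ‹Nonempty ι›
      obtain ⟨y, hy, rfl⟩ := hx α₁
      have hall : ∀ α, y ∈ GoodFamily.Kα sub (FractionRing A) α := by
        intro α
        obtain ⟨y', hy', he⟩ := hx α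
        rw [← ιK.injective he]
        exact hy'
      obtain ⟨z, hz⟩ := GoodFamily.exists_pow_eq_of_mem_iInf p hgood y
        (Subfield.mem_iInf.mpr hall)
      exact ⟨ιK z, RingHom.mem_fieldRange.mpr ⟨z, rfl⟩, by rw [← map_pow, hz]⟩
  -- the generators are integral over `K'`
  let ψ : A →+* K' := (ιK.rangeRestrictField).comp (algebraMap A (FractionRing A))
  have hψ : Function.Injective ψ := by
    intro a b hab
    apply IsFractionRing.injective A (FractionRing A)
    apply ιK.injective
    exact congrArg Subtype.val hab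
  have hψcomp : (algebraMap K' (FractionRing B)).comp ψ =
      (algebraMap B (FractionRing B)).comp (algebraMap A B) := by
    ext a
    exact hιK a
  have hint : ∀ θ ∈ t.toList.map (algebraMap B (FractionRing B)), IsIntegral K' θ := by
    intro θ hθ
    obtain ⟨b, hb, rfl⟩ := List.mem_map.mp hθ
    have hb' : b ∈ t := Finset.mem_toList.mp hb
    exact ((halg b hb').ringHom_of_comp_eq ψ (algebraMap B (FractionRing B)) hψ hψcomp).isIntegral
  obtain ⟨K₂, F₂, h2, hle, hmem, hF⟩ := PFam.adjoin_list p _ hPF hint
  -- `K₂` is everything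
  have hB : ∀ b : B, algebraMap B (FractionRing B) b ∈ K₂ := by
    intro b
    have hb : b ∈ Subring.closure (Set.range (algebraMap A B) ∪ (t : Set B)) := by
      rw [ht]; exact Subring.mem_top b
    have hcl : Subring.closure (Set.range (algebraMap A B) ∪ (t : Set B)) ≤
        K₂.toSubring.comap (algebraMap B (FractionRing B)) := by
      rw [Subring.closure_le]
      rintro b' (⟨a, rfl⟩ | hb')
      · change algebraMap B (FractionRing B) (algebraMap A B a) ∈ K₂
        rw [← hιK]
        exact hle (RingHom.mem_fieldRange.mpr ⟨_, rfl⟩)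
      · exact hmem _ (List.mem_map.mpr ⟨b', Finset.mem_toList.mpr (Finset.mem_coe.mp hb'), rfl⟩)
    exact hcl hb
  have htop : ∀ x : FractionRing B, x ∈ K₂ := by
    intro x
    obtain ⟨a, b, _, rfl⟩ := IsFractionRing.div_surjective (A := B) x
    exact div_mem (hB a) (hB b)
  -- pick the index
  obtain ⟨α, hα⟩ : ∃ α, algebraMap B (FractionRing B) f ∉ F₂ α := by
    by_contra hcon
    push Not at hcon
    obtain ⟨y, -, hy⟩ := h2.inf _ hcon
    exact hf y hy
  obtain ⟨D, hDE, hDf⟩ := PField.exists_derivation_ne_zero p (F₂ α)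
    (fun x => h2.pow α x (htop x)) _ hα
  obtain ⟨tA, htA⟩ := hgood.fg α
  set S : Set B := algebraMap A B '' (sub α : Set A) with hS
  have hSD : ∀ b ∈ S, D (algebraMap B (FractionRing B) b) = 0 := by
    rintro _ ⟨a, ha, rfl⟩
    apply hDE
    apply hF α
    rw [← hιK]
    exact ⟨_, GoodFamily.algebraMap_mem_Kα sub α a ha, rfl⟩
  have hST : Subring.closure (S ∪ ((tA.image (algebraMap A B) ∪ t : Finset B) : Set B)) = ⊤ := by
    rw [eq_top_iff, ← ht, Subring.closure_le]
    rintro b (⟨a, rfl⟩ | hb)
    · have ha : a ∈ Subring.closure ((sub α : Set A) ∪ (tA : Set A)) := by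
        rw [htA]; exact Subring.mem_top a
      have hcl : Subring.closure ((sub α : Set A) ∪ (tA : Set A)) ≤
          (Subring.closure (S ∪ ((tA.image (algebraMap A B) ∪ t : Finset B) : Set B))).comap
            (algebraMap A B) := by
        rw [Subring.closure_le]
        rintro a' (ha' | ha')
        · exact Subring.subset_closure (Or.inl ⟨a', ha', rfl⟩)
        · refine Subring.subset_closure (Or.inr ?_)
          exact Finset.mem_coe.mpr (Finset.mem_union_left _
            (Finset.mem_image_of_mem _ (Finset.mem_coe.mp ha')))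
      exact hcl ha
    · exact Subring.subset_closure (Or.inr (Finset.mem_coe.mpr
        (Finset.mem_union_right _ (Finset.mem_coe.mp hb))))
  obtain ⟨g, hg0, DB, hDB⟩ := exists_derivation_of_vanishing D S hSD _ hST
  refine ⟨DB, fun h0 => ?_⟩
  have h1 := hDB f
  rw [h0, map_zero] at h1
  rcases mul_eq_zero.mp h1.symm with h | h
  · exact hg0 ((map_eq_zero_iff _ (IsFractionRing.injective B (FractionRing B))).mp h)
  · exact hDf h

/-- The good family on `k[[x_1, …, x_n]][y_1, …, y_m]`. -/
theorem exists_isGood_polynomial_powerSeries (p : ℕ) [Fact p.Prime]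
    (k : Type u) [Field k] [CharP k p] (n m : ℕ) :
    ∃ (ι : Type u) (_ : Nonempty ι)
      (sub : ι → Subring (MvPolynomial (Fin m) (MvPowerSeries (Fin n) k))),
      GoodFamily.IsGood p sub := by
  classical
  obtain ⟨ι, hne, F, hdir, hpow, hfin, hinf⟩ := PFieldFamily.exists_family k p
  haveI := hne
  have hgood := PSFamily.isGood_sub p n F hdir hpow hfin hinf
  haveI : IsDomain (MvPowerSeries (Fin n) k) := NoZeroDivisors.to_isDomain _
  haveI : CharP (MvPowerSeries (Fin n) k) p :=
    charP_of_injective_algebraMap (algebraMap k (MvPowerSeries (Fin n) k)).injective p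
  haveI : IsRegularRing (MvPowerSeries (Fin n) k) :=
    Groth.Agent.Lib.Helper33.isRegularRing_of_isRegularLocalRing _
  have hgood2 : GoodFamily.IsGood p (fun α => PolyFamily.sub2 p m (PSFamily.phi p n (F α))) := by
    refine PolyFamily.isGood_sub2 p m (fun α => PSFamily.phi p n (F α))
      (fun α => PSFamily.phi_injective p n (F α)) hgood ?_ ?_
    · intro α
      haveI : IsDomain (MvPowerSeries (Fin n) (F α)) := NoZeroDivisors.to_isDomain _
      infer_instance
    · intro α
      haveI : IsDomain (MvPowerSeries (Fin n) (F α)) := NoZeroDivisors.to_isDomain _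
      haveI : IsRegularRing (MvPowerSeries (Fin n) (F α)) :=
        Groth.Agent.Lib.Helper33.isRegularRing_of_isRegularLocalRing _
      exact GRingPoly.isIntegrallyClosed_of_isRegularRing _
  exact ⟨ι, hne, _, hgood2⟩

/-- **Finitely generated domains over `k[[x]]`**: non-`p`-th powers are detected by derivations. -/
theorem exists_derivation_ne_zero_of_finiteType_powerSeries (p : ℕ) [Fact p.Prime]
    (k : Type u) [Field k] [CharP k p] (n : ℕ) {B : Type u} [CommRing B] [IsDomain B]
    [Algebra (MvPowerSeries (Fin n) k) B] [Algebra.FiniteType (MvPowerSeries (Fin n) k) B]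
    (hinj : Function.Injective (algebraMap (MvPowerSeries (Fin n) k) B)) (f : B)
    (hf : ∀ x : FractionRing B, x ^ p ≠ algebraMap B (FractionRing B) f) :
    ∃ D : Derivation ℤ B B, D f ≠ 0 := by
  classical
  haveI : IsDomain (MvPowerSeries (Fin n) k) := NoZeroDivisors.to_isDomain _
  haveI : CharP (MvPowerSeries (Fin n) k) p :=
    charP_of_injective_algebraMap (algebraMap k (MvPowerSeries (Fin n) k)).injective p
  obtain ⟨s, hs⟩ := (Algebra.FiniteType.out : (⊤ : Subalgebra (MvPowerSeries (Fin n) k) B).FG)
  haveI : FaithfulSMul (MvPowerSeries (Fin n) k) B :=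
    (faithfulSMul_iff_algebraMap_injective _ B).mpr hinj
  have hmem : ∀ b : B, b ∈ Algebra.adjoin (MvPowerSeries (Fin n) k) (s : Set B) := fun b => by
    rw [hs]; exact Algebra.mem_top
  haveI : Algebra.IsAlgebraic (Algebra.adjoin (MvPowerSeries (Fin n) k) (s : Set B)) B :=
    ⟨fun b => isAlgebraic_algebraMap
      (⟨b, hmem b⟩ : Algebra.adjoin (MvPowerSeries (Fin n) k) (s : Set B))⟩
  obtain ⟨u, hus, hu⟩ := exists_isTranscendenceBasis_subset (R := MvPowerSeries (Fin n) k)
    (s : Set B)
  have hufin : u.Finite := s.finite_toSet.subset hus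
  haveI : Fintype u := hufin.fintype
  let e : Fin (Fintype.card u) ≃ u := (Fintype.equivFin u).symm
  let x : Fin (Fintype.card u) → B := fun i => (e i : B)
  have hx : AlgebraicIndependent (MvPowerSeries (Fin n) k) x := hu.1.comp e e.injective
  let j : MvPolynomial (Fin (Fintype.card u)) (MvPowerSeries (Fin n) k) →ₐ[MvPowerSeries (Fin n) k]
      B := MvPolynomial.aeval x
  have hj : Function.Injective j := hx
  have hjrange : Algebra.adjoin (MvPowerSeries (Fin n) k) (Set.range ((↑) : u → B)) = j.range := by
    have h1 : Set.range ((↑) : u → B) = Set.range x := by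
      ext b
      constructor
      · rintro ⟨y, rfl⟩
        exact ⟨e.symm y, by simp [x]⟩
      · rintro ⟨i, rfl⟩
        exact ⟨e i, rfl⟩
    rw [h1]
    exact Algebra.adjoin_range_eq_range_aeval _ x
  have halg0 := hu.isAlgebraic
  rw [hjrange] at halg0
  letI : Algebra (MvPolynomial (Fin (Fintype.card u)) (MvPowerSeries (Fin n) k)) B :=
    j.toRingHom.toAlgebra
  obtain ⟨ι, hne, sub, hgood⟩ :=
    exists_isGood_polynomial_powerSeries p k n (Fintype.card u)
  haveI := hne
  haveI : CharP (MvPolynomial (Fin (Fintype.card u)) (MvPowerSeries (Fin n) k)) p :=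
    charP_of_injective_algebraMap
      (MvPolynomial.C_injective (Fin (Fintype.card u)) (MvPowerSeries (Fin n) k)) p
  refine exists_derivation_ne_zero_of_isGood p sub hgood hj s ?_ ?_ f hf
  · rw [eq_top_iff]
    intro b hbtop
    clear hbtop
    have hb := hmem b
    induction hb using Algebra.adjoin_induction with
    | mem y hy => exact Subring.subset_closure (Or.inr hy)
    | algebraMap r =>
      refine Subring.subset_closure (Or.inl ⟨MvPolynomial.C r, ?_⟩)
      change j (MvPolynomial.C r) = _
      simp [j]
    | add y z _ _ hy hz => exact add_mem hy hz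
    | mul y z _ _ hy hz => exact mul_mem hy hz
  · intro b _
    have hb : IsAlgebraic j.range ((RingHom.id B) b) := halg0.isAlgebraic b
    refine hb.of_ringHom_of_comp_eq (j.rangeRestrict : _ →+* j.range) (RingHom.id B)
      j.rangeRestrict_surjective Function.injective_id ?_
    ext a <;> rfl

end Groth.Agent.Lib.Helper96.DerivFT
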