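import Mathlib
import Groth.Prelude.Def_W4c61motalbdualityCompl

/-!
# Sections of constrained finite inverse systems in `FICompl` (helper96)
-/

open W4c61motalbduality CategoryTheory

universe u v w

namespace Groth.Agent.Lib.Helper96.FIComplExact

variable {A : Type u} [AddCommGroup A] [TopologicalSpace A]

/-- `OpenFI A` with the reverse inclusion order (finer subgroups are bigger). -/
def J (A : Type u) [AddCommGroup A] [TopologicalSpace A] : Type u := OpenFI A

instance : Preorder (J A) where
  le V V' := V'.toAddSubgroup ≤ V.toAddSubgroup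
  le_refl V := le_refl V.toAddSubgroup
  le_trans V V' V'' h h' := le_trans h' h

theorem J_le_iff (V V' : J A) : V ≤ V' ↔ V'.toAddSubgroup ≤ V.toAddSubgroup := Iff.rfl

/-- Intersection of two open finite-index subgroups. -/
def inf [IsTopologicalAddGroup A] (V V' : OpenFI A) : OpenFI A where
  toAddSubgroup := V.toAddSubgroup ⊓ V'.toAddSubgroup
  isOpen' := V.isOpen'.inter V'.isOpen'
  finiteIndex' := by
    haveI := V.finiteIndex'
    haveI := V'.finiteIndex'
    infer_instance

instance [IsTopologicalAddGroup A] : IsDirectedOrder (J A) where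
  directed V V' := ⟨inf V V',
    (inf_le_left : V.toAddSubgroup ⊓ V'.toAddSubgroup ≤ V.toAddSubgroup),
    (inf_le_right : V.toAddSubgroup ⊓ V'.toAddSubgroup ≤ V'.toAddSubgroup)⟩

instance (U : OpenFI A) : Finite (A ⧸ U.toAddSubgroup) := by
  haveI := U.finiteIndex'
  exact AddSubgroup.finite_quotient_of_finiteIndex

/-- A compatible family of nonempty constraint sets admits a point of the completion. -/
theorem exists_mem_of_constraints [IsTopologicalAddGroup A]
    (T : ∀ U : OpenFI A, Set (A ⧸ U.toAddSubgroup)) (hne : ∀ U, (T U).Nonempty)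
    (hcompat : ∀ (U V : OpenFI A) (h : U.toAddSubgroup ≤ V.toAddSubgroup) (x : A ⧸ U.toAddSubgroup),
      x ∈ T U → QuotientAddGroup.map U.toAddSubgroup V.toAddSubgroup (AddMonoidHom.id A) h x ∈ T V) :
    ∃ a : FICompl A, ∀ U, a.1 U ∈ T U := by
  let F : (J A)ᵒᵖ ⥤ Type u :=
    { obj := fun j => ↥(T (Opposite.unop j))
      map := fun {j j'} f => TypeCat.ofHom (fun x : ↥(T (Opposite.unop j)) =>
        (⟨QuotientAddGroup.map (Opposite.unop j).toAddSubgroup (Opposite.unop j').toAddSubgroup
          (AddMonoidHom.id A) (leOfHom f.unop) x.1,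
          hcompat _ _ (leOfHom f.unop) x.1 x.2⟩ : ↥(T (Opposite.unop j'))))
      map_id := by
        intro j
        ext x
        obtain ⟨a, ha⟩ := QuotientAddGroup.mk_surjective x.1
        show QuotientAddGroup.map _ _ (AddMonoidHom.id A) _ x.1 = x.1
        rw [← ha]
        rfl
      map_comp := by
        intro j j' j'' f g
        ext x
        obtain ⟨a, ha⟩ := QuotientAddGroup.mk_surjective x.1
        show QuotientAddGroup.map _ _ (AddMonoidHom.id A) _ x.1 =
          QuotientAddGroup.map _ _ (AddMonoidHom.id A) _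
            (QuotientAddGroup.map _ _ (AddMonoidHom.id A) _ x.1)
        rw [← ha]
        rfl }
  haveI : ∀ j : (J A)ᵒᵖ, Finite (F.obj j) := fun j =>
    inferInstanceAs (Finite ↥(T (Opposite.unop j)))
  haveI : ∀ j : (J A)ᵒᵖ, Nonempty (F.obj j) := fun j => (hne (Opposite.unop j)).to_subtype
  obtain ⟨s, hs⟩ := nonempty_sections_of_finite_inverse_system F
  refine ⟨⟨fun U => (s (Opposite.op U)).1, ?_⟩, fun U => (s (Opposite.op U)).2⟩
  intro U V h
  have := hs (j := Opposite.op (U : J A)) (j' := Opposite.op (V : J A)) (homOfLE h).op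
  exact congrArg Subtype.val this

section Exact

variable {B : Type v} {C : Type w}
  [IsTopologicalAddGroup A]
  [AddCommGroup B] [TopologicalSpace B] [IsTopologicalAddGroup B]
  [AddCommGroup C] [TopologicalSpace C] [IsTopologicalAddGroup C]

/-- Image of an open finite-index subgroup under an open surjective homomorphism. -/
def imageFI (p : B →+ C) (hpo : IsOpenMap p) (hps : Function.Surjective p) (V : OpenFI B) : OpenFI C where
  toAddSubgroup := V.toAddSubgroup.map p
  isOpen' := by
    have := hpo _ V.isOpen'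
    simpa using this
  finiteIndex' := by
    haveI := V.finiteIndex'
    refine ⟨?_⟩
    intro h0
    have hdvd := AddSubgroup.index_map_dvd V.toAddSubgroup hps
    rw [h0, zero_dvd_iff] at hdvd
    exact AddSubgroup.FiniteIndex.index_ne_zero hdvd

/-- Finite intersections of open finite-index subgroups. -/
def finInf {ι : Type*} [Finite ι] (V : ι → OpenFI B) : OpenFI B where
  toAddSubgroup := ⨅ i, (V i).toAddSubgroup
  isOpen' := by
    have : ((⨅ i, (V i).toAddSubgroup : AddSubgroup B) : Set B) = ⋂ i, ((V i).toAddSubgroup : Set B) := by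
      simp
    rw [this]
    exact isOpen_iInter_of_finite fun i => (V i).isOpen'
  finiteIndex' := AddSubgroup.finiteIndex_iInf fun i => (V i).finiteIndex'

theorem map_surjective (p : B →+ C) (hp : Continuous p) (hpo : IsOpenMap p)
    (hps : Function.Surjective p) : Function.Surjective (FICompl.map p hp) := by
  intro z
  have key := exists_mem_of_constraints (A := B)
    (fun V => {β : B ⧸ V.toAddSubgroup | QuotientAddGroup.map V.toAddSubgroup
      (imageFI p hpo hps V).toAddSubgroup p (AddSubgroup.le_comap_map p _) β =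
        z.1 (imageFI p hpo hps V)}) ?_ ?_
  · obtain ⟨y, hy⟩ := key
    refine ⟨y, ?_⟩
    apply Subtype.ext
    funext W
    have h1 := hy (W.comap p hp)
    obtain ⟨b, hb⟩ := QuotientAddGroup.mk_surjective (y.1 (W.comap p hp))
    have hle : (imageFI p hpo hps (W.comap p hp)).toAddSubgroup ≤ W.toAddSubgroup := by
      show (W.toAddSubgroup.comap p).map p ≤ W.toAddSubgroup
      exact AddSubgroup.map_comap_le p _
    have h2 := z.2 (imageFI p hpo hps (W.comap p hp)) W hle
    simp only [Set.mem_setOf_eq] at h1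
    rw [← h1, ← hb] at h2
    show QuotientAddGroup.map _ _ p _ (y.1 (W.comap p hp)) = z.1 W
    rw [← h2, ← hb]
    rfl
  · intro V
    obtain ⟨c, hc⟩ := QuotientAddGroup.mk_surjective (z.1 (imageFI p hpo hps V))
    obtain ⟨b, rfl⟩ := hps c
    exact ⟨QuotientAddGroup.mk b, by
      simp only [Set.mem_setOf_eq]
      rw [← hc]; rfl⟩
  · intro V' V h β' hβ'
    simp only [Set.mem_setOf_eq] at hβ' ⊢
    obtain ⟨b', rfl⟩ := QuotientAddGroup.mk_surjective β'
    have hle : (imageFI p hpo hps V').toAddSubgroup ≤ (imageFI p hpo hps V).toAddSubgroup :=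
      AddSubgroup.map_mono h
    have h2 := z.2 (imageFI p hpo hps V') (imageFI p hpo hps V) hle
    rw [← h2, ← hβ']
    rfl

theorem map_comp_eq_zero (i : A →+ B) (hi : Continuous i) (p : B →+ C) (hp : Continuous p)
    (hex : p.ker = i.range) (a : FICompl A) : FICompl.map p hp (FICompl.map i hi a) = 0 := by
  apply Subtype.ext
  funext W
  obtain ⟨α, hα⟩ := QuotientAddGroup.mk_surjective (a.1 ((W.comap p hp).comap i hi))
  show QuotientAddGroup.map _ _ p _ (QuotientAddGroup.map _ _ i _ (a.1 ((W.comap p hp).comap i hi))) = 0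
  rw [← hα]
  have : p (i α) = 0 := by
    have : i α ∈ p.ker := by rw [hex]; exact ⟨α, rfl⟩
    exact this
  show (QuotientAddGroup.mk (p (i α)) : C ⧸ W.toAddSubgroup) = 0
  rw [this]; rfl

theorem exists_sub_mem (i : A →+ B) (p : B →+ C) (hp : Continuous p)
    (hpo : IsOpenMap p) (hps : Function.Surjective p) (hex : p.ker = i.range)
    (y : FICompl B) (hy : FICompl.map p hp y = 0) (V : OpenFI B) (b : B)
    (hb : (QuotientAddGroup.mk b : B ⧸ V.toAddSubgroup) = y.1 V) :
    ∃ α : A, b - i α ∈ V.toAddSubgroup := by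
  set W := imageFI p hpo hps V with hW
  have h0 : (FICompl.map p hp y).1 W = 0 := by rw [hy]; rfl
  have hle : V.toAddSubgroup ≤ (W.comap p hp).toAddSubgroup := AddSubgroup.le_comap_map p _
  have h2 := y.2 V (W.comap p hp) hle
  rw [← hb] at h2
  have h3 : (QuotientAddGroup.mk (p b) : C ⧸ W.toAddSubgroup) = 0 := by
    rw [← h0]
    show _ = QuotientAddGroup.map _ _ p _ (y.1 (W.comap p hp))
    rw [← h2]
    rfl
  rw [QuotientAddGroup.eq_zero_iff] at h3
  obtain ⟨v, hv, hpv⟩ := h3
  have hker : b - v ∈ p.ker := by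
    rw [AddMonoidHom.mem_ker, map_sub, hpv, sub_self]
  rw [hex] at hker
  obtain ⟨α, hα⟩ := hker
  refine ⟨α, ?_⟩
  rw [hα]
  simpa using hv

theorem ker_le_range (i : A →+ B) (hi : Continuous i) (p : B →+ C) (hp : Continuous p)
    (hpo : IsOpenMap p) (hps : Function.Surjective p) (hex : p.ker = i.range)
    (y : FICompl B) (hy : FICompl.map p hp y = 0) : ∃ a : FICompl A, FICompl.map i hi a = y := by
  classical
  have key := exists_mem_of_constraints (A := A)
    (fun U => {ā : A ⧸ U.toAddSubgroup | ∀ (V : OpenFI B)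
      (h : U.toAddSubgroup ≤ V.toAddSubgroup.comap i),
        QuotientAddGroup.map U.toAddSubgroup V.toAddSubgroup i h ā = y.1 V}) ?_ ?_
  · obtain ⟨a, ha⟩ := key
    refine ⟨a, ?_⟩
    apply Subtype.ext
    funext V
    exact ha (V.comap i hi) V le_rfl
  · intro U
    by_contra hempty
    rw [Set.not_nonempty_iff_eq_empty, Set.eq_empty_iff_forall_notMem] at hempty
    simp only [Set.mem_setOf_eq, not_forall] at hempty
    choose Vf hf hne using hempty
    -- intersect all the `Vf ā`
    set V' : OpenFI B := finInf Vf with hV'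
    have hV'le : ∀ ā, V'.toAddSubgroup ≤ (Vf ā).toAddSubgroup := fun ā => iInf_le _ ā
    have hU : U.toAddSubgroup ≤ V'.toAddSubgroup.comap i := by
      intro u hu
      show i u ∈ ⨅ ā, (Vf ā).toAddSubgroup
      rw [AddSubgroup.mem_iInf]
      intro ā
      exact hf ā hu
    obtain ⟨b, hb⟩ := QuotientAddGroup.mk_surjective (y.1 V')
    obtain ⟨α, hα⟩ := exists_sub_mem i p hp hpo hps hex y hy V' b hb
    -- the class of α lies in every S_V for V = Vf ā, contradiction at ā = mk α
    apply hne (QuotientAddGroup.mk α)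
    have h2 := y.2 V' (Vf (QuotientAddGroup.mk α)) (hV'le _)
    rw [← h2, ← hb]
    show (QuotientAddGroup.mk (i α) : B ⧸ (Vf (QuotientAddGroup.mk α)).toAddSubgroup) =
      QuotientAddGroup.mk b
    rw [QuotientAddGroup.eq]
    have : -(i α) + b = b - i α := by abel
    rw [this]
    exact hV'le _ hα
  · intro U' U h ā' hā' V hV
    simp only [Set.mem_setOf_eq] at hā'
    obtain ⟨α, rfl⟩ := QuotientAddGroup.mk_surjective ā'
    have := hā' V (le_trans h hV)
    rw [← this]
    rfl

end Exact

end Groth.Agent.Lib.Helper96.FIComplExact
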