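import Mathlib
import Groth.Prelude.Def_Found
import Groth.Prelude.Def_EGA4b
import Groth.Prelude.Def_CAlgX
import Groth.Agent.Lib.Helper96.ExtChain
import Groth.Agent.Lib.Helper96.GeomRegular
import Groth.Agent.Lib.Helper96.RegularHom

/-!
# From geometric regularity of the generic formal fibre to formal smoothness of `Ĉ_q` (helper96)

For a Noetherian local domain `C` with geometrically regular generic formal fibre, and a prime `q`
of `Ĉ` lying over `0`, the local ring `Ĉ_q` is formally smooth over any copy `L` of the fraction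
field of `C` acting compatibly.
-/

set_option autoImplicit false
set_option linter.style.haveILetI false
set_option linter.unusedSectionVars false

universe u

namespace Groth.Agent.Lib.Helper96.FibreTransport

open TensorProduct IsLocalRing Groth.Agent.Lib.Helper96

/-- Transport of adic formal smoothness along compatible ring isomorphisms of base and algebra. -/
theorem isAdicFormallySmooth_of_ringEquiv {R S R' S' : Type u} [CommRing R] [CommRing S]
    [CommRing R'] [CommRing S'] [Algebra R S] [Algebra R' S'] (eR : R ≃+* R') (eS : S ≃+* S')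
    (h : ∀ r, eS (algebraMap R S r) = algebraMap R' S' (eR r)) (𝔫 : Ideal S) (𝔫' : Ideal S')
    (h𝔫 : 𝔫.map eS ≤ 𝔫') (hfs : CAlgX.IsAdicFormallySmooth R S 𝔫) :
    CAlgX.IsAdicFormallySmooth R' S' 𝔫' := by
  intro A' _ _ J hJ ψ' ⟨k, hk⟩
  letI : Algebra R A' := ((algebraMap R' A').comp (eR : R →+* R')).toAlgebra
  have halg : ∀ r : R, algebraMap R A' r = algebraMap R' A' (eR r) := fun r => rfl
  have halgQ : ∀ r : R, algebraMap R (A' ⧸ J) r = algebraMap R' (A' ⧸ J) (eR r) := fun r => rfl
  let ψ : S →ₐ[R] A' ⧸ J :=
    { (ψ'.toRingHom.comp (eS : S →+* S')) with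
      commutes' := fun r => by
        change ψ' (eS (algebraMap R S r)) = _
        rw [h, ψ'.commutes, halgQ] }
  have hψ : ∀ s, ψ s = ψ' (eS s) := fun s => rfl
  obtain ⟨χ, hχ⟩ := hfs A' J hJ ψ ⟨k, fun x hx => by
    rw [hψ]
    apply hk
    have h2 := Ideal.mem_map_of_mem eS hx
    rw [Ideal.map_pow] at h2
    exact Ideal.pow_right_mono h𝔫 k h2⟩
  have hχ' : ∀ s, Ideal.Quotient.mk J (χ s) = ψ' (eS s) := fun s => by
    have h3 : ((Ideal.Quotient.mkₐ R J).comp χ) s = ψ s := by rw [hχ]
    exact h3
  let χ' : S' →ₐ[R'] A' :=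
    { (χ.toRingHom.comp (eS.symm : S' →+* S)) with
      commutes' := fun r' => by
        change χ (eS.symm (algebraMap R' S' r')) = _
        have h1 : algebraMap R' S' r' = eS (algebraMap R S (eR.symm r')) := by
          rw [h, RingEquiv.apply_symm_apply]
        rw [h1, RingEquiv.symm_apply_apply, χ.commutes, halg, RingEquiv.apply_symm_apply] }
  refine ⟨χ', AlgHom.ext fun s' => ?_⟩
  change Ideal.Quotient.mk J (χ (eS.symm s')) = ψ' s'
  rw [hχ', RingEquiv.apply_symm_apply]

section Main

attribute [local instance] Algebra.TensorProduct.rightAlgebra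

variable (C : Type u) [CommRing C] [IsDomain C] [IsLocalRing C] [IsNoetherianRing C]

/-- **Transport lemma.** -/
theorem isAdicFormallySmooth_localization_adicCompletion
    (hgeom : CAlg.IsGeometricallyRegular (⊥ : Ideal C).ResidueField
      (EGA4.formalFibre C (⊥ : Ideal C)))
    (q : Ideal (AdicCompletion (maximalIdeal C) C)) [q.IsPrime]
    (hq : q.comap (algebraMap C (AdicCompletion (maximalIdeal C) C)) = ⊥)
    (L : Type u) [Field L] [Algebra L (Localization.AtPrime q)]
    (eR : (⊥ : Ideal C).ResidueField ≃+* L)
    (hcompat : ∀ c : C, algebraMap L (Localization.AtPrime q)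
        (eR (algebraMap C (⊥ : Ideal C).ResidueField c)) =
      algebraMap (AdicCompletion (maximalIdeal C) C) (Localization.AtPrime q)
        (algebraMap C (AdicCompletion (maximalIdeal C) C) c)) :
    CAlgX.IsAdicFormallySmooth L (Localization.AtPrime q)
      (maximalIdeal (Localization.AtPrime q)) := by
  classical
  haveI := ExtChain.isFractionRing_residueField_bot C
  haveI : IsNoetherianRing (AdicCompletion (maximalIdeal C) C) :=
    Groth.Agent.Lib.Helper83.isNoetherianRing_adicCompletion _
  haveI hNT : IsNoetherianRing ((⊥ : Ideal C).Fiber (AdicCompletion (maximalIdeal C) C)) :=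
    isNoetherianRing_fiber C _ ⊥
  haveI hlocT : IsLocalization (Algebra.algebraMapSubmonoid (AdicCompletion (maximalIdeal C) C)
      (nonZeroDivisors C)) ((⊥ : Ideal C).Fiber (AdicCompletion (maximalIdeal C) C)) :=
    IsLocalization.tensorRight (R := C) (S := AdicCompletion (maximalIdeal C) C)
      (⊥ : Ideal C).ResidueField (nonZeroDivisors C)
  have hdisj : Disjoint ((Algebra.algebraMapSubmonoid (AdicCompletion (maximalIdeal C) C)
      (nonZeroDivisors C) : Submonoid _) : Set (AdicCompletion (maximalIdeal C) C)) (q : Set _) := by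
    rw [Set.disjoint_left]
    rintro _ ⟨c, hc, rfl⟩ hcq
    have : c ∈ q.comap (algebraMap C (AdicCompletion (maximalIdeal C) C)) := hcq
    rw [hq, Ideal.mem_bot] at this
    exact nonZeroDivisors.ne_zero hc this
  set 𝔮 : Ideal ((⊥ : Ideal C).Fiber (AdicCompletion (maximalIdeal C) C)) :=
    q.map (algebraMap (AdicCompletion (maximalIdeal C) C)
      ((⊥ : Ideal C).Fiber (AdicCompletion (maximalIdeal C) C))) with h𝔮
  haveI h𝔮prime : 𝔮.IsPrime :=
    IsLocalization.isPrime_of_isPrime_disjoint _ _ q inferInstance hdisj
  have hcomap : 𝔮.comap (algebraMap (AdicCompletion (maximalIdeal C) C)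
      ((⊥ : Ideal C).Fiber (AdicCompletion (maximalIdeal C) C))) = q :=
    IsLocalization.under_map_of_isPrime_disjoint _ _ inferInstance hdisj
  have key : ∀ (q' : Ideal (AdicCompletion (maximalIdeal C) C)) (hq' : q'.IsPrime), q' = q →
      @IsLocalization.AtPrime _ _ (Localization.AtPrime 𝔮) _ _ q' hq' →
        IsLocalization.AtPrime (Localization.AtPrime 𝔮) q := by
    rintro q' hq' rfl h
    exact h
  haveI hloc2 : IsLocalization.AtPrime (Localization.AtPrime 𝔮) q :=
    key _ _ hcomap (IsLocalization.isLocalization_isLocalization_atPrime_isLocalization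
      (Algebra.algebraMapSubmonoid (AdicCompletion (maximalIdeal C) C) (nonZeroDivisors C))
      (Localization.AtPrime 𝔮) 𝔮)
  let eS : Localization.AtPrime 𝔮 ≃ₐ[AdicCompletion (maximalIdeal C) C] Localization.AtPrime q :=
    IsLocalization.algEquiv q.primeCompl _ _
  have hfs : CAlgX.IsAdicFormallySmooth (⊥ : Ideal C).ResidueField (Localization.AtPrime 𝔮)
      (maximalIdeal (Localization.AtPrime 𝔮)) :=
    (isGeometricallyRegular_iff_forall_adicFormallySmooth (k := (⊥ : Ideal C).ResidueField)
      (A := (⊥ : Ideal C).Fiber (AdicCompletion (maximalIdeal C) C))).mp hgeom 𝔮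
  refine isAdicFormallySmooth_of_ringEquiv eR eS.toRingEquiv ?_ _ _ ?_ hfs
  · -- compatibility on the fraction field
    have hhom : (eS.toRingEquiv : Localization.AtPrime 𝔮 →+* Localization.AtPrime q).comp
        (algebraMap (⊥ : Ideal C).ResidueField (Localization.AtPrime 𝔮)) =
        (algebraMap L (Localization.AtPrime q)).comp (eR : (⊥ : Ideal C).ResidueField →+* L) := by
      apply IsLocalization.ringHom_ext (nonZeroDivisors C)
      ext c
      simp only [RingHom.comp_apply]
      change eS (algebraMap (⊥ : Ideal C).ResidueField (Localization.AtPrime 𝔮)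
        (algebraMap C (⊥ : Ideal C).ResidueField c)) = algebraMap L (Localization.AtPrime q)
          (eR (algebraMap C (⊥ : Ideal C).ResidueField c))
      rw [hcompat c]
      have h1 : algebraMap (⊥ : Ideal C).ResidueField (Localization.AtPrime 𝔮)
          (algebraMap C (⊥ : Ideal C).ResidueField c) =
          algebraMap (AdicCompletion (maximalIdeal C) C) (Localization.AtPrime 𝔮)
            (algebraMap C (AdicCompletion (maximalIdeal C) C) c) := by
        rw [IsScalarTower.algebraMap_apply (⊥ : Ideal C).ResidueField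
          ((⊥ : Ideal C).Fiber (AdicCompletion (maximalIdeal C) C)) (Localization.AtPrime 𝔮),
          IsScalarTower.algebraMap_apply (AdicCompletion (maximalIdeal C) C)
          ((⊥ : Ideal C).Fiber (AdicCompletion (maximalIdeal C) C)) (Localization.AtPrime 𝔮)]
        congr 1
        rw [Algebra.TensorProduct.algebraMap_apply, Algebra.algebraMap_self_apply,
          Algebra.TensorProduct.right_algebraMap_apply, Algebra.algebraMap_eq_smul_one,
          Algebra.algebraMap_eq_smul_one (A := AdicCompletion (maximalIdeal C) C), smul_tmul]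
      rw [h1, eS.commutes]
    intro x
    exact congrArg (fun f : (⊥ : Ideal C).ResidueField →+* Localization.AtPrime q => f x) hhom
  · rw [Ideal.map_le_iff_le_comap]
    intro y hy
    rw [Ideal.mem_comap, IsLocalRing.mem_maximalIdeal, mem_nonunits_iff]
    rw [IsLocalRing.mem_maximalIdeal, mem_nonunits_iff] at hy
    intro hu
    apply hy
    have h5 : IsUnit (eS.symm (eS y)) := hu.map eS.symm
    rwa [AlgEquiv.symm_apply_apply] at h5

end Main

end Groth.Agent.Lib.Helper96.FibreTransport
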