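import Mathlib
import Groth.Agent.S0558
import Groth.Agent.Lib.Helper96.FibreTransport
import Groth.Agent.Lib.Helper96.GenericFibre
import Groth.Agent.Lib.Helper96.FiniteCompletion3

/-!
# Formal smoothness of `Ĉ_q` over `Frac B` for `B` finite over a regular local ring of
characteristic zero (helper96; EGA 0_IV 22.7-type)
-/

set_option autoImplicit false
set_option linter.style.haveILetI false
set_option linter.unusedSectionVars false

universe u

namespace Groth.Agent.Lib.Helper96.FibreFiniteCharZero

open IsLocalRing Groth.Agent.Lib.Helper96

/-- Generic formal fibres of `B_n` for `B` a finite domain over a Noetherian domain `A` whose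
localizations have geometrically regular generic formal fibres. -/
theorem isGeometricallyRegular_formalFibre_bot_of_finite {A B : Type u} [CommRing A] [IsDomain A]
    [IsNoetherianRing A] [CommRing B] [IsDomain B] [Algebra A B] [Module.Finite A B]
    (hinj : Function.Injective (algebraMap A B))
    (hA : ∀ (p : Ideal A) [p.IsPrime],
      CAlg.IsGeometricallyRegular (⊥ : Ideal (Localization.AtPrime p)).ResidueField
        (EGA4.formalFibre (Localization.AtPrime p) (⊥ : Ideal (Localization.AtPrime p))))
    (n : Ideal B) [n.IsPrime] :
    CAlg.IsGeometricallyRegular (⊥ : Ideal (Localization.AtPrime n)).ResidueField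
      (EGA4.formalFibre (Localization.AtPrime n) (⊥ : Ideal (Localization.AtPrime n))) := by
  refine isGeometricallyRegular_formalFibre_of_finite A B
    (n.comap (algebraMap A B)) n rfl (Localization.AtPrime n) ⊥ ⊥ ?_ (hA _)
  rw [Ideal.comap_bot_of_injective _ (IsLocalization.injective _
      (n.comap (algebraMap A B)).primeCompl_le_nonZeroDivisors),
    Ideal.comap_bot_of_injective _ (IsLocalization.injective _ n.primeCompl_le_nonZeroDivisors),
    Ideal.comap_bot_of_injective _ hinj]

theorem isAdicFormallySmooth_of_finite_over_regular_charZero
    {A B : Type u} [CommRing A] [IsRegularLocalRing A] [CharZero A] [CommRing B] [IsDomain B]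
    [Algebra A B] [Module.Finite A B] (hinj : Function.Injective (algebraMap A B)) (n : Ideal B)
    [n.IsPrime]
    (q : Ideal (AdicCompletion (maximalIdeal (Localization.AtPrime n)) (Localization.AtPrime n)))
    [q.IsPrime]
    (hq : q.comap (algebraMap (Localization.AtPrime n)
      (AdicCompletion (maximalIdeal (Localization.AtPrime n)) (Localization.AtPrime n))) = ⊥)
    [algLq : Algebra (FractionRing B) (Localization.AtPrime q)]
    [tow2 : IsScalarTower B (FractionRing B) (Localization.AtPrime q)] :
    CAlgX.IsAdicFormallySmooth (FractionRing B) (Localization.AtPrime q)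
      (maximalIdeal (Localization.AtPrime q)) := by
  classical
  haveI : IsDomain A := Groth.Agent.S0558.result A
  haveI : IsNoetherianRing B := IsNoetherianRing.of_finite A B
  haveI : IsNoetherianRing (Localization.AtPrime n) :=
    IsLocalization.isNoetherianRing n.primeCompl _ inferInstance
  haveI : IsRegularRing A := Groth.Agent.Lib.Helper33.isRegularRing_of_isRegularLocalRing A
  have hgen := isGeometricallyRegular_formalFibre_bot_of_finite (A := A) (B := B) hinj
    (fun p _ => GenericFibre.isGeometricallyRegular_formalFibre_bot_of_charZero p
      (IsRegularRing.isRegularLocalRing_localization p)) n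
  haveI hfrac : IsFractionRing B (⊥ : Ideal (Localization.AtPrime n)).ResidueField :=
    ExtChain.isFractionRing_residueField_bot_atPrime B n
  let eR : (⊥ : Ideal (Localization.AtPrime n)).ResidueField ≃ₐ[B] FractionRing B :=
    (FractionRing.algEquiv B (⊥ : Ideal (Localization.AtPrime n)).ResidueField).symm
  refine FibreTransport.isAdicFormallySmooth_localization_adicCompletion (Localization.AtPrime n)
    hgen q hq (FractionRing B) eR.toRingEquiv ?_
  have hhom : ((algebraMap (FractionRing B) (Localization.AtPrime q)).comp
      (eR.toRingEquiv : (⊥ : Ideal (Localization.AtPrime n)).ResidueField →+* FractionRing B)).comp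
        (algebraMap (Localization.AtPrime n) (⊥ : Ideal (Localization.AtPrime n)).ResidueField) =
      (algebraMap (AdicCompletion (maximalIdeal (Localization.AtPrime n)) (Localization.AtPrime n))
        (Localization.AtPrime q)).comp (algebraMap (Localization.AtPrime n)
          (AdicCompletion (maximalIdeal (Localization.AtPrime n)) (Localization.AtPrime n))) := by
    apply IsLocalization.ringHom_ext n.primeCompl
    ext b
    simp only [RingHom.comp_apply]
    change algebraMap (FractionRing B) (Localization.AtPrime q)
      (eR (algebraMap (Localization.AtPrime n) (⊥ : Ideal (Localization.AtPrime n)).ResidueField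
        (algebraMap B (Localization.AtPrime n) b))) = _
    rw [← IsScalarTower.algebraMap_apply B (Localization.AtPrime n)
      (⊥ : Ideal (Localization.AtPrime n)).ResidueField, eR.commutes,
      ← IsScalarTower.algebraMap_apply B (FractionRing B) (Localization.AtPrime q),
      ← IsScalarTower.algebraMap_apply B (Localization.AtPrime n)
        (AdicCompletion (maximalIdeal (Localization.AtPrime n)) (Localization.AtPrime n)),
      ← IsScalarTower.algebraMap_apply B
        (AdicCompletion (maximalIdeal (Localization.AtPrime n)) (Localization.AtPrime n))
        (Localization.AtPrime q)]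
  intro c
  exact congrArg (fun f : Localization.AtPrime n →+* Localization.AtPrime q => f c) hhom

end Groth.Agent.Lib.Helper96.FibreFiniteCharZero
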