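import Mathlib

/-!
# Finite domain models of finite residue field extensions (helper96)

For a prime `p` of `A` and a finite extension `k'` of `κ(p)`, there is a finite `A`-subalgebra
`B ⊆ k'` whose fraction field is `k'`.
-/

set_option autoImplicit false

universe u

namespace Groth.Agent.Lib.Helper96

open TensorProduct

theorem exists_finite_subalgebra_isFractionRing (A : Type u) [CommRing A] (p : Ideal A) [p.IsPrime]
    (k' : Type u) [Field k'] [Algebra A k'] [Algebra p.ResidueField k']
    [IsScalarTower A p.ResidueField k'] [Module.Finite p.ResidueField k'] :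
    ∃ B : Subalgebra A k', Module.Finite A B ∧ IsFractionRing B k' := by
  classical
  letI : Algebra (A ⧸ p) k' :=
    ((algebraMap p.ResidueField k').comp (algebraMap (A ⧸ p) p.ResidueField)).toAlgebra
  haveI : IsScalarTower (A ⧸ p) p.ResidueField k' := IsScalarTower.of_algebraMap_eq (fun x => rfl)
  haveI : IsScalarTower A (A ⧸ p) k' := IsScalarTower.of_algebraMap_eq (fun x => by
    rw [RingHom.algebraMap_toAlgebra, RingHom.comp_apply,
      ← IsScalarTower.algebraMap_apply A (A ⧸ p) p.ResidueField,
      ← IsScalarTower.algebraMap_apply A p.ResidueField k'])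
  obtain ⟨s, b, hb⟩ := FiniteDimensional.exists_is_basis_integral (A ⧸ p) p.ResidueField k'
  haveI : Algebra.IsIntegral A (A ⧸ p) :=
    Algebra.isIntegral_of_surjective Ideal.Quotient.mk_surjective
  have hb' : ∀ x, IsIntegral A (b x) := fun x => isIntegral_trans _ (hb x)
  refine ⟨Algebra.adjoin A (Set.range b),
    Algebra.finite_adjoin_of_finite_of_isIntegral (Set.finite_range b)
      (by rintro _ ⟨x, rfl⟩; exact hb' x), ?_⟩
  apply IsFractionRing.of_field
  intro z
  obtain ⟨d, hd⟩ := IsLocalization.exist_integer_multiples (nonZeroDivisors (A ⧸ p))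
    (Finset.univ : Finset s) (fun i => b.repr z i)
  choose r hr using fun i => hd i (Finset.mem_univ i)
  choose a ha using fun i => Ideal.Quotient.mk_surjective (r i)
  obtain ⟨d', hd'⟩ := Ideal.Quotient.mk_surjective (d : A ⧸ p)
  have hinj : Function.Injective (algebraMap (A ⧸ p) k') := by
    rw [IsScalarTower.algebraMap_eq (A ⧸ p) p.ResidueField k']
    exact (algebraMap p.ResidueField k').injective.comp (IsFractionRing.injective _ _)
  have hdne : algebraMap A k' d' ≠ 0 := by
    rw [IsScalarTower.algebraMap_apply A (A ⧸ p) k', Ideal.Quotient.algebraMap_eq, hd']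
    intro h0
    have := hinj (h0.trans (map_zero _).symm)
    exact nonZeroDivisors.coe_ne_zero d this
  refine ⟨∑ i, a i • (⟨b i, Algebra.subset_adjoin ⟨i, rfl⟩⟩ : Algebra.adjoin A (Set.range b)),
    algebraMap A _ d', ?_⟩
  rw [← IsScalarTower.algebraMap_apply A (Algebra.adjoin A (Set.range b)) k', eq_div_iff hdne,
    map_sum]
  have hz : z = ∑ i, b.repr z i • b i := (b.sum_repr z).symm
  have hterm : ∀ i, algebraMap (Algebra.adjoin A (Set.range b)) k'
      (a i • (⟨b i, Algebra.subset_adjoin ⟨i, rfl⟩⟩ : Algebra.adjoin A (Set.range b))) =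
      algebraMap A k' d' * (b.repr z i • b i) := by
    intro i
    have h1 : algebraMap (Algebra.adjoin A (Set.range b)) k'
        (a i • (⟨b i, Algebra.subset_adjoin ⟨i, rfl⟩⟩ : Algebra.adjoin A (Set.range b))) =
        algebraMap A k' (a i) * b i := by
      rw [Algebra.smul_def, map_mul, ← IsScalarTower.algebraMap_apply A _ k']
      rfl
    rw [h1, IsScalarTower.algebraMap_apply A (A ⧸ p) k' (a i), Ideal.Quotient.algebraMap_eq, ha i,
      IsScalarTower.algebraMap_apply (A ⧸ p) p.ResidueField k', hr i,
      IsScalarTower.algebraMap_apply A (A ⧸ p) k' d', Ideal.Quotient.algebraMap_eq, hd',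
      IsScalarTower.algebraMap_apply (A ⧸ p) p.ResidueField k', Algebra.smul_def, map_mul,
      Algebra.smul_def (b.repr z i)]
    ring
  rw [Finset.sum_congr rfl (fun i _ => hterm i), ← Finset.mul_sum, ← hz, mul_comm]

end Groth.Agent.Lib.Helper96
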