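import Mathlib

/-!
# Finite parts of schemes over a local ring (helper96)

`mem_finitePart_of_map`: if `WX ⊆ X` is an open with `WX → Spec R` universally closed (e.g. finite),
`WY ⊆ Y` an open containing the closed fibre, and `g : X ⟶ Y` over `Spec R`, then `g` maps `WX` into `WY`.
-/

open CategoryTheory CategoryTheory.Limits AlgebraicGeometry

universe u

namespace Groth.Agent.Lib.Helper96.FinitePart

/-- A point of a scheme universally closed over a local ring specializes to a point of the closed fibre. -/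
theorem exists_specializes_closedFibre {R : Type u} [CommRing R] [IsLocalRing R]
    {W : Scheme.{u}} (φ : W ⟶ Spec (CommRingCat.of R)) [UniversallyClosed φ] (w : W) :
    ∃ z : W, w ⤳ z ∧ φ.base z = IsLocalRing.closedPoint R := by
  have hcl : IsClosed (φ.base '' closure {w}) := φ.isClosedMap _ isClosed_closure
  have hmem : φ.base w ∈ φ.base '' closure {w} := ⟨w, subset_closure rfl, rfl⟩
  have h2 : IsLocalRing.closedPoint R ∈ φ.base '' closure {w} :=
    (IsLocalRing.specializes_closedPoint (R := R) (φ.base w)).mem_closed hcl hmem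
  obtain ⟨z, hz, hzc⟩ := h2
  exact ⟨z, specializes_iff_mem_closure.mpr hz, hzc⟩

theorem mem_finitePart_of_map {R : Type u} [CommRing R] [IsLocalRing R]
    {X Y : Scheme.{u}} (f : X ⟶ Spec (CommRingCat.of R)) (f' : Y ⟶ Spec (CommRingCat.of R))
    (WX : X.Opens) [UniversallyClosed (WX.ι ≫ f)]
    (WY : Y.Opens) (hWY : ∀ y : ↥Y, f'.base y = IsLocalRing.closedPoint R → y ∈ WY)
    (g : X ⟶ Y) (hg : g ≫ f' = f) (x : X) (hx : x ∈ WX) :
    g.base x ∈ WY := by
  obtain ⟨z, hz, hzc⟩ := exists_specializes_closedFibre (WX.ι ≫ f) (⟨x, hx⟩ : WX)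
  have h1 : (WX.ι ≫ g).base ⟨x, hx⟩ ⤳ (WX.ι ≫ g).base z := hz.map (WX.ι ≫ g).continuous
  have h2 : (WX.ι ≫ g).base z ∈ WY := by
    apply hWY
    rw [← hzc, ← hg]
    simp
  have h3 := h1.mem_open WY.2 h2
  simpa using h3

end Groth.Agent.Lib.Helper96.FinitePart

namespace Groth.Agent.Lib.Helper96.FinitePart

/-- The finite part of a fibre product contains the product of the finite parts. -/
theorem mem_finitePart_pullback {R : Type u} [CommRing R] [IsLocalRing R]
    {X Y : Scheme.{u}} (f : X ⟶ Spec (CommRingCat.of R)) (f' : Y ⟶ Spec (CommRingCat.of R))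
    (WX : X.Opens) [IsFinite (WX.ι ≫ f)] (WY : Y.Opens) [IsFinite (WY.ι ≫ f')]
    (W : (pullback f f').Opens)
    (hW : ∀ x : ↥(pullback f f'),
      (pullback.fst f f' ≫ f).base x = IsLocalRing.closedPoint R → x ∈ W)
    (z : ↥(pullback f f')) (hz1 : (pullback.fst f f').base z ∈ WX)
    (hz2 : (pullback.snd f f').base z ∈ WY) : z ∈ W := by
  let h : pullback (WX.ι ≫ f) (WY.ι ≫ f') ⟶ pullback f f' :=
    pullback.map (WX.ι ≫ f) (WY.ι ≫ f') f f' WX.ι WY.ι (𝟙 _) (by simp) (by simp)
  have hr : z ∈ Set.range h.base := by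
    have := Scheme.Pullback.range_map (WX.ι ≫ f) (WY.ι ≫ f') f f' WX.ι WY.ι (𝟙 _)
      (by simp) (by simp)
    rw [this]
    refine ⟨?_, ?_⟩
    · simpa using hz1
    · simpa using hz2
  obtain ⟨w, rfl⟩ := hr
  obtain ⟨w0, hw0, hw0c⟩ := exists_specializes_closedFibre
    (pullback.fst (WX.ι ≫ f) (WY.ι ≫ f') ≫ (WX.ι ≫ f)) w
  have h1 : h.base w ⤳ h.base w0 := hw0.map h.continuous
  refine h1.mem_open W.2 (hW _ ?_)
  rw [← hw0c]
  have : h ≫ pullback.fst f f' ≫ f = pullback.fst (WX.ι ≫ f) (WY.ι ≫ f') ≫ (WX.ι ≫ f) := by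
    rw [← Category.assoc, pullback.lift_fst, Category.assoc]
  rw [← this]
  simp

end Groth.Agent.Lib.Helper96.FinitePart
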