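import Mathlib
import Groth.Prelude.Def_CAlgX
import Groth.Agent.Lib.Helper31.SmallExt

/-!
# Flat with formally smooth closed fibre implies formally smooth (EGA `0_IV` 19.7.1, helper96)

Let `A → B` be flat, `𝔪 ⊆ A` an ideal with `A/𝔪 = k` a field and `B` Noetherian with an ideal `𝔫`.
If `B₀ = B/𝔪B` is formally smooth over `k` for the `𝔫 B₀`-adic topology, then every lifting problem
`B → C/N` with `N² = 0`, `𝔪 N = 0`, killing a power of `𝔫`, has a solution.
-/

set_option autoImplicit false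
set_option linter.style.haveILetI false
set_option linter.unusedSectionVars false

universe u

namespace Groth.Agent.Lib.Helper96.FlatFibreSmooth

open TensorProduct

section FlatKernel

variable {A : Type*} [CommRing A] {B : Type*} [AddCommGroup B] [Module A B]

/-- For a surjection `f : E → B` onto a flat module, `ker f ∩ 𝔪 E = 𝔪 ker f`. -/
theorem mem_smul_ker_of_flat {E : Type*} [AddCommGroup E] [Module A E] [Module.Flat A B]
    (m : Ideal A) (f : E →ₗ[A] B) (hf : Function.Surjective f) (e : E)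
    (he : e ∈ m • (⊤ : Submodule A E)) (hfe : f e = 0) : e ∈ m • LinearMap.ker f := by
  have hinj := LinearMap.lTensor_injective_of_exact_of_flat f hf (LinearMap.ker f).subtype
    (Submodule.injective_subtype _) (LinearMap.exact_subtype_ker_map f) (A ⧸ m)
  let x' : LinearMap.ker f := ⟨e, hfe⟩
  have h1 : ((1 : A ⧸ m) ⊗ₜ[A] x' : (A ⧸ m) ⊗[A] LinearMap.ker f) = 0 := by
    apply hinj
    rw [map_zero, LinearMap.lTensor_tmul]
    apply (TensorProduct.quotTensorEquivQuotSMul E m).injective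
    rw [map_zero, TensorProduct.quotTensorEquivQuotSMul_mk_one_tmul]
    exact (Submodule.Quotient.mk_eq_zero _).mpr he
  have h2 : x' ∈ m • (⊤ : Submodule A (LinearMap.ker f)) := by
    have := congrArg (TensorProduct.quotTensorEquivQuotSMul (LinearMap.ker f) m) h1
    rw [map_zero, TensorProduct.quotTensorEquivQuotSMul_mk_one_tmul] at this
    exact (Submodule.Quotient.mk_eq_zero _).mp this
  have h3 : (LinearMap.ker f).subtype x' ∈
      (m • (⊤ : Submodule A (LinearMap.ker f))).map (LinearMap.ker f).subtype :=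
    Submodule.mem_map_of_mem h2
  rw [Submodule.map_smul'', Submodule.map_top, Submodule.range_subtype] at h3
  exact h3

end FlatKernel

section ResidueTensor

variable {A : Type*} [CommRing A] {k : Type*} [CommRing k] [Algebra A k]
  (hk : Function.Surjective (algebraMap A k)) (X : Type*) [CommRing X] [Algebra A X]

include hk in
theorem includeRight_surjective :
    Function.Surjective (Algebra.TensorProduct.includeRight : X →ₐ[A] k ⊗[A] X) := by
  intro z
  induction z using TensorProduct.induction_on with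
  | zero => exact ⟨0, map_zero _⟩
  | tmul x' x =>
    obtain ⟨a, rfl⟩ := hk x'
    refine ⟨a • x, ?_⟩
    rw [Algebra.TensorProduct.includeRight_apply, Algebra.algebraMap_eq_smul_one, TensorProduct.smul_tmul]
  | add z w hz hw =>
    obtain ⟨x, rfl⟩ := hz
    obtain ⟨y, rfl⟩ := hw
    exact ⟨x + y, map_add _ _ _⟩

include hk in
theorem ker_includeRight :
    RingHom.ker (Algebra.TensorProduct.includeRight : X →ₐ[A] k ⊗[A] X).toRingHom =
      (RingHom.ker (algebraMap A k)).map (algebraMap A X) := by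
  apply le_antisymm
  · intro x hx
    have hx0 : (1 : k) ⊗ₜ[A] x = 0 := hx
    have hex : Function.Exact ((RingHom.ker (algebraMap A k)).subtype : _ →ₗ[A] A)
        (Algebra.linearMap A k) := by
      intro a
      constructor
      · intro ha
        exact ⟨⟨a, ha⟩, rfl⟩
      · rintro ⟨y, rfl⟩
        exact y.2
    have hex2 := rTensor_exact X hex hk
    have h1 : (Algebra.linearMap A k).rTensor X ((1 : A) ⊗ₜ[A] x) = 0 := by
      rw [LinearMap.rTensor_tmul, Algebra.linearMap_apply, map_one]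
      exact hx0
    obtain ⟨z, hz⟩ := (hex2 _).mp h1
    have key : ∀ z : (RingHom.ker (algebraMap A k)) ⊗[A] X,
        TensorProduct.lid A X (((RingHom.ker (algebraMap A k)).subtype : _ →ₗ[A] A).rTensor X z) ∈
          (RingHom.ker (algebraMap A k)).map (algebraMap A X) := by
      intro z
      induction z using TensorProduct.induction_on with
      | zero => rw [map_zero, map_zero]; exact zero_mem _
      | tmul a y =>
        rw [LinearMap.rTensor_tmul, TensorProduct.lid_tmul, Submodule.subtype_apply,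
          Algebra.smul_def]
        exact Ideal.mul_mem_right _ _ (Ideal.mem_map_of_mem _ a.2)
      | add z w hz hw => rw [map_add, map_add]; exact add_mem hz hw
    have := key z
    rw [hz, TensorProduct.lid_tmul, one_smul] at this
    exact this
  · rw [Ideal.map_le_iff_le_comap]
    intro a ha
    rw [Ideal.mem_comap, RingHom.mem_ker]
    change (1 : k) ⊗ₜ[A] (algebraMap A X a) = 0
    rw [Algebra.algebraMap_eq_smul_one, ← TensorProduct.smul_tmul, ← Algebra.algebraMap_eq_smul_one,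
      (RingHom.mem_ker.mp ha), TensorProduct.zero_tmul]

end ResidueTensor

section Glue

variable {A : Type u} [CommRing A] (m : Ideal A) {k : Type u} [Field k] [Algebra A k]
  (hk : Function.Surjective (algebraMap A k)) (hm : RingHom.ker (algebraMap A k) = m)
  {B B₀ Bd Ed : Type u} [CommRing B] [CommRing B₀] [CommRing Bd] [CommRing Ed] [Algebra A B]
  [Algebra A B₀] [Algebra k B₀] [IsScalarTower A k B₀] [Algebra A Bd] [Algebra A Ed]

include hk hm in
/-- Gluing a lift of the closed fibre with the given map to the discrete quotient. -/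
theorem exists_section_lift (𝔫 : Ideal B) (π₀ : B →ₐ[A] B₀) (hπ₀ : Function.Surjective π₀)
    (hker : RingHom.ker π₀.toRingHom = m.map (algebraMap A B))
    (h₀ : CAlgX.IsAdicFormallySmooth k B₀ (𝔫.map π₀.toRingHom))
    (q : B →ₐ[A] Bd) (j : ℕ) (hq : ∀ x ∈ 𝔫 ^ j, q x = 0)
    (sd : Ed →ₐ[A] Bd) (hsd : Function.Surjective sd)
    (hNd2 : (RingHom.ker sd.toRingHom) ^ 2 = ⊥)
    (claim3 : ∀ e ∈ m.map (algebraMap A Ed), sd e = 0 → e = 0) :
    ∃ χd : B →ₐ[A] Ed, sd.comp χd = q := by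
  classical
  let ρ : Ed →ₐ[A] k ⊗[A] Ed := Algebra.TensorProduct.includeRight
  have hρ : Function.Surjective ρ := includeRight_surjective hk Ed
  have hkerρ : RingHom.ker ρ.toRingHom = m.map (algebraMap A Ed) := by
    rw [← hm]; exact ker_includeRight hk Ed
  set N0 : Ideal (k ⊗[A] Ed) := (RingHom.ker sd.toRingHom).map ρ.toRingHom with hN0
  have hN0sq : N0 ^ 2 = ⊥ := by
    have h1 := Ideal.map_pow ρ.toRingHom (RingHom.ker sd.toRingHom) 2
    rw [hNd2, Ideal.map_bot] at h1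
    exact h1.symm
  let t : Ed →ₐ[A] (k ⊗[A] Ed) ⧸ N0 := (Ideal.Quotient.mkₐ A N0).comp ρ
  have ht : RingHom.ker sd.toRingHom ≤ RingHom.ker t.toRingHom := by
    intro x hx
    rw [RingHom.mem_ker]
    change Ideal.Quotient.mk N0 (ρ x) = 0
    rw [Ideal.Quotient.eq_zero_iff_mem]
    exact Ideal.mem_map_of_mem _ hx
  let θ : Bd →ₐ[A] (k ⊗[A] Ed) ⧸ N0 := AlgHom.liftOfSurjective sd hsd t ht
  have hθ : ∀ e : Ed, θ (sd e) = t e := fun e => AlgHom.liftOfSurjective_apply sd hsd t ht e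
  let ψ₀'' : B →ₐ[A] (k ⊗[A] Ed) ⧸ N0 := θ.comp q
  have hψ₀'' : RingHom.ker π₀.toRingHom ≤ RingHom.ker ψ₀''.toRingHom := by
    rw [hker, Ideal.map_le_iff_le_comap]
    intro a ha
    rw [Ideal.mem_comap, RingHom.mem_ker]
    change ψ₀'' (algebraMap A B a) = 0
    rw [ψ₀''.commutes, IsScalarTower.algebraMap_apply A k ((k ⊗[A] Ed) ⧸ N0)]
    have : algebraMap A k a = 0 := by
      rw [← RingHom.mem_ker, hm]; exact ha
    rw [this, map_zero]
  let ψ₀ : B₀ →ₐ[A] (k ⊗[A] Ed) ⧸ N0 := AlgHom.liftOfSurjective π₀ hπ₀ ψ₀'' hψ₀''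
  have hψ₀ : ∀ b : B, ψ₀ (π₀ b) = ψ₀'' b :=
    fun b => AlgHom.liftOfSurjective_apply π₀ hπ₀ ψ₀'' hψ₀'' b
  let ψ₀k : B₀ →ₐ[k] (k ⊗[A] Ed) ⧸ N0 :=
    { ψ₀.toRingHom with
      commutes' := by
        intro x
        obtain ⟨a, rfl⟩ := hk x
        change ψ₀ (algebraMap k B₀ (algebraMap A k a)) =
          algebraMap k ((k ⊗[A] Ed) ⧸ N0) (algebraMap A k a)
        rw [← IsScalarTower.algebraMap_apply A k B₀,
          ← IsScalarTower.algebraMap_apply A k ((k ⊗[A] Ed) ⧸ N0), ψ₀.commutes] }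
  have hcont : ∃ j : ℕ, ∀ x ∈ (𝔫.map π₀.toRingHom) ^ j, ψ₀k x = 0 := by
    refine ⟨j, fun x hx => ?_⟩
    rw [← Ideal.map_pow] at hx
    obtain ⟨b, hb, rfl⟩ := (Ideal.mem_map_iff_of_surjective π₀.toRingHom hπ₀).mp hx
    change ψ₀ (π₀ b) = 0
    rw [hψ₀]
    change θ (q b) = 0
    rw [hq b hb, map_zero]
  obtain ⟨χ₀, hχ₀⟩ := h₀ (k ⊗[A] Ed) N0 hN0sq ψ₀k hcont
  have hχ₀' : ∀ x : B₀, Ideal.Quotient.mk N0 (χ₀ x) = ψ₀ x := fun x => by
    have := congrArg (fun f => f x) hχ₀
    exact this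
  -- the unique compatible lift
  have hex : ∀ b : B, ∃ e : Ed, sd e = q b ∧ ρ e = χ₀ (π₀ b) := by
    intro b
    obtain ⟨e₁, he₁⟩ := hsd (q b)
    have hδ : χ₀ (π₀ b) - ρ e₁ ∈ N0 := by
      rw [← Ideal.Quotient.eq_zero_iff_mem, map_sub, hχ₀', hψ₀]
      change θ (q b) - t e₁ = 0
      rw [← he₁, hθ, sub_self]
    obtain ⟨n, hn, hnδ⟩ := (Ideal.mem_map_iff_of_surjective ρ.toRingHom hρ).mp hδ
    refine ⟨e₁ + n, ?_, ?_⟩
    · rw [map_add, he₁, (RingHom.mem_ker.mp hn : sd n = 0), add_zero]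
    · have hnδ' : ρ n = χ₀ (π₀ b) - ρ e₁ := hnδ
      rw [map_add, hnδ', add_sub_cancel]
  have huniq : ∀ (b : B) (e e' : Ed), sd e = q b → ρ e = χ₀ (π₀ b) → sd e' = q b →
      ρ e' = χ₀ (π₀ b) → e = e' := by
    intro b e e' h1 h2 h1' h2'
    rw [← sub_eq_zero]
    apply claim3
    · rw [← hkerρ, RingHom.mem_ker]
      change ρ (e - e') = 0
      rw [map_sub, h2, h2', sub_self]
    · rw [map_sub, h1, h1', sub_self]
  choose χd hχd using hex
  have hχd_eq : ∀ (b : B) (e : Ed), sd e = q b → ρ e = χ₀ (π₀ b) → χd b = e := fun b e h1 h2 =>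
    huniq b _ _ (hχd b).1 (hχd b).2 h1 h2
  let χdA : B →ₐ[A] Ed :=
    { toFun := χd
      map_one' := hχd_eq 1 1 (by rw [map_one, map_one]) (by rw [map_one, map_one, map_one])
      map_mul' := fun x y => hχd_eq (x * y) (χd x * χd y)
        (by rw [map_mul, (hχd x).1, (hχd y).1, map_mul])
        (by rw [map_mul, (hχd x).2, (hχd y).2, map_mul, map_mul])
      map_zero' := hχd_eq 0 0 (by rw [map_zero, map_zero]) (by rw [map_zero, map_zero, map_zero])
      map_add' := fun x y => hχd_eq (x + y) (χd x + χd y)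
        (by rw [map_add, (hχd x).1, (hχd y).1, map_add])
        (by rw [map_add, (hχd x).2, (hχd y).2, map_add, map_add])
      commutes' := fun a => hχd_eq (algebraMap A B a) (algebraMap A Ed a)
        (by rw [AlgHom.commutes, AlgHom.commutes])
        (by
          rw [AlgHom.commutes, AlgHom.commutes, IsScalarTower.algebraMap_apply A k B₀,
            AlgHom.commutes, ← IsScalarTower.algebraMap_apply A k (k ⊗[A] Ed)]) }
  refine ⟨χdA, ?_⟩
  ext b
  exact (hχd b).1

end Glue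

section Key

variable {A B : Type u} [CommRing A] [CommRing B] [Algebra A B]

/-- **One lifting step** (EGA `0_IV` 19.7.1): lifting along a square-zero extension whose kernel is
killed by `𝔪`, using flatness of `B` and formal smoothness of the closed fibre. -/
theorem exists_lift [Module.Flat A B] [IsNoetherianRing B]
    (m : Ideal A) (𝔫 : Ideal B)
    {k B₀ : Type u} [Field k] [CommRing B₀] [Algebra A k] [Algebra k B₀] [Algebra A B₀]
    [IsScalarTower A k B₀]
    (hk : Function.Surjective (algebraMap A k)) (hm : RingHom.ker (algebraMap A k) = m)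
    (π₀ : B →ₐ[A] B₀) (hπ₀ : Function.Surjective π₀)
    (hker : RingHom.ker π₀.toRingHom = m.map (algebraMap A B))
    (h₀ : CAlgX.IsAdicFormallySmooth k B₀ (𝔫.map π₀.toRingHom))
    (C : Type u) [CommRing C] [Algebra A C] (N : Ideal C) (hN2 : N ^ 2 = ⊥)
    (hmN : ∀ a ∈ m, ∀ x ∈ N, a • x = 0) (ψ : B →ₐ[A] C ⧸ N) (l : ℕ)
    (hψ : ∀ x ∈ 𝔫 ^ l, ψ x = 0) :
    ∃ χ : B →ₐ[A] C, (Ideal.Quotient.mkₐ A N).comp χ = ψ := by
  classical
  -- Artin–Rees
  obtain ⟨c, hc⟩ := Ideal.exists_pow_inf_eq_pow_smul 𝔫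
    ((m.map (algebraMap A B)) : Submodule B B)
  have hAR : 𝔫 ^ (l + c) ⊓ m.map (algebraMap A B) ≤ 𝔫 ^ l * m.map (algebraMap A B) := by
    have h1 := hc (l + c) (Nat.le_add_left c l)
    rw [Nat.add_sub_cancel] at h1
    have h2 : (𝔫 ^ (l + c) • (⊤ : Submodule B B) : Submodule B B) = 𝔫 ^ (l + c) := by
      rw [smul_eq_mul, Ideal.mul_top]
    rw [h2] at h1
    rw [h1, smul_eq_mul]
    exact Ideal.mul_mono_right inf_le_right
  -- the discrete quotient of `B`
  have hψj : ∀ x ∈ 𝔫 ^ (l + c), ψ x = 0 := fun x hx =>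
    hψ x (Ideal.pow_le_pow_right (Nat.le_add_right l c) hx)
  let ψd : (B ⧸ 𝔫 ^ (l + c)) →ₐ[A] C ⧸ N := Ideal.Quotient.liftₐ (𝔫 ^ (l + c)) ψ hψj
  have hψd : ∀ b : B, ψd (Ideal.Quotient.mk _ b) = ψ b := fun b => rfl
  -- the fibre products
  let E : Subalgebra A (C × B) := AlgHom.equalizer
    ((Ideal.Quotient.mkₐ A N).comp (AlgHom.fst A C B)) (ψ.comp (AlgHom.snd A C B))
  let Ed : Subalgebra A (C × (B ⧸ 𝔫 ^ (l + c))) := AlgHom.equalizer
    ((Ideal.Quotient.mkₐ A N).comp (AlgHom.fst A C (B ⧸ 𝔫 ^ (l + c))))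
    (ψd.comp (AlgHom.snd A C (B ⧸ 𝔫 ^ (l + c))))
  have hE : ∀ e : E, Ideal.Quotient.mk N (e : C × B).1 = ψ (e : C × B).2 := fun e => e.2
  have hEd : ∀ e : Ed, Ideal.Quotient.mk N (e : C × (B ⧸ 𝔫 ^ (l + c))).1 =
      ψd (e : C × (B ⧸ 𝔫 ^ (l + c))).2 := fun e => e.2
  let sE : E →ₐ[A] B := (AlgHom.snd A C B).comp E.val
  let fE : E →ₐ[A] C := (AlgHom.fst A C B).comp E.val
  let sd : Ed →ₐ[A] (B ⧸ 𝔫 ^ (l + c)) := (AlgHom.snd A C (B ⧸ 𝔫 ^ (l + c))).comp Ed.val
  have hsE : Function.Surjective sE := by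
    intro b
    obtain ⟨c₀, hc₀⟩ := Ideal.Quotient.mk_surjective (ψ b)
    exact ⟨⟨(c₀, b), hc₀⟩, rfl⟩
  have hsd : Function.Surjective sd := by
    intro b
    obtain ⟨c₀, hc₀⟩ := Ideal.Quotient.mk_surjective (ψd b)
    exact ⟨⟨(c₀, b), hc₀⟩, rfl⟩
  -- the comparison map
  let τ : E →ₐ[A] Ed := AlgHom.codRestrict
    (((AlgHom.fst A C B).prod ((Ideal.Quotient.mkₐ A (𝔫 ^ (l + c))).comp
      (AlgHom.snd A C B))).comp E.val) Ed (fun e => hE e)
  have hτ1 : ∀ e : E, ((τ e : Ed) : C × (B ⧸ 𝔫 ^ (l + c))).1 = (e : C × B).1 := fun e => rfl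
  have hτ2 : ∀ e : E, sd (τ e) = Ideal.Quotient.mk _ (sE e) := fun e => rfl
  have hτ : Function.Surjective τ := by
    rintro ⟨⟨c₀, b'⟩, h⟩
    obtain ⟨b, rfl⟩ := Ideal.Quotient.mk_surjective b'
    exact ⟨⟨(c₀, b), h⟩, rfl⟩
  -- kernel of `sE` is killed by `m`
  have hkerE : m • LinearMap.ker sE.toLinearMap = ⊥ := by
    rw [eq_bot_iff, Submodule.smul_le]
    intro a ha x hx
    rw [Submodule.mem_bot]
    have hx2 : (x : C × B).2 = 0 := hx
    have hx1 : (x : C × B).1 ∈ N := by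
      rw [← Ideal.Quotient.eq_zero_iff_mem, hE x, hx2, map_zero]
    apply Subtype.ext
    apply Prod.ext
    · exact hmN a ha _ hx1
    · change a • (x : C × B).2 = 0
      rw [hx2, smul_zero]
  -- key injectivity: `N_d ∩ m E_d = 0`
  have claim3 : ∀ e : Ed, e ∈ m.map (algebraMap A Ed) → sd e = 0 → e = 0 := by
    intro e he hse
    have he' : e ∈ m • (⊤ : Submodule A Ed) := by
      rw [Ideal.smul_top_eq_map]; exact he
    have hmap : m • (⊤ : Submodule A Ed) = (m • (⊤ : Submodule A E)).map τ.toLinearMap := by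
      rw [Submodule.map_smul'', Submodule.map_top, LinearMap.range_eq_top.mpr hτ]
    rw [hmap] at he'
    obtain ⟨e', he'm, rfl⟩ := he'
    have hb1 : sE e' ∈ 𝔫 ^ (l + c) := by
      rw [← Ideal.Quotient.eq_zero_iff_mem]
      exact hse
    have hb2 : sE e' ∈ m.map (algebraMap A B) := by
      have h1 : sE.toLinearMap e' ∈ (m • (⊤ : Submodule A E)).map sE.toLinearMap :=
        Submodule.mem_map_of_mem he'm
      rw [Submodule.map_smul'', Submodule.map_top, LinearMap.range_eq_top.mpr hsE,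
        Ideal.smul_top_eq_map] at h1
      exact h1
    have hb3 : sE e' ∈ 𝔫 ^ l * m.map (algebraMap A B) := hAR ⟨hb1, hb2⟩
    -- the ideal `0 × 𝔫^l` of `E`
    let 𝔞E : Submodule A E := Submodule.comap sE.toLinearMap ((𝔫 ^ l).restrictScalars A) ⊓
      LinearMap.ker fE.toLinearMap
    have h𝔞map : 𝔞E.map sE.toLinearMap = (𝔫 ^ l).restrictScalars A := by
      apply le_antisymm
      · rintro _ ⟨x, hx, rfl⟩
        exact hx.1
      · intro u hu
        have hu' : u ∈ 𝔫 ^ l := hu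
        refine ⟨⟨(0, u), ?_⟩, ⟨hu', rfl⟩, rfl⟩
        change Ideal.Quotient.mk N 0 = ψ u
        rw [map_zero, hψ u hu']
    have hb4 : sE.toLinearMap e' ∈ (m • 𝔞E).map sE.toLinearMap := by
      rw [Submodule.map_smul'', h𝔞map, ← Ideal.smul_restrictScalars, smul_eq_mul, mul_comm]
      exact hb3
    obtain ⟨e'', he''m, he''⟩ := hb4
    have he''1 : fE e'' = 0 := by
      have : m • 𝔞E ≤ LinearMap.ker fE.toLinearMap :=
        Submodule.smul_le.mpr fun a _ x hx => Submodule.smul_mem _ _ hx.2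
      exact this he''m
    have hd : e' - e'' ∈ m • LinearMap.ker sE.toLinearMap := by
      refine mem_smul_ker_of_flat m sE.toLinearMap hsE (e' - e'') ?_ ?_
      · exact sub_mem he'm (Submodule.smul_mono le_rfl le_top he''m)
      · rw [map_sub, sub_eq_zero]
        exact he''.symm
    rw [hkerE, Submodule.mem_bot, sub_eq_zero] at hd
    apply Subtype.ext
    apply Prod.ext
    · change (e' : C × B).1 = 0
      rw [hd]
      exact he''1
    · exact hse
  have hNd2 : (RingHom.ker sd.toRingHom) ^ 2 = ⊥ := by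
    rw [eq_bot_iff, pow_two, Ideal.mul_le]
    intro x hx y hy
    rw [Ideal.mem_bot]
    have hx2 : (x : C × (B ⧸ 𝔫 ^ (l + c))).2 = 0 := hx
    have hy2 : (y : C × (B ⧸ 𝔫 ^ (l + c))).2 = 0 := hy
    have hx1 : (x : C × (B ⧸ 𝔫 ^ (l + c))).1 ∈ N := by
      rw [← Ideal.Quotient.eq_zero_iff_mem, hEd x, hx2, map_zero]
    have hy1 : (y : C × (B ⧸ 𝔫 ^ (l + c))).1 ∈ N := by
      rw [← Ideal.Quotient.eq_zero_iff_mem, hEd y, hy2, map_zero]
    apply Subtype.ext
    apply Prod.ext
    · change (x : C × (B ⧸ 𝔫 ^ (l + c))).1 * (y : C × (B ⧸ 𝔫 ^ (l + c))).1 = 0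
      have : (x : C × (B ⧸ 𝔫 ^ (l + c))).1 * (y : C × (B ⧸ 𝔫 ^ (l + c))).1 ∈ N ^ 2 := by
        rw [pow_two]; exact Ideal.mul_mem_mul hx1 hy1
      rw [hN2] at this
      exact this
    · change (x : C × (B ⧸ 𝔫 ^ (l + c))).2 * (y : C × (B ⧸ 𝔫 ^ (l + c))).2 = 0
      rw [hx2, zero_mul]
  obtain ⟨χd, hχd⟩ := exists_section_lift m hk hm 𝔫 π₀ hπ₀ hker h₀
    (Ideal.Quotient.mkₐ A (𝔫 ^ (l + c))) (l + c)
    (fun x hx => Ideal.Quotient.eq_zero_iff_mem.mpr hx) sd hsd hNd2 claim3
  refine ⟨(AlgHom.fst A C (B ⧸ 𝔫 ^ (l + c))).comp (Ed.val.comp χd), ?_⟩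
  ext b
  change Ideal.Quotient.mk N ((χd b : Ed) : C × (B ⧸ 𝔫 ^ (l + c))).1 = ψ b
  rw [hEd (χd b)]
  have h1 : sd (χd b) = Ideal.Quotient.mk _ b := congrArg (fun f => f b) hχd
  have h2 : ((χd b : Ed) : C × (B ⧸ 𝔫 ^ (l + c))).2 = Ideal.Quotient.mk _ b := h1
  rw [h2, hψd]

end Key

section Main

open IsLocalRing

/-- A module of length one over a local ring is killed by the maximal ideal. -/
theorem mul_eq_zero_of_length_eq_one {C : Type*} [CommRing C] [IsLocalRing C] (J : Ideal C)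
    (hlen : Module.length C J = 1) (x : C) (hx : x ∈ maximalIdeal C) (y : C) (hy : y ∈ J) :
    x * y = 0 := by
  rw [Module.length_eq_one_iff] at hlen
  by_contra hne
  let y' : J := ⟨y, hy⟩
  have hxy : x • y' ≠ 0 := fun h => hne (by
    have := congrArg Subtype.val h
    simpa using this)
  have htop : Submodule.span C {x • y'} = ⊤ := (eq_bot_or_eq_top _).resolve_left (by
    intro h
    rw [Submodule.span_singleton_eq_bot] at h
    exact hxy h)
  have hmem : y' ∈ Submodule.span C {x • y'} := by rw [htop]; trivial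
  obtain ⟨c, hc⟩ := Submodule.mem_span_singleton.mp hmem
  have hu : IsUnit (1 - c * x) :=
    IsLocalRing.isUnit_one_sub_self_of_mem_nonunits _ (Ideal.mul_mem_left _ _ hx)
  have h0 : (1 - c * x) • y' = 0 := by rw [sub_smul, one_smul, mul_smul, hc, sub_self]
  have hy0 : y' = 0 := by rwa [hu.smul_eq_zero] at h0
  exact hxy (by rw [hy0, smul_zero])

/-- **EGA `0_IV` 19.7.1** (one direction): a flat local homomorphism of local rings whose closed
fibre is formally smooth over the residue field (for the adic topology) is formally smooth for the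
adic topology of the target. -/
theorem isAdicFormallySmooth_of_flat_of_fibre {A B : Type u} [CommRing A] [CommRing B]
    [IsLocalRing A] [IsLocalRing B] [IsNoetherianRing B] [Algebra A B]
    [IsLocalHom (algebraMap A B)] [Module.Flat A B]
    {k B₀ : Type u} [Field k] [CommRing B₀] [Algebra A k] [Algebra k B₀] [Algebra A B₀]
    [IsScalarTower A k B₀]
    (hk : Function.Surjective (algebraMap A k))
    (hm : RingHom.ker (algebraMap A k) = maximalIdeal A)
    (π₀ : B →ₐ[A] B₀) (hπ₀ : Function.Surjective π₀)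
    (hker : RingHom.ker π₀.toRingHom = (maximalIdeal A).map (algebraMap A B))
    (h₀ : CAlgX.IsAdicFormallySmooth k B₀ ((maximalIdeal B).map π₀.toRingHom)) :
    CAlgX.IsAdicFormallySmooth A B (maximalIdeal B) := by
  apply Groth.Agent.Lib.Helper31.SmallExt.isAdicFormallySmooth_of_smallLift
  intro C _ _ _ _ _ J hJ2 hlen _ ψ _ _
  obtain ⟨l, hl⟩ : ∃ l, maximalIdeal C ^ l = ⊥ :=
    (isArtinianRing_iff_isNilpotent_maximalIdeal C).mp inferInstance
  refine exists_lift (maximalIdeal A) (maximalIdeal B) hk hm π₀ hπ₀ hker h₀ C J hJ2 ?_ ψ l ?_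
  · intro a ha x hx
    rw [Algebra.smul_def]
    refine mul_eq_zero_of_length_eq_one J hlen _ ?_ x hx
    have hloc : IsLocalHom (algebraMap A C) := inferInstance
    have hle : (maximalIdeal A).map (algebraMap A C) ≤ maximalIdeal C :=
      ((IsLocalRing.local_hom_TFAE (algebraMap A C)).out 0 2).mp hloc
    exact hle (Ideal.mem_map_of_mem _ ha)
  · intro x hx
    have hlocψ : IsLocalHom ψ.toRingHom := inferInstance
    have h1 : (maximalIdeal B).map ψ.toRingHom ≤ maximalIdeal (C ⧸ J) :=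
      ((IsLocalRing.local_hom_TFAE ψ.toRingHom).out 0 2).mp hlocψ
    have h2 : maximalIdeal (C ⧸ J) ≤ (maximalIdeal C).map (Ideal.Quotient.mk J) := by
      intro y hy
      obtain ⟨c, rfl⟩ := Ideal.Quotient.mk_surjective y
      refine Ideal.mem_map_of_mem _ ?_
      rw [IsLocalRing.mem_maximalIdeal, mem_nonunits_iff] at hy ⊢
      exact fun hu => hy (hu.map _)
    have h3 : ψ x ∈ ((maximalIdeal B).map ψ.toRingHom) ^ l := by
      rw [← Ideal.map_pow]
      exact Ideal.mem_map_of_mem _ hx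
    have h4 : ((maximalIdeal B).map ψ.toRingHom) ^ l ≤ ⊥ := by
      calc ((maximalIdeal B).map ψ.toRingHom) ^ l
          ≤ ((maximalIdeal C).map (Ideal.Quotient.mk J)) ^ l := Ideal.pow_right_mono (h1.trans h2) l
        _ = (maximalIdeal C ^ l).map (Ideal.Quotient.mk J) := (Ideal.map_pow _ _ _).symm
        _ = ⊥ := by rw [hl, Ideal.map_bot]
    exact (Ideal.mem_bot.mp (h4 h3))

end Main

end Groth.Agent.Lib.Helper96.FlatFibreSmooth
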