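import Groth.Prelude.Def_W4c6eohyperellchar2Gc
import Mathlib.FieldTheory.Perfect
import Mathlib.Algebra.CharP.Two
import Mathlib.LinearAlgebra.Span.Basic
import Mathlib.Algebra.Module.Submodule.Lattice

set_option autoImplicit false
universe u

namespace Groth.Agent.Lib.Helper96

open W4c6eohyperellchar2

section basic
variable {c : ℕ} {k : Type u}

theorem coefX_X [Zero k] [One k] (j n : ℕ) :
    coefX (X c k j) n = if 1 ≤ n ∧ n ≤ c ∧ n = j then 1 else 0 := by
  unfold coefX
  by_cases h : 1 ≤ n ∧ n ≤ c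
  · rw [dif_pos h]
    show (if (n - 1) + 1 = j then (1 : k) else 0) = _
    by_cases h2 : n = j
    · rw [if_pos (by omega), if_pos (by omega)]
    · rw [if_neg (by omega), if_neg (by omega)]
  · rw [dif_neg h, if_neg (by omega)]

theorem coefY_X [Zero k] [One k] (j n : ℕ) : coefY (X c k j) n = 0 := by
  unfold coefY X
  split_ifs <;> rfl

theorem coefX_Y [Zero k] [One k] (j n : ℕ) : coefX (Y c k j) n = 0 := by
  unfold coefX Y
  split_ifs <;> rfl

theorem coefY_Y [Zero k] [One k] (j n : ℕ) :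
    coefY (Y c k j) n = if 1 ≤ n ∧ n ≤ c ∧ n = j then 1 else 0 := by
  unfold coefY
  by_cases h : 1 ≤ n ∧ n ≤ c
  · rw [dif_pos h]
    show (if (n - 1) + 1 = j then (1 : k) else 0) = _
    by_cases h2 : n = j
    · rw [if_pos (by omega), if_pos (by omega)]
    · rw [if_neg (by omega), if_neg (by omega)]
  · rw [dif_neg h, if_neg (by omega)]

end basic

section FV
variable {c : ℕ} {k : Type u} [Field k] [CharP k 2] [PerfectRing k 2]

omit [CharP k 2] [PerfectRing k 2] in
theorem F_X_even (m : ℕ) (hm : 2 * m ≤ c) : F c k (X c k (2 * m)) = X c k m := by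
  refine Prod.ext (funext fun i => ?_) (funext fun i => ?_)
  · show coefX (X c k (2 * m)) (2 * (i.val + 1)) ^ 2 = if i.val + 1 = m then 1 else 0
    rw [coefX_X]
    by_cases h : i.val + 1 = m
    · rw [if_pos h, if_pos (by omega), one_pow]
    · rw [if_neg h, if_neg (by omega), zero_pow two_ne_zero]
  · show coefX (X c k (2 * m)) (2 * (c - (i.val + 1)) + 1) ^ 2 = 0
    rw [coefX_X, if_neg (by omega), zero_pow two_ne_zero]

omit [CharP k 2] [PerfectRing k 2] in
theorem F_X_odd (m : ℕ) (hm : 2 * m + 1 ≤ c) : F c k (X c k (2 * m + 1)) = Y c k (c - m) := by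
  refine Prod.ext (funext fun i => ?_) (funext fun i => ?_)
  · show coefX (X c k (2 * m + 1)) (2 * (i.val + 1)) ^ 2 = 0
    rw [coefX_X, if_neg (by omega), zero_pow two_ne_zero]
  · show coefX (X c k (2 * m + 1)) (2 * (c - (i.val + 1)) + 1) ^ 2 =
      if i.val + 1 = c - m then 1 else 0
    have hi := i.isLt
    rw [coefX_X]
    by_cases h : i.val + 1 = c - m
    · rw [if_pos h, if_pos (by omega), one_pow]
    · rw [if_neg h, if_neg (by omega), zero_pow two_ne_zero]

omit [CharP k 2] [PerfectRing k 2] in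
theorem F_Y (m : ℕ) : F c k (Y c k m) = 0 := by
  refine Prod.ext (funext fun i => ?_) (funext fun i => ?_)
  · show coefX (Y c k m) _ ^ 2 = 0
    rw [coefX_Y, zero_pow two_ne_zero]
  · show coefX (Y c k m) _ ^ 2 = 0
    rw [coefX_Y, zero_pow two_ne_zero]

theorem V_X (j : ℕ) (hj : j ≤ c) (hcj : c < 2 * j) :
    V c k (X c k j) = Y c k (2 * c - 2 * j + 1) := by
  refine Prod.ext rfl (funext fun i => ?_)
  show (if (i.val + 1) % 2 = 0 then (frobeniusEquiv k 2).symm (coefY (X c k j) ((i.val + 1) / 2))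
    else (frobeniusEquiv k 2).symm (coefX (X c k j) ((2 * c - i.val) / 2))) =
    if i.val + 1 = 2 * c - 2 * j + 1 then 1 else 0
  have hi := i.isLt
  rw [coefY_X, coefX_X, map_zero]
  by_cases h : i.val + 1 = 2 * c - 2 * j + 1
  · rw [if_pos h, if_neg (by omega), if_pos (by omega), map_one]
  · rw [if_neg h]
    by_cases h1 : (i.val + 1) % 2 = 0
    · rw [if_pos h1]
    · rw [if_neg h1, if_neg (by omega), map_zero]

theorem V_Y (m : ℕ) (hm : 2 * m ≤ c) : V c k (Y c k m) = Y c k (2 * m) := by
  refine Prod.ext rfl (funext fun i => ?_)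
  show (if (i.val + 1) % 2 = 0 then (frobeniusEquiv k 2).symm (coefY (Y c k m) ((i.val + 1) / 2))
    else (frobeniusEquiv k 2).symm (coefX (Y c k m) ((2 * c - i.val) / 2))) =
    if i.val + 1 = 2 * m then 1 else 0
  have hi := i.isLt
  rw [coefY_Y, coefX_Y, map_zero]
  by_cases h : i.val + 1 = 2 * m
  · rw [if_pos h, if_pos (by omega), if_pos (by omega), map_one]
  · rw [if_neg h]
    by_cases h1 : (i.val + 1) % 2 = 0
    · rw [if_pos h1, if_neg (by omega), map_zero]
    · rw [if_neg h1]

omit [CharP k 2] [PerfectRing k 2] in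
theorem F_iter_X (e l : ℕ) (h : 2 ^ e * l ≤ c) : (F c k)^[e] (X c k (2 ^ e * l)) = X c k l := by
  induction e with
  | zero => simp
  | succ e ih =>
    rw [Function.iterate_succ_apply]
    have h1 : 2 ^ (e + 1) * l = 2 * (2 ^ e * l) := by ring
    rw [h1, F_X_even _ (by omega)]
    exact ih (by omega)

theorem V_iter_Y (n m : ℕ) (h : 2 ^ n * m ≤ c) : (V c k)^[n] (Y c k m) = Y c k (2 ^ n * m) := by
  induction n with
  | zero => simp
  | succ n ih =>
    rw [Function.iterate_succ_apply']
    have h1 : 2 ^ (n + 1) * m = 2 * (2 ^ n * m) := by ring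
    rw [ih (by omega), V_Y _ (by omega), h1]

end FV

section decomp
variable {c : ℕ} {k : Type u} [Field k]

theorem X_fst (j : ℕ) (i : Fin c) : (X c k j).1 i = if i.val + 1 = j then 1 else 0 := rfl
theorem X_snd (j : ℕ) (i : Fin c) : (X c k j).2 i = 0 := rfl
theorem Y_fst (j : ℕ) (i : Fin c) : (Y c k j).1 i = 0 := rfl
theorem Y_snd (j : ℕ) (i : Fin c) : (Y c k j).2 i = if i.val + 1 = j then 1 else 0 := rfl

theorem decomp (v : GcMod c k) :
    v = ∑ i : Fin c, (v.1 i • X c k (i.val + 1) + v.2 i • Y c k (i.val + 1)) := by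
  refine Prod.ext (funext fun j => ?_) (funext fun j => ?_)
  · rw [Prod.fst_sum, Finset.sum_apply]
    simp only [Prod.fst_add, Prod.smul_fst, Pi.add_apply, Pi.smul_apply, X_fst, Y_fst, smul_eq_mul,
      mul_zero, add_zero, mul_ite, mul_one]
    rw [Finset.sum_eq_single j]
    · simp
    · intro b _ hb
      rw [if_neg]
      intro h
      apply hb
      ext
      omega
    · simp
  · rw [Prod.snd_sum, Finset.sum_apply]
    simp only [Prod.snd_add, Prod.smul_snd, Pi.add_apply, Pi.smul_apply, X_snd, Y_snd, smul_eq_mul,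
      mul_zero, zero_add, mul_ite, mul_one]
    rw [Finset.sum_eq_single j]
    · simp
    · intro b _ hb
      rw [if_neg]
      intro h
      apply hb
      ext
      omega
    · simp

/-- A submodule containing all basis vectors is everything. -/
theorem eq_top_of_basis_mem (N : Submodule k (GcMod c k))
    (hX : ∀ j, 1 ≤ j → j ≤ c → X c k j ∈ N) (hY : ∀ j, 1 ≤ j → j ≤ c → Y c k j ∈ N) : N = ⊤ := by
  rw [eq_top_iff]
  intro v _
  rw [decomp v]
  refine Submodule.sum_mem _ fun i _ => ?_
  have hi := i.isLt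
  exact N.add_mem (N.smul_mem _ (hX _ (by omega) (by omega))) (N.smul_mem _ (hY _ (by omega) (by omega)))

end decomp

end Groth.Agent.Lib.Helper96
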