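import Mathlib
import Groth.Agent.Lib.Helper96.GeomRegular
import Groth.Agent.Lib.Helper49.RegAscent

/-!
# Tensor products of regular and geometrically regular algebras over a field (helper96)
-/

set_option autoImplicit false

universe u

namespace Groth.Agent.Lib.Helper96

open IsLocalRing TensorProduct

/-- If `S` is regular and `T` is geometrically regular over the field `k` (all rings Noetherian), then
`S ⊗_k T` is regular. -/
theorem isRegularRing_tensor_of_isGeometricallyRegular (k S T : Type u) [Field k] [CommRing S]
    [CommRing T] [Algebra k S] [Algebra k T] [IsNoetherianRing S] [IsNoetherianRing T]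
    [IsNoetherianRing (S ⊗[k] T)]
    (hS : IsRegularRing S) (hT : CAlg.IsGeometricallyRegular k T) : IsRegularRing (S ⊗[k] T) := by
  refine Groth.Agent.Lib.Helper49.RegAscent.isRegularRing_of_flat_of_fibres
    (R := S) (S := S ⊗[k] T) hS ?_
  intro p _
  haveI : Algebra.EssFiniteType S p.ResidueField := by
    haveI : Algebra.EssFiniteType S (Localization.AtPrime p) :=
      Algebra.EssFiniteType.of_isLocalization _ p.primeCompl
    exact inferInstanceAs (Algebra.EssFiniteType S
      (Localization.AtPrime p ⧸ maximalIdeal (Localization.AtPrime p)))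
  haveI : IsNoetherianRing ((S ⊗[k] T) ⊗[S] p.ResidueField) :=
    Algebra.EssFiniteType.isNoetherianRing (S ⊗[k] T) _
  haveI : IsNoetherianRing (p.Fiber (S ⊗[k] T)) :=
    isNoetherianRing_of_ringEquiv _
      (Algebra.TensorProduct.comm S (S ⊗[k] T) p.ResidueField).toRingEquiv
  let e := Algebra.TensorProduct.cancelBaseChange k S S p.ResidueField T
  haveI : IsNoetherianRing (p.ResidueField ⊗[k] T) :=
    isNoetherianRing_of_ringEquiv _ e.toRingEquiv
  haveI := isRegularRing_tensor_of_forall_adicFormallySmooth p.ResidueField T
    (isGeometricallyRegular_iff_forall_adicFormallySmooth.mp hT)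
  exact IsRegularRing.of_ringEquiv e.symm.toRingEquiv

end Groth.Agent.Lib.Helper96
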