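import Mathlib
import Groth.Agent.Lib.Helper96.GeomRegular2
import Groth.Agent.Lib.Helper96.GeomRegular3
import Groth.Agent.S2451

/-!
# Regularity and base field extension, pointwise (helper96)
-/

set_option autoImplicit false

universe u

namespace Groth.Agent.Lib.Helper96

open IsLocalRing TensorProduct

/-- Flat descent of regularity for local rings at primes. -/
theorem isRegularLocalRing_atPrime_comap_of_flat (B C : Type u) [CommRing B] [CommRing C]
    [Algebra B C] [Module.Flat B C] [IsNoetherianRing B] (P' : Ideal C) [P'.IsPrime]
    (h : IsRegularLocalRing (Localization.AtPrime P')) :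
    IsRegularLocalRing (Localization.AtPrime (P'.comap (algebraMap B C))) := by
  let φ := Localization.localRingHom (P'.comap (algebraMap B C)) P' (algebraMap B C) rfl
  letI := φ.toAlgebra
  haveI : IsLocalHom (algebraMap (Localization.AtPrime (P'.comap (algebraMap B C)))
      (Localization.AtPrime P')) :=
    Localization.isLocalHom_localRingHom _ P' (algebraMap B C) rfl
  have hflat : (algebraMap B C).Flat := RingHom.flat_algebraMap_iff.mpr inferInstance
  haveI : Module.Flat (Localization.AtPrime (P'.comap (algebraMap B C)))
      (Localization.AtPrime P') :=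
    RingHom.flat_algebraMap_iff.mp (RingHom.Flat.localRingHom hflat P' _ rfl)
  haveI : IsNoetherianRing (Localization.AtPrime (P'.comap (algebraMap B C))) :=
    IsLocalization.isNoetherianRing (P'.comap (algebraMap B C)).primeCompl _ inferInstance
  exact Groth.Agent.S0565.result (Localization.AtPrime (P'.comap (algebraMap B C)))
    (Localization.AtPrime P')

/-- A separable (geometrically reduced) field extension is geometrically regular. -/
theorem isGeometricallyRegular_of_isGeometricallyReduced_field (k k' : Type u) [Field k] [Field k']
    [Algebra k k'] (h : Algebra.IsGeometricallyReduced k k') : CAlg.IsGeometricallyRegular k k' := by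
  haveI : Algebra.FormallySmooth k k' := Groth.Agent.S2451.result.mpr h
  exact isGeometricallyRegular_of_adicFormallySmooth
    (isAdicFormallySmooth_of_formallySmooth (maximalIdeal k'))

section

variable (k S k' : Type u) [Field k] [CommRing S] [Algebra k S] [Field k'] [Algebra k k']

/-- The algebra structure `S ⊗ k' → S_q ⊗ k'`. -/
@[reducible] noncomputable def atPrimeTensorAlgebra (q : Ideal S) [q.IsPrime] :
    Algebra (S ⊗[k] k') (Localization.AtPrime q ⊗[k] k') :=
  (Algebra.TensorProduct.map (IsScalarTower.toAlgHom k S (Localization.AtPrime q))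
    (AlgHom.id k k')).toAlgebra

theorem isScalarTower_atPrimeTensor (q : Ideal S) [q.IsPrime] :
    letI := atPrimeTensorAlgebra k S k' q
    IsScalarTower S (S ⊗[k] k') (Localization.AtPrime q ⊗[k] k') := by
  letI := atPrimeTensorAlgebra k S k' q
  exact .of_algebraMap_eq <| by
    intro x
    simp [RingHom.algebraMap_toAlgebra, Algebra.TensorProduct.algebraMap_apply]

theorem isLocalization_atPrimeTensor (q : Ideal S) [q.IsPrime] :
    letI := atPrimeTensorAlgebra k S k' q
    IsLocalization (Algebra.algebraMapSubmonoid (S ⊗[k] k') q.primeCompl)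
      (Localization.AtPrime q ⊗[k] k') := by
  letI := atPrimeTensorAlgebra k S k' q
  haveI := isScalarTower_atPrimeTensor k S k' q
  exact IsLocalization.tensorProduct_tensorProduct k k' q.primeCompl (Localization.AtPrime q)
    (by ext; simp [RingHom.algebraMap_toAlgebra])

/-- If `k'/k` is separable and `S_q` is regular, then `(S ⊗ k')_{q'}` is regular for `q'` over `q`. -/
theorem isRegularLocalRing_atPrime_tensor_of_separable [IsNoetherianRing S]
    [IsNoetherianRing (S ⊗[k] k')] (q' : Ideal (S ⊗[k] k')) [q'.IsPrime]
    (hsep : Algebra.IsGeometricallyReduced k k')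
    (h : IsRegularLocalRing (Localization.AtPrime (q'.comap (algebraMap S (S ⊗[k] k'))))) :
    IsRegularLocalRing (Localization.AtPrime q') := by
  set q : Ideal S := q'.comap (algebraMap S (S ⊗[k] k')) with hq
  letI := atPrimeTensorAlgebra k S k' q
  haveI := isScalarTower_atPrimeTensor k S k' q
  haveI loc := isLocalization_atPrimeTensor k S k' q
  set M' : Submonoid (S ⊗[k] k') := Algebra.algebraMapSubmonoid (S ⊗[k] k') q.primeCompl with hM'
  have hdisj : Disjoint (M' : Set (S ⊗[k] k')) (q' : Set (S ⊗[k] k')) := by
    rw [Set.disjoint_left]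
    rintro _ ⟨a, ha, rfl⟩ hmem
    exact ha hmem
  let Q' : Ideal (Localization.AtPrime q ⊗[k] k') :=
    q'.map (algebraMap (S ⊗[k] k') (Localization.AtPrime q ⊗[k] k'))
  haveI hQ' : Q'.IsPrime := IsLocalization.isPrime_of_isPrime_disjoint M' _ q' inferInstance hdisj
  have hcomap : Q'.comap (algebraMap (S ⊗[k] k') (Localization.AtPrime q ⊗[k] k')) = q' :=
    IsLocalization.comap_map_of_isPrime_disjoint M' _ inferInstance hdisj
  haveI : IsNoetherianRing (Localization.AtPrime q) :=
    IsLocalization.isNoetherianRing q.primeCompl _ inferInstance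
  haveI : IsNoetherianRing (Localization.AtPrime q ⊗[k] k') :=
    IsLocalization.isNoetherianRing M' _ inferInstance
  haveI : IsRegularRing (Localization.AtPrime q) :=
    Groth.Agent.Lib.Helper33.isRegularRing_of_isRegularLocalRing _
  haveI hreg : IsRegularRing (Localization.AtPrime q ⊗[k] k') :=
    isRegularRing_tensor_of_isGeometricallyRegular k (Localization.AtPrime q) k' inferInstance
      (isGeometricallyRegular_of_isGeometricallyReduced_field k k' hsep)
  exact isRegularLocalRing_atPrime_of_comap M' (Localization.AtPrime q ⊗[k] k') q' Q' hcomap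
    (hreg.isRegularLocalRing_localization Q')

end

end Groth.Agent.Lib.Helper96
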