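import Mathlib
import Groth.Prelude.Def_W4c5stacksedinertiaGpd

/-!
# Inertia operators on the vector space of finite groups (helper96)

Library for S18021–S18025.
-/

open W4c5stacksedinertia

namespace Groth.Agent.Lib.Helper96.Inertia

/-! ## Basics on `Idx` -/

theorem finGrp_of_equiv (G : Type) [Group G] [Finite G] :
    Nonempty ((FinGrp.of G).carrier ≃* G) := by
  let e := (Nat.equivFinOfCardPos (α := G) Nat.card_pos.ne').symm
  exact ⟨@Equiv.mulEquiv (Fin (Nat.card G)) G e _⟩

theorem idx_of_eq_iff {G H : Type} [Group G] [Finite G] [Group H] [Finite H] :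
    Idx.of G = Idx.of H ↔ Nonempty (G ≃* H) := by
  obtain ⟨eG⟩ := finGrp_of_equiv G
  obtain ⟨eH⟩ := finGrp_of_equiv H
  constructor
  · intro h
    obtain ⟨e⟩ : Nonempty ((FinGrp.of G).carrier ≃* (FinGrp.of H).carrier) := Quotient.exact h
    exact ⟨(eG.symm.trans e).trans eH⟩
  · rintro ⟨e⟩
    exact Quotient.sound ⟨(eG.trans e).trans eH.symm⟩

theorem idx_of_eq_of_equiv {G H : Type} [Group G] [Finite G] [Group H] [Finite H] (e : G ≃* H) :
    Idx.of G = Idx.of H := idx_of_eq_iff.mpr ⟨e⟩

theorem cl_eq_of_equiv {G H : Type} [Group G] [Finite G] [Group H] [Finite H] (e : G ≃* H) :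
    cl G = cl H := by
  unfold cl; rw [idx_of_eq_of_equiv e]

theorem idx_rep_of (G : Type) [Group G] [Finite G] : Nonempty ((Idx.of G).rep ≃* G) := by
  obtain ⟨eG⟩ := finGrp_of_equiv G
  have h : FinGrp.setoid.r (Quotient.out (s := FinGrp.setoid) (Idx.of G)) (FinGrp.of G) :=
    Quotient.exact (Quotient.out_eq (s := FinGrp.setoid) (Idx.of G))
  obtain ⟨e⟩ := h
  exact ⟨e.trans eG⟩

theorem idx_of_rep (i : Idx) : Idx.of i.rep = i := by
  obtain ⟨e⟩ := finGrp_of_equiv i.rep
  have h1 : Idx.of i.rep = Quotient.mk FinGrp.setoid (Quotient.out (s := FinGrp.setoid) i) :=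
    Quotient.sound ⟨e⟩
  rw [h1]
  exact Quotient.out_eq i

theorem idx_card_of (G : Type) [Group G] [Finite G] : (Idx.of G).card = Nat.card G := by
  obtain ⟨e⟩ := idx_rep_of G
  exact Nat.card_congr e.toEquiv

theorem idx_centerCard_of (G : Type) [Group G] [Finite G] :
    (Idx.of G).centerCard = Nat.card (Subgroup.center G) := by
  obtain ⟨e⟩ := idx_rep_of G
  exact Nat.card_congr (Subgroup.centerCongr e).toEquiv

/-! ## The conjugation action on commuting tuples -/

section Action

variable {G : Type} [Group G] {r : ℕ}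

/-- Conjugation of a commuting tuple. -/
def conjTuple (g : G) (s : CommTuple G r) : CommTuple G r :=
  ⟨fun i => g * s.1 i * g⁻¹, by
    intro i j hij
    apply s.2.1
    have : g * s.1 i * g⁻¹ = g * s.1 j * g⁻¹ := hij
    simpa using this, by
    intro i j
    have h := s.2.2 i j
    show (g * s.1 i * g⁻¹) * (g * s.1 j * g⁻¹) = (g * s.1 j * g⁻¹) * (g * s.1 i * g⁻¹)
    have h' : s.1 i * s.1 j = s.1 j * s.1 i := h
    calc (g * s.1 i * g⁻¹) * (g * s.1 j * g⁻¹) = g * (s.1 i * s.1 j) * g⁻¹ := by group
      _ = g * (s.1 j * s.1 i) * g⁻¹ := by rw [h']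
      _ = _ := by group⟩

instance : MulAction G (CommTuple G r) where
  smul := conjTuple
  one_smul s := by
    apply Subtype.ext
    funext i
    show (1 : G) * s.1 i * (1 : G)⁻¹ = s.1 i
    simp
  mul_smul g h s := by
    apply Subtype.ext
    funext i
    show (g * h) * s.1 i * (g * h)⁻¹ = g * (h * s.1 i * h⁻¹) * g⁻¹
    group

theorem smul_val (g : G) (s : CommTuple G r) (i : Fin r) : (g • s).1 i = g * s.1 i * g⁻¹ := rfl

theorem setoid_iff (s t : CommTuple G r) :
    (CommTuple.setoid G r).r s t ↔ ∃ g : G, g • s = t := by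
  constructor
  · rintro ⟨g, hg⟩
    exact ⟨g, Subtype.ext (funext hg)⟩
  · rintro ⟨g, rfl⟩
    exact ⟨g, fun i => rfl⟩

theorem stabilizer_eq (s : CommTuple G r) :
    MulAction.stabilizer G s = Subgroup.centralizer (Set.range s.1) := by
  ext g
  rw [MulAction.mem_stabilizer_iff, Subgroup.mem_centralizer_iff]
  constructor
  · intro h x hx
    obtain ⟨i, rfl⟩ := hx
    have := congrArg (fun t : CommTuple G r => t.1 i) h
    simp only [smul_val] at this
    calc s.1 i * g = (g * s.1 i * g⁻¹) * g := by rw [this]
      _ = g * s.1 i := by group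
  · intro h
    apply Subtype.ext
    funext i
    rw [smul_val]
    have := h (s.1 i) ⟨i, rfl⟩
    calc g * s.1 i * g⁻¹ = (s.1 i * g) * g⁻¹ := by rw [this]
      _ = s.1 i := by group

end Action

/-! ## The weighted form of the inertia operators -/

section Weighted

variable (G : Type) [Group G] [Finite G] (r : ℕ)

instance : Finite (CommTuple G r) :=
  inferInstanceAs (Finite { s : Fin r → G // Function.Injective s ∧ ∀ i j, Commute (s i) (s j) })

instance : Finite (CommTuple.Orbit G r) :=
  inferInstanceAs (Finite (Quotient (CommTuple.setoid G r)))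

/-- The weighted class of the centralizer of a subset. -/
noncomputable def wt (T : Set G) : K :=
  ((Nat.card (Subgroup.centralizer T) : ℚ) / (Nat.card G : ℚ)) • cl (Subgroup.centralizer T)

variable {G r}

theorem centralizer_equiv_of_smul (g : G) (s : CommTuple G r) :
    Nonempty (Subgroup.centralizer (Set.range s.1) ≃* Subgroup.centralizer (Set.range (g • s).1)) := by
  rw [← stabilizer_eq, ← stabilizer_eq]
  exact ⟨MulAction.stabilizerEquivStabilizer rfl⟩

theorem wt_smul (g : G) (s : CommTuple G r) :
    wt G (Set.range (g • s).1) = wt G (Set.range s.1) := by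
  obtain ⟨e⟩ := centralizer_equiv_of_smul g s
  unfold wt
  rw [cl_eq_of_equiv e, Nat.card_congr e.toEquiv]

theorem cl_smul (g : G) (s : CommTuple G r) :
    cl (Subgroup.centralizer (Set.range (g • s).1)) = cl (Subgroup.centralizer (Set.range s.1)) := by
  obtain ⟨e⟩ := centralizer_equiv_of_smul g s
  rw [cl_eq_of_equiv e]

theorem card_fiber_mul (O : CommTuple.Orbit G r) :
    Nat.card {s : CommTuple G r // Quotient.mk (CommTuple.setoid G r) s = O} *
      Nat.card (Subgroup.centralizer (Set.range (Quotient.out (s := CommTuple.setoid G r) O).1)) =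
      Nat.card G := by
  set s₀ := Quotient.out (s := CommTuple.setoid G r) O with hs₀
  have h1 : {s : CommTuple G r // Quotient.mk (CommTuple.setoid G r) s = O} ≃ MulAction.orbit G s₀ := by
    refine Equiv.subtypeEquivRight ?_
    intro s
    rw [MulAction.mem_orbit_iff]
    constructor
    · intro h
      have h2 : (CommTuple.setoid G r).r s₀ s := by
        apply Quotient.exact
        rw [h, hs₀]; exact Quotient.out_eq O
      exact (setoid_iff s₀ s).mp h2
    · rintro ⟨g, hg⟩
      have h2 : (CommTuple.setoid G r).r s₀ s := (setoid_iff s₀ s).mpr ⟨g, hg⟩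
      rw [← Quotient.sound h2, hs₀]; exact Quotient.out_eq O
  rw [Nat.card_congr h1, ← stabilizer_eq, ← Nat.card_prod]
  exact Nat.card_congr (MulAction.orbitProdStabilizerEquivGroup G s₀)

/-- Weighted form: the orbit sum defining `inertiaROf` equals a weighted sum over all tuples. -/
theorem inertiaROf_eq_sum [Fintype (CommTuple G r)] :
    inertiaROf r G = ∑ s : CommTuple G r, wt G (Set.range s.1) := by
  classical
  letI : Fintype (Quotient (CommTuple.setoid G r)) := Fintype.ofFinite _
  show (∑ᶠ O : Quotient (CommTuple.setoid G r),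
    cl (Subgroup.centralizer (Set.range (Quotient.out (s := CommTuple.setoid G r) O).1))) = _
  rw [finsum_eq_sum_of_fintype]
  rw [← Fintype.sum_fiberwise (fun s : CommTuple G r => Quotient.mk (CommTuple.setoid G r) s)
    (fun s => wt G (Set.range s.1))]
  apply Finset.sum_congr rfl
  intro O _
  set s₀ := Quotient.out (s := CommTuple.setoid G r) O with hs₀
  have hconst : ∀ a : {s : CommTuple G r // Quotient.mk (CommTuple.setoid G r) s = O},
      wt G (Set.range a.1.1) = wt G (Set.range s₀.1) := by
    rintro ⟨s, hs⟩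
    have h2 : (CommTuple.setoid G r).r s₀ s := by
      apply Quotient.exact
      rw [hs, hs₀]; exact Quotient.out_eq O
    obtain ⟨g, rfl⟩ := (setoid_iff s₀ s).mp h2
    exact wt_smul g s₀
  rw [Finset.sum_congr rfl (fun a _ => hconst a), Finset.sum_const, Finset.card_univ]
  have hcard := card_fiber_mul O
  rw [← hs₀] at hcard
  rw [← Nat.card_eq_fintype_card]
  unfold wt
  rw [← Nat.cast_smul_eq_nsmul ℚ, smul_smul]
  have hG : (Nat.card G : ℚ) ≠ 0 := by exact_mod_cast Nat.card_pos.ne'
  have : ((Nat.card {s : CommTuple G r // Quotient.mk (CommTuple.setoid G r) s = O} : ℕ) : ℚ) *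
      ((Nat.card (Subgroup.centralizer (Set.range s₀.1)) : ℚ) / (Nat.card G : ℚ)) = 1 := by
    rw [← mul_div_assoc, ← Nat.cast_mul, hcard, div_self hG]
  rw [this, one_smul]

end Weighted

/-! ## Invariance under isomorphism -/

section Iso

variable {G H : Type} [Group G] [Group H] {r : ℕ}

theorem centralizer_image_equiv (e : G ≃* H) (T : Set G) :
    Nonempty (Subgroup.centralizer T ≃* Subgroup.centralizer (e '' T)) := by
  have h : (Subgroup.centralizer T).map e.toMonoidHom = Subgroup.centralizer (e '' T) := by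
    ext x
    rw [Subgroup.mem_map, Subgroup.mem_centralizer_iff]
    constructor
    · rintro ⟨g, hg, rfl⟩ y ⟨t, ht, rfl⟩
      have := Subgroup.mem_centralizer_iff.mp hg t ht
      show e t * e g = e g * e t
      rw [← map_mul, ← map_mul, this]
    · intro hx
      refine ⟨e.symm x, ?_, by simp⟩
      rw [Subgroup.mem_centralizer_iff]
      intro t ht
      apply e.injective
      rw [map_mul, map_mul, e.apply_symm_apply]
      exact hx (e t) ⟨t, ht, rfl⟩
  exact ⟨(e.subgroupMap (Subgroup.centralizer T)).trans (MulEquiv.subgroupCongr h)⟩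

/-- Transport of commuting tuples along an isomorphism. -/
def mapTuple (e : G ≃* H) : CommTuple G r ≃ CommTuple H r where
  toFun s := ⟨fun i => e (s.1 i), e.injective.comp s.2.1, fun i j => (s.2.2 i j).map e⟩
  invFun t := ⟨fun i => e.symm (t.1 i), e.symm.injective.comp t.2.1, fun i j => (t.2.2 i j).map e.symm⟩
  left_inv s := by apply Subtype.ext; funext i; simp
  right_inv t := by apply Subtype.ext; funext i; simp

theorem range_mapTuple (e : G ≃* H) (s : CommTuple G r) :
    Set.range (mapTuple e s).1 = e '' Set.range s.1 := by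
  ext x
  constructor
  · rintro ⟨i, rfl⟩
    exact ⟨s.1 i, ⟨i, rfl⟩, rfl⟩
  · rintro ⟨_, ⟨i, rfl⟩, rfl⟩
    exact ⟨i, rfl⟩

variable [Finite G] [Finite H]

theorem wt_image (e : G ≃* H) (T : Set G) : wt H (e '' T) = wt G T := by
  obtain ⟨f⟩ := centralizer_image_equiv e T
  unfold wt
  rw [cl_eq_of_equiv f, Nat.card_congr f.toEquiv, Nat.card_congr e.toEquiv]

theorem inertiaROf_congr (e : G ≃* H) (r : ℕ) : inertiaROf r G = inertiaROf r H := by
  classical
  haveI : Fintype (CommTuple G r) := Fintype.ofFinite _
  haveI : Fintype (CommTuple H r) := Fintype.ofFinite _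
  rw [inertiaROf_eq_sum, inertiaROf_eq_sum]
  apply Fintype.sum_equiv (mapTuple e)
  intro s
  rw [range_mapTuple, wt_image]

theorem inertiaR_cl (G : Type) [Group G] [Finite G] (r : ℕ) : inertiaR r (cl G) = inertiaROf r G := by
  obtain ⟨e⟩ := idx_rep_of G
  unfold inertiaR cl
  rw [Finsupp.linearCombination_single, one_smul]
  exact inertiaROf_congr e r

theorem inertiaR_single (i : Idx) (r : ℕ) (c : ℚ) :
    inertiaR r (Finsupp.single i c) = c • inertiaROf r i.rep := by
  unfold inertiaR
  rw [Finsupp.linearCombination_single]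

theorem cl_rep (i : Idx) : cl i.rep = Finsupp.single i 1 := by
  unfold cl; rw [idx_of_rep]

end Iso

/-! ## The case `r = 1` -/

section One

variable {G : Type} [Group G]

/-- 1-tuples are elements. -/
def tuple1 : G ≃ CommTuple G 1 where
  toFun g := ⟨fun _ => g, fun i j _ => Subsingleton.elim i j, fun _ _ => Commute.refl g⟩
  invFun s := s.1 0
  left_inv g := rfl
  right_inv s := by
    apply Subtype.ext
    funext i
    have : i = 0 := Subsingleton.elim i 0
    subst this
    rfl

theorem range_tuple1 (g : G) : Set.range (tuple1 g).1 = {g} := by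
  ext x
  constructor
  · rintro ⟨i, rfl⟩; rfl
  · rintro rfl; exact ⟨0, rfl⟩

variable [Finite G]

theorem inertiaROf_one_eq_sum [Fintype G] : inertiaROf 1 G = ∑ g : G, wt G {g} := by
  classical
  haveI : Fintype (CommTuple G 1) := Fintype.ofFinite _
  rw [inertiaROf_eq_sum]
  symm
  apply Fintype.sum_equiv tuple1
  intro g
  rw [range_tuple1]

theorem wt_of_subset_center {T : Set G} (hT : T ⊆ Subgroup.center G) : wt G T = cl G := by
  have h : Subgroup.centralizer T = ⊤ := Subgroup.centralizer_eq_top_iff_subset.mpr hT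
  have e : Subgroup.centralizer T ≃* G := (MulEquiv.subgroupCongr h).trans Subgroup.topEquiv
  unfold wt
  rw [cl_eq_of_equiv e, Nat.card_congr e.toEquiv]
  have hG : (Nat.card G : ℚ) ≠ 0 := by exact_mod_cast Nat.card_pos.ne'
  rw [div_self hG, one_smul]

/-- The centre of the centralizer of a set containing a non-central element is strictly bigger than
the centre of the group. -/
theorem card_center_centralizer_ge {T : Set G} {g : G} (hgT : g ∈ T) (hg : g ∉ Subgroup.center G)
    (hcomm : ∀ a ∈ T, ∀ b ∈ T, a * b = b * a) :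
    Nat.card (Subgroup.center G) + 1 ≤ Nat.card (Subgroup.center (Subgroup.centralizer T)) := by
  classical
  have hTsub : ∀ a ∈ T, a ∈ Subgroup.centralizer T := by
    intro a ha
    rw [Subgroup.mem_centralizer_iff]
    intro b hb
    exact hcomm b hb a ha
  have hcen : ∀ z : Subgroup.center G, (z : G) ∈ Subgroup.centralizer T := by
    intro z
    rw [Subgroup.mem_centralizer_iff]
    intro b _
    exact (Subgroup.mem_center_iff.mp z.2 b)
  let φ : Option (Subgroup.center G) → Subgroup.center (Subgroup.centralizer T) := fun o =>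
    match o with
    | none => ⟨⟨g, hTsub g hgT⟩, by
        rw [Subgroup.mem_center_iff]
        intro x
        apply Subtype.ext
        have := Subgroup.mem_centralizer_iff.mp x.2 g hgT
        show (x : G) * g = g * (x : G)
        exact this.symm⟩
    | some z => ⟨⟨z, hcen z⟩, by
        rw [Subgroup.mem_center_iff]
        intro x
        apply Subtype.ext
        show (x : G) * (z : G) = (z : G) * (x : G)
        exact Subgroup.mem_center_iff.mp z.2 x⟩
  have hφ : Function.Injective φ := by
    intro a b hab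
    match a, b with
    | none, none => rfl
    | none, some z =>
      exfalso
      have : g = (z : G) := congrArg (fun w : Subgroup.center (Subgroup.centralizer T) => ((w : Subgroup.centralizer T) : G)) hab
      exact hg (this ▸ z.2)
    | some z, none =>
      exfalso
      have : (z : G) = g := congrArg (fun w : Subgroup.center (Subgroup.centralizer T) => ((w : Subgroup.centralizer T) : G)) hab
      exact hg (this ▸ z.2)
    | some z, some z' =>
      have : (z : G) = (z' : G) := congrArg (fun w : Subgroup.center (Subgroup.centralizer T) => ((w : Subgroup.centralizer T) : G)) hab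
      rw [Subtype.ext this]
  have := Nat.card_le_card_of_injective φ hφ
  rwa [Finite.card_option] at this

theorem cl_mem_Kge (H : Type) [Group H] [Finite H] (k : ℕ) (hk : k ≤ Nat.card (Subgroup.center H)) :
    cl H ∈ Kge k := by
  unfold cl Kge
  rw [Finsupp.mem_supported]
  intro i hi
  have hi' := Finsupp.support_single_subset hi
  have : i = Idx.of H := by simpa using hi'
  subst this
  show k ≤ (Idx.of H).centerCard
  rw [idx_centerCard_of]; exact hk

theorem cl_mem_Kle (H : Type) [Group H] [Finite H] (n : ℕ) (hn : Nat.card H ≤ n) :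
    cl H ∈ Kle n := by
  unfold cl Kle
  rw [Finsupp.mem_supported]
  intro i hi
  have hi' := Finsupp.support_single_subset hi
  have : i = Idx.of H := by simpa using hi'
  subst this
  show (Idx.of H).card ≤ n
  rw [idx_card_of]; exact hn

theorem wt_mem_Kge_of_not_center {T : Set G} {g : G} (hgT : g ∈ T) (hg : g ∉ Subgroup.center G)
    (hcomm : ∀ a ∈ T, ∀ b ∈ T, a * b = b * a) :
    wt G T ∈ Kge (Nat.card (Subgroup.center G) + 1) := by
  unfold wt
  exact Submodule.smul_mem _ _ (cl_mem_Kge _ _ (card_center_centralizer_ge hgT hg hcomm))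

theorem wt_mem_Kle (T : Set G) : wt G T ∈ Kle (Nat.card G) := by
  unfold wt
  exact Submodule.smul_mem _ _ (cl_mem_Kle _ _ (Subgroup.card_le_card_group _))

theorem Kge_anti {a b : ℕ} (h : a ≤ b) : Kge b ≤ Kge a := by
  unfold Kge
  apply Finsupp.supported_mono
  intro i hi
  exact le_trans h hi

theorem Kle_mono {a b : ℕ} (h : a ≤ b) : Kle a ≤ Kle b := by
  unfold Kle
  apply Finsupp.supported_mono
  intro i hi
  exact le_trans hi h

/-- The inertia of a group: central part plus a part with bigger centre. -/
theorem inertiaROf_one_decomp :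
    ∃ w : K, w ∈ Kge (Nat.card (Subgroup.center G) + 1) ∧ w ∈ Kle (Nat.card G) ∧
      inertiaROf 1 G = (Nat.card (Subgroup.center G) : ℚ) • cl G + w := by
  classical
  haveI : Fintype G := Fintype.ofFinite _
  refine ⟨∑ g ∈ Finset.univ.filter (fun g : G => g ∉ Subgroup.center G), wt G {g}, ?_, ?_, ?_⟩
  · apply Submodule.sum_mem
    intro g hg
    have hg' : g ∉ Subgroup.center G := (Finset.mem_filter.mp hg).2
    apply wt_mem_Kge_of_not_center (Set.mem_singleton g) hg'
    intro a ha b hb
    rw [Set.mem_singleton_iff] at ha hb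
    rw [ha, hb]
  · apply Submodule.sum_mem
    intro g _
    exact wt_mem_Kle _
  · rw [inertiaROf_one_eq_sum, ← Finset.sum_filter_add_sum_filter_not Finset.univ
      (fun g : G => g ∈ Subgroup.center G)]
    congr 1
    rw [Finset.sum_congr rfl (fun g hg => wt_of_subset_center (T := {g}) (by
      intro x hx
      rw [Set.mem_singleton_iff] at hx
      rw [hx]; exact (Finset.mem_filter.mp hg).2)), Finset.sum_const, ← Nat.cast_smul_eq_nsmul ℚ]
    congr 2
    rw [Nat.card_eq_fintype_card, Fintype.card_subtype]

end One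

/-! ## Filtrations -/

section Filtration

theorem map_mem_of_forall_single {s : Set Idx} (F : K →ₗ[ℚ] K) (W : Submodule ℚ K)
    (h : ∀ i ∈ s, F (Finsupp.single i 1) ∈ W) (v : K) (hv : v ∈ Finsupp.supported ℚ ℚ s) :
    F v ∈ W := by
  rw [← Finsupp.sum_single v, map_finsuppSum]
  apply Submodule.sum_mem
  intro i hi
  have hi' : i ∈ s := (Finsupp.mem_supported ℚ v).mp hv hi
  have : (Finsupp.single i (v i) : K) = (v i) • Finsupp.single i 1 := by
    rw [Finsupp.smul_single, smul_eq_mul, mul_one]
  show F (Finsupp.single i (v i)) ∈ W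
  rw [this, map_smul]
  exact Submodule.smul_mem _ _ (h i hi')

theorem single_mem_Kge {i : Idx} {k : ℕ} (h : k ≤ i.centerCard) : (Finsupp.single i 1 : K) ∈ Kge k := by
  unfold Kge
  rw [Finsupp.mem_supported]
  intro j hj
  have hj' := Finsupp.support_single_subset hj
  have : j = i := by simpa using hj'
  subst this
  exact h

theorem single_mem_Kle {i : Idx} {n : ℕ} (h : i.card ≤ n) : (Finsupp.single i 1 : K) ∈ Kle n := by
  unfold Kle
  rw [Finsupp.mem_supported]
  intro j hj
  have hj' := Finsupp.support_single_subset hj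
  have : j = i := by simpa using hj'
  subst this
  exact h

theorem inertia_single (i : Idx) : inertia (Finsupp.single i 1) = inertiaROf 1 i.rep := by
  show inertiaR 1 (Finsupp.single i 1) = _
  rw [inertiaR_single, one_smul]

/-- `inertia - k` maps `Kge k` into `Kge (k+1)`. -/
theorem inertia_sub_mem_Kge (k : ℕ) (v : K) (hv : v ∈ Kge k) :
    inertia v - (k : ℚ) • v ∈ Kge (k + 1) := by
  have := map_mem_of_forall_single (s := {j : Idx | k ≤ j.centerCard})
    (inertia - (k : ℚ) • LinearMap.id) (Kge (k + 1)) ?_ v hv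
  · simpa using this
  · intro i hi
    have hi' : k ≤ i.centerCard := hi
    obtain ⟨w, hw1, -, hw3⟩ := inertiaROf_one_decomp (G := i.rep)
    have hz : Nat.card (Subgroup.center i.rep) = i.centerCard := rfl
    rw [hz, cl_rep] at hw3
    rw [hz] at hw1
    show inertia (Finsupp.single i 1) - (k : ℚ) • (Finsupp.single i 1 : K) ∈ Kge (k + 1)
    rw [inertia_single, hw3]
    have : (i.centerCard : ℚ) • (Finsupp.single i 1 : K) + w - (k : ℚ) • Finsupp.single i 1 =
        ((i.centerCard : ℚ) - (k : ℚ)) • (Finsupp.single i 1 : K) + w := by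
      rw [sub_smul]; abel
    rw [this]
    apply Submodule.add_mem
    · rcases Nat.eq_or_lt_of_le hi' with heq | hlt
      · rw [heq, sub_self, zero_smul]; exact Submodule.zero_mem _
      · exact Submodule.smul_mem _ _ (single_mem_Kge hlt)
    · exact Kge_anti (Nat.succ_le_succ hi') hw1

/-- `inertia` preserves `Kge k`. -/
theorem inertia_mem_Kge (k : ℕ) (v : K) (hv : v ∈ Kge k) : inertia v ∈ Kge k := by
  have h1 := Kge_anti (Nat.le_succ k) (inertia_sub_mem_Kge k v hv)
  have h2 : (k : ℚ) • v ∈ Kge k := Submodule.smul_mem _ _ hv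
  have := Submodule.add_mem _ h1 h2
  simpa using this

/-- `inertia` preserves `Kle n`. -/
theorem inertia_mem_Kle (n : ℕ) (v : K) (hv : v ∈ Kle n) : inertia v ∈ Kle n := by
  refine map_mem_of_forall_single (s := {j : Idx | j.card ≤ n}) inertia (Kle n) ?_ v hv
  intro i hi
  have hi' : i.card ≤ n := hi
  obtain ⟨w, -, hw2, hw3⟩ := inertiaROf_one_decomp (G := i.rep)
  rw [inertia_single, hw3, cl_rep]
  apply Submodule.add_mem
  · exact Submodule.smul_mem _ _ (single_mem_Kle hi')
  · exact Kle_mono hi' hw2

theorem Kge_one : Kge 1 = ⊤ := by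
  unfold Kge
  rw [eq_top_iff]
  intro v _
  rw [Finsupp.mem_supported]
  intro i _
  show 1 ≤ i.centerCard
  exact Nat.card_pos

theorem Kle_inf_Kge_eq_bot (n : ℕ) : Kle n ⊓ Kge (n + 1) = ⊥ := by
  rw [eq_bot_iff]
  rintro v ⟨h1, h2⟩
  rw [Submodule.mem_bot]
  ext i
  by_contra hne
  have hi : i ∈ v.support := Finsupp.mem_support_iff.mpr hne
  have a1 : i.card ≤ n := (Finsupp.mem_supported ℚ v).mp h1 hi
  have a2 : n + 1 ≤ i.centerCard := (Finsupp.mem_supported ℚ v).mp h2 hi
  have a3 : i.centerCard ≤ i.card := Subgroup.card_le_card_group _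
  omega

theorem exists_mem_Kle (v : K) : ∃ n : ℕ, v ∈ Kle n := by
  refine ⟨v.support.sup Idx.card, ?_⟩
  unfold Kle
  rw [Finsupp.mem_supported]
  intro i hi
  exact Finset.le_sup (f := Idx.card) hi

end Filtration

/-! ## Annihilating polynomial and diagonalizability -/

section Diag

open Polynomial

/-- `∏_{k=1}^m (X - k)`. -/
noncomputable def prodPoly (m : ℕ) : ℚ[X] := ∏ k ∈ Finset.range m, (X - C (((k + 1 : ℕ) : ℚ)))

theorem prodPoly_succ (m : ℕ) : prodPoly (m + 1) = prodPoly m * (X - C (((m + 1 : ℕ) : ℚ))) := by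
  unfold prodPoly; rw [Finset.prod_range_succ]

theorem aeval_X_sub_C_apply (f : Module.End ℚ K) (c : ℚ) (v : K) :
    aeval f (X - C c) v = f v - c • v := by
  simp [Module.algebraMap_end_apply]

theorem aeval_prodPoly_mem (n m : ℕ) (v : K) (hv : v ∈ Kle n) :
    aeval inertia (prodPoly m) v ∈ Kle n ⊓ Kge (m + 1) := by
  induction m with
  | zero =>
    simp only [prodPoly, Finset.range_zero, Finset.prod_empty, map_one, Module.End.one_apply]
    rw [Kge_one]
    exact ⟨hv, trivial⟩
  | succ m ih =>
    rw [prodPoly_succ, mul_comm, map_mul, Module.End.mul_apply, aeval_X_sub_C_apply]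
    refine ⟨?_, ?_⟩
    · apply Submodule.sub_mem
      · exact inertia_mem_Kle n _ ih.1
      · exact Submodule.smul_mem _ _ ih.1
    · exact inertia_sub_mem_Kge (m + 1) _ ih.2

theorem aeval_prodPoly_eq_zero (n : ℕ) (v : K) (hv : v ∈ Kle n) :
    aeval inertia (prodPoly n) v = 0 := by
  have h := aeval_prodPoly_mem n n v hv
  rw [Kle_inf_Kge_eq_bot] at h
  exact (Submodule.mem_bot ℚ).mp h

theorem ker_aeval_X_sub_C (f : Module.End ℚ K) (c : ℚ) :
    LinearMap.ker (aeval f (X - C c)) = Module.End.eigenspace f c := by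
  ext v
  rw [LinearMap.mem_ker, aeval_X_sub_C_apply, Module.End.mem_eigenspace_iff, sub_eq_zero]

theorem ker_aeval_prodPoly_le (m : ℕ) :
    LinearMap.ker (aeval inertia (prodPoly m)) ≤ ⨆ k : ℕ, Module.End.eigenspace inertia (k : ℚ) := by
  induction m with
  | zero =>
    intro v hv
    simp only [prodPoly, Finset.range_zero, Finset.prod_empty, map_one, LinearMap.mem_ker,
      Module.End.one_apply] at hv
    rw [hv]; exact Submodule.zero_mem _
  | succ m ih =>
    rw [prodPoly_succ, ← sup_ker_aeval_eq_ker_aeval_mul_of_coprime]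
    · apply sup_le ih
      rw [ker_aeval_X_sub_C]
      exact le_iSup (fun k : ℕ => Module.End.eigenspace inertia (k : ℚ)) (m + 1)
    · unfold prodPoly
      apply IsCoprime.prod_left
      intro k hk
      apply isCoprime_X_sub_C_of_isUnit_sub
      apply IsUnit.mk0
      have : k < m := Finset.mem_range.mp hk
      have h2 : ((k + 1 : ℕ) : ℚ) ≠ ((m + 1 : ℕ) : ℚ) := by
        intro h; have := Nat.cast_injective h; omega
      exact sub_ne_zero.mpr h2

theorem iSup_eigenspace_eq_top :
    (⨆ n : ℕ, Module.End.eigenspace inertia (n : ℚ)) = ⊤ := by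
  rw [eq_top_iff]
  intro v _
  obtain ⟨n, hn⟩ := exists_mem_Kle v
  exact ker_aeval_prodPoly_le n (LinearMap.mem_ker.mpr (aeval_prodPoly_eq_zero n v hn))

theorem eval_prodPoly (m : ℕ) (μ : ℚ) :
    (prodPoly m).eval μ = ∏ k ∈ Finset.range m, (μ - ((k + 1 : ℕ) : ℚ)) := by
  unfold prodPoly
  rw [eval_prod]
  simp

theorem eigenvalue_is_pos_nat (μ : ℚ) (h : Module.End.HasEigenvalue inertia μ) :
    ∃ n : ℕ, 0 < n ∧ μ = (n : ℚ) := by
  obtain ⟨v, hv⟩ := h.exists_hasEigenvector
  obtain ⟨n, hn⟩ := exists_mem_Kle v
  have h0 := aeval_prodPoly_eq_zero n v hn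
  rw [Module.End.aeval_apply_of_hasEigenvector hv] at h0
  have h1 : (prodPoly n).eval μ = 0 := by
    rcases smul_eq_zero.mp h0 with h | h
    · exact h
    · exact absurd h hv.2
  rw [eval_prodPoly, Finset.prod_eq_zero_iff] at h1
  obtain ⟨k, -, hk⟩ := h1
  exact ⟨k + 1, Nat.succ_pos k, sub_eq_zero.mp hk⟩

theorem inertia_cl_of_comm (A : Type) [CommGroup A] [Finite A] :
    inertia (cl A) = (Nat.card A : ℚ) • cl A := by
  classical
  haveI : Fintype A := Fintype.ofFinite _
  show inertiaR 1 (cl A) = _
  rw [inertiaR_cl, inertiaROf_one_eq_sum]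
  rw [Finset.sum_congr rfl (fun g _ => wt_of_subset_center (G := A) (T := {g}) (by
    intro x _
    rw [CommGroup.center_eq_top]; trivial)), Finset.sum_const, ← Nat.cast_smul_eq_nsmul ℚ,
    Finset.card_univ, Nat.card_eq_fintype_card]

theorem cl_ne_zero (A : Type) [Group A] [Finite A] : cl A ≠ 0 := by
  unfold cl
  intro h
  have := Finsupp.single_eq_zero.mp h
  exact one_ne_zero this

theorem hasEigenvalue_of_pos (n : ℕ) (hn : 0 < n) : Module.End.HasEigenvalue inertia (n : ℚ) := by
  haveI : NeZero n := ⟨hn.ne'⟩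
  apply Module.End.hasEigenvalue_of_hasEigenvector (x := cl (Multiplicative (ZMod n)))
  refine ⟨?_, cl_ne_zero _⟩
  rw [Module.End.mem_eigenspace_iff, inertia_cl_of_comm]
  congr 2
  rw [Nat.card_congr Multiplicative.toAdd, Nat.card_zmod]

end Diag

/-! ## The recurrence `inertia ∘ I_r = I_{r+1} + r I_r` -/

section Recurrence

variable {G : Type} [Group G]

theorem centralizer_singleton_equiv (T : Set G) (h : Subgroup.centralizer T) :
    Nonempty (Subgroup.centralizer ({h} : Set (Subgroup.centralizer T)) ≃*
      Subgroup.centralizer (insert (h : G) T)) := by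
  have hmap : (Subgroup.centralizer ({h} : Set (Subgroup.centralizer T))).map
      (Subgroup.centralizer T).subtype = Subgroup.centralizer (insert (h : G) T) := by
    ext x
    rw [Subgroup.mem_map, Subgroup.mem_centralizer_iff]
    constructor
    · rintro ⟨y, hy, rfl⟩ t ht
      rcases ht with rfl | ht
      · have := Subgroup.mem_centralizer_iff.mp hy h rfl
        exact congrArg Subtype.val this
      · exact Subgroup.mem_centralizer_iff.mp y.2 t ht
    · intro hx
      have hxT : x ∈ Subgroup.centralizer T := by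
        rw [Subgroup.mem_centralizer_iff]
        intro t ht
        exact hx t (Set.mem_insert_of_mem _ ht)
      refine ⟨⟨x, hxT⟩, ?_, rfl⟩
      rw [Subgroup.mem_centralizer_iff]
      intro z hz
      rw [Set.mem_singleton_iff] at hz
      subst hz
      apply Subtype.ext
      exact hx z (Set.mem_insert _ _)
  exact ⟨(Subgroup.equivMapOfInjective _ _ (Subgroup.subtype_injective _)).trans
    (MulEquiv.subgroupCongr hmap)⟩

variable [Finite G]

theorem smul_wt_singleton (T : Set G) (h : Subgroup.centralizer T) :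
    ((Nat.card (Subgroup.centralizer T) : ℚ) / (Nat.card G : ℚ)) •
      wt (Subgroup.centralizer T) ({h} : Set (Subgroup.centralizer T)) = wt G (insert (h : G) T) := by
  obtain ⟨e⟩ := centralizer_singleton_equiv T h
  unfold wt
  rw [cl_eq_of_equiv e, Nat.card_congr e.toEquiv, smul_smul]
  congr 1
  have hH : (Nat.card (Subgroup.centralizer T) : ℚ) ≠ 0 := by exact_mod_cast Nat.card_pos.ne'
  field_simp

theorem inertia_wt (T : Set G) [Fintype (Subgroup.centralizer T)] :
    inertia (wt G T) = ∑ h : Subgroup.centralizer T, wt G (insert (h : G) T) := by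
  have h1 : inertia (wt G T) = ((Nat.card (Subgroup.centralizer T) : ℚ) / (Nat.card G : ℚ)) •
      inertiaROf 1 (Subgroup.centralizer T) := by
    unfold wt
    rw [map_smul]
    congr 1
    exact inertiaR_cl _ 1
  rw [h1, inertiaROf_one_eq_sum, Finset.smul_sum]
  apply Finset.sum_congr rfl
  intro h _
  exact smul_wt_singleton T h

variable {r : ℕ}

/-- Prepending an element. -/
def consTuple (s : CommTuple G r) (h : G) (hc : h ∈ Subgroup.centralizer (Set.range s.1))
    (hn : h ∉ Set.range s.1) : CommTuple G (r + 1) :=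
  ⟨Fin.cons h s.1, Fin.cons_injective_of_injective hn s.2.1, by
    have hcomm : ∀ i, s.1 i * h = h * s.1 i := fun i =>
      Subgroup.mem_centralizer_iff.mp hc (s.1 i) ⟨i, rfl⟩
    intro i j
    cases i using Fin.cases with
    | zero =>
      cases j using Fin.cases with
      | zero => exact Commute.refl _
      | succ j => simp only [Fin.cons_zero, Fin.cons_succ]; exact (hcomm j).symm
    | succ i =>
      cases j using Fin.cases with
      | zero => simp only [Fin.cons_zero, Fin.cons_succ]; exact hcomm i
      | succ j => simp only [Fin.cons_succ]; exact s.2.2 i j⟩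

/-- Dropping the first element. -/
def tailTuple (s' : CommTuple G (r + 1)) : CommTuple G r :=
  ⟨Fin.tail s'.1, fun i j hij => Fin.succ_injective _ (s'.2.1 hij), fun i j => s'.2.2 i.succ j.succ⟩

theorem head_mem_centralizer (s' : CommTuple G (r + 1)) :
    s'.1 0 ∈ Subgroup.centralizer (Set.range (tailTuple s').1) := by
  rw [Subgroup.mem_centralizer_iff]
  rintro _ ⟨i, rfl⟩
  exact s'.2.2 i.succ 0

theorem head_not_mem_range (s' : CommTuple G (r + 1)) : s'.1 0 ∉ Set.range (tailTuple s').1 := by
  rintro ⟨i, hi⟩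
  have := s'.2.1 hi
  exact Fin.succ_ne_zero i this

/-- `(r+1)`-tuples are `r`-tuples plus a new commuting element. -/
def consEquiv : (Σ s : CommTuple G r,
    {h : G // h ∈ Subgroup.centralizer (Set.range s.1) ∧ h ∉ Set.range s.1}) ≃ CommTuple G (r + 1) where
  toFun p := consTuple p.1 p.2.1 p.2.2.1 p.2.2.2
  invFun s' := ⟨tailTuple s', ⟨s'.1 0, head_mem_centralizer s', head_not_mem_range s'⟩⟩
  left_inv := by
    rintro ⟨s, ⟨h, hc, hn⟩⟩
    have h1 : tailTuple (consTuple s h hc hn) = s := by
      apply Subtype.ext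
      funext i
      show (Fin.cons h s.1 : Fin (r + 1) → G) i.succ = s.1 i
      simp
    refine Sigma.ext h1 ?_
    have h2 : (consTuple s h hc hn).1 0 = h := rfl
    -- heterogeneous equality of subtypes
    have key : ∀ (t : CommTuple G r) (ht : t = s)
        (x : {h : G // h ∈ Subgroup.centralizer (Set.range t.1) ∧ h ∉ Set.range t.1})
        (y : {h : G // h ∈ Subgroup.centralizer (Set.range s.1) ∧ h ∉ Set.range s.1}),
        x.1 = y.1 → HEq x y := by
      intro t ht x y hxy
      subst ht
      exact heq_of_eq (Subtype.ext hxy)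
    exact key _ h1 _ _ h2
  right_inv := by
    intro s'
    apply Subtype.ext
    show Fin.cons (s'.1 0) (Fin.tail s'.1) = s'.1
    exact Fin.cons_self_tail _

theorem range_consTuple (s : CommTuple G r) (h : G) (hc hn) :
    Set.range (consTuple s h hc hn).1 = insert h (Set.range s.1) := Fin.range_cons h s.1

theorem range_subset_centralizer (s : CommTuple G r) :
    Set.range s.1 ⊆ Subgroup.centralizer (Set.range s.1) := by
  rintro _ ⟨i, rfl⟩
  show s.1 i ∈ Subgroup.centralizer (Set.range s.1)
  rw [Subgroup.mem_centralizer_iff]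
  rintro _ ⟨j, rfl⟩
  exact s.2.2 j i

/-- Splitting the sum over the centralizer of a tuple. -/
theorem sum_centralizer_split (s : CommTuple G r) (f : G → K)
    [Fintype (Subgroup.centralizer (Set.range s.1))]
    [Fintype {h : G // h ∈ Subgroup.centralizer (Set.range s.1) ∧ h ∉ Set.range s.1}] :
    ∑ h : Subgroup.centralizer (Set.range s.1), f h =
      ∑ h : {h : G // h ∈ Subgroup.centralizer (Set.range s.1) ∧ h ∉ Set.range s.1}, f h +
        ∑ i : Fin r, f (s.1 i) := by
  classical
  haveI : Fintype G := Fintype.ofFinite _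
  have e1 : ∑ h : Subgroup.centralizer (Set.range s.1), f h =
      ∑ h ∈ Finset.univ.filter (fun h : G => h ∈ Subgroup.centralizer (Set.range s.1)), f h := by
    symm
    exact Finset.sum_subtype _ (by simp) f
  have e2 : ∑ h : {h : G // h ∈ Subgroup.centralizer (Set.range s.1) ∧ h ∉ Set.range s.1}, f h =
      ∑ h ∈ (Finset.univ.filter (fun h : G => h ∈ Subgroup.centralizer (Set.range s.1))).filter
        (fun h => ¬ h ∈ Set.range s.1), f h := by
    symm
    exact Finset.sum_subtype _ (by simp) f
  have e3 : ∑ i : Fin r, f (s.1 i) =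
      ∑ h ∈ (Finset.univ.filter (fun h : G => h ∈ Subgroup.centralizer (Set.range s.1))).filter
        (fun h => h ∈ Set.range s.1), f h := by
    have : (Finset.univ.filter (fun h : G => h ∈ Subgroup.centralizer (Set.range s.1))).filter
        (fun h => h ∈ Set.range s.1) = Finset.univ.image s.1 := by
      ext x
      simp only [Finset.mem_filter, Finset.mem_univ, true_and, Finset.mem_image, Set.mem_range]
      constructor
      · rintro ⟨-, i, hi⟩; exact ⟨i, hi⟩
      · rintro ⟨i, hi⟩; exact ⟨range_subset_centralizer s ⟨i, hi⟩, i, hi⟩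
    rw [this, Finset.sum_image (fun a _ b _ hab => s.2.1 hab)]
  rw [e1, e2, e3, add_comm]
  exact (Finset.sum_filter_add_sum_filter_not _ _ _).symm

/-- The recurrence on group level. -/
theorem inertia_inertiaROf (G : Type) [Group G] [Finite G] (r : ℕ) :
    inertia (inertiaROf r G) = inertiaROf (r + 1) G + (r : ℚ) • inertiaROf r G := by
  classical
  haveI : Fintype G := Fintype.ofFinite _
  haveI : Fintype (CommTuple G r) := Fintype.ofFinite _
  haveI : Fintype (CommTuple G (r + 1)) := Fintype.ofFinite _
  rw [inertiaROf_eq_sum, inertiaROf_eq_sum, map_sum]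
  have step : ∀ s : CommTuple G r, inertia (wt G (Set.range s.1)) =
      ∑ h : {h : G // h ∈ Subgroup.centralizer (Set.range s.1) ∧ h ∉ Set.range s.1},
        wt G (insert (h : G) (Set.range s.1)) + (r : ℚ) • wt G (Set.range s.1) := by
    intro s
    rw [inertia_wt, sum_centralizer_split s (fun h => wt G (insert h (Set.range s.1)))]
    congr 1
    rw [Finset.sum_congr rfl (fun i _ => by
      rw [Set.insert_eq_of_mem (Set.mem_range_self i)]), Finset.sum_const, Finset.card_univ,
      Fintype.card_fin, ← Nat.cast_smul_eq_nsmul ℚ]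
  rw [Finset.sum_congr rfl (fun s _ => step s), Finset.sum_add_distrib, ← Finset.smul_sum]
  congr 1
  refine (Fintype.sum_sigma (fun p : (Σ s : CommTuple G r,
    {h : G // h ∈ Subgroup.centralizer (Set.range s.1) ∧ h ∉ Set.range s.1}) =>
      wt G (insert (p.2 : G) (Set.range p.1.1)))).symm.trans ?_
  apply Fintype.sum_equiv consEquiv
  rintro ⟨s, ⟨h, hc, hn⟩⟩
  show wt G (insert h (Set.range s.1)) = wt G (Set.range (consTuple s h hc hn).1)
  rw [range_consTuple]

end Recurrence

/-! ## `inertiaR r` as a polynomial in `inertia` -/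

section Poly

open Polynomial

theorem inertiaROf_zero (G : Type) [Group G] [Finite G] : inertiaROf 0 G = cl G := by
  classical
  haveI : Fintype (CommTuple G 0) := Fintype.ofFinite _
  rw [inertiaROf_eq_sum]
  have hsub : Subsingleton (CommTuple G 0) := by
    constructor
    intro a b
    apply Subtype.ext
    funext i
    exact i.elim0
  have hne : Nonempty (CommTuple G 0) :=
    ⟨⟨fun i => i.elim0, fun i => i.elim0, fun i => i.elim0⟩⟩
  obtain ⟨s₀⟩ := hne
  rw [Fintype.sum_subsingleton _ s₀]
  apply wt_of_subset_center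
  rintro _ ⟨i, -⟩
  exact i.elim0

theorem inertiaR_zero : inertiaR 0 = LinearMap.id := by
  apply Finsupp.lhom_ext
  intro i c
  rw [inertiaR_single, inertiaROf_zero, cl_rep, LinearMap.id_apply, Finsupp.smul_single,
    smul_eq_mul, mul_one]

theorem inertiaR_succ (r : ℕ) :
    inertiaR (r + 1) = (inertia - (r : ℚ) • LinearMap.id) ∘ₗ inertiaR r := by
  apply Finsupp.lhom_ext
  intro i c
  rw [LinearMap.comp_apply, inertiaR_single, inertiaR_single, map_smul, LinearMap.sub_apply,
    LinearMap.smul_apply, LinearMap.id_apply, inertia_inertiaROf, add_sub_cancel_right]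

theorem inertiaR_eq_aeval (r : ℕ) : inertiaR r = aeval inertia (descPochhammer ℚ r) := by
  induction r with
  | zero => rw [inertiaR_zero, descPochhammer_zero, map_one]; rfl
  | succ r ih =>
    rw [inertiaR_succ, descPochhammer_succ_right, mul_comm, map_mul, ih]
    congr 1
    have : ((r : ℚ) • LinearMap.id : Module.End ℚ K) = ((r : ℕ) : Module.End ℚ K) := by
      rw [← Module.End.one_eq_id, ← Algebra.algebraMap_eq_smul_one, map_natCast]
    simp [this]

theorem inertiaR_apply_of_mem_eigenspace (r k : ℕ) (v : K)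
    (hv : v ∈ Module.End.eigenspace inertia (k : ℚ)) :
    inertiaR r v = ((Nat.factorial r * Nat.choose k r : ℕ) : ℚ) • v := by
  rw [inertiaR_eq_aeval,
    Module.End.aeval_apply_of_mem_apply_eq_smul (Module.End.mem_eigenspace_iff.mp hv),
    descPochhammer_eval_eq_descFactorial, Nat.descFactorial_eq_factorial_mul_choose]

theorem aeval_mem_of_invariant (f : Module.End ℚ K) (W : Submodule ℚ K)
    (hf : ∀ w ∈ W, f w ∈ W) (q : ℚ[X]) : ∀ w ∈ W, aeval f q w ∈ W := by
  have hpow : ∀ n : ℕ, ∀ w ∈ W, (f ^ n) w ∈ W := by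
    intro n
    induction n with
    | zero => intro w hw; simpa using hw
    | succ n ih =>
      intro w hw
      rw [pow_succ, Module.End.mul_apply]
      exact ih _ (hf w hw)
  induction q using Polynomial.induction_on' with
  | add p q hp hq =>
    intro w hw
    rw [map_add, LinearMap.add_apply]
    exact W.add_mem (hp w hw) (hq w hw)
  | monomial n a =>
    intro w hw
    rw [aeval_monomial, Module.End.mul_apply, Module.algebraMap_end_apply]
    exact W.smul_mem _ (hpow n w hw)

/-- S18022. -/
theorem inertiaR_sub_smul_mem_Kge (r k : ℕ) (v : K) (hv : v ∈ Kge k) :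
    inertiaR r v - ((Nat.factorial r * Nat.choose k r : ℕ) : ℚ) • v ∈ Kge (k + 1) := by
  set p := descPochhammer ℚ r with hp
  obtain ⟨q, hq⟩ : (X - C (k : ℚ)) ∣ p - C (p.eval (k : ℚ)) := X_sub_C_dvd_sub_C_eval
  have hpe : p.eval (k : ℚ) = ((Nat.factorial r * Nat.choose k r : ℕ) : ℚ) := by
    rw [hp, descPochhammer_eval_eq_descFactorial, Nat.descFactorial_eq_factorial_mul_choose]
  have h1 : inertiaR r v - ((Nat.factorial r * Nat.choose k r : ℕ) : ℚ) • v =
      aeval inertia (p - C (p.eval (k : ℚ))) v := by
    rw [map_sub, LinearMap.sub_apply, ← inertiaR_eq_aeval, aeval_C, Module.algebraMap_end_apply, hpe]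
  rw [h1, hq, mul_comm, map_mul, Module.End.mul_apply, aeval_X_sub_C_apply]
  exact aeval_mem_of_invariant inertia (Kge (k + 1)) (inertia_mem_Kge (k + 1)) q _
    (inertia_sub_mem_Kge k v hv)

theorem isCoprime_descPochhammer (r m : ℕ) (h : r ≤ m) :
    IsCoprime (descPochhammer ℚ r) (X - C (m : ℚ)) := by
  induction r with
  | zero => rw [descPochhammer_zero]; exact isCoprime_one_left
  | succ r ih =>
    rw [descPochhammer_succ_right]
    apply IsCoprime.mul_left (ih (Nat.le_of_succ_le h))
    rw [← map_natCast C r]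
    apply isCoprime_X_sub_C_of_isUnit_sub
    apply IsUnit.mk0
    have : (r : ℚ) ≠ (m : ℚ) := by
      intro h'; have := Nat.cast_injective h'; omega
    exact sub_ne_zero.mpr this

/-- S18024. -/
theorem ker_inertiaR (r : ℕ) :
    LinearMap.ker (inertiaR r) = ⨆ k ∈ Finset.range r, Module.End.eigenspace inertia (k : ℚ) := by
  induction r with
  | zero =>
    rw [inertiaR_zero]
    simp
  | succ r ih =>
    rw [inertiaR_eq_aeval, descPochhammer_succ_right, ← map_natCast C r,
      ← sup_ker_aeval_eq_ker_aeval_mul_of_coprime _ (isCoprime_descPochhammer r r le_rfl),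
      ← inertiaR_eq_aeval, ih, ker_aeval_X_sub_C, Finset.range_add_one, Finset.iSup_insert, sup_comm]

end Poly

/-! ## Eigenprojections -/

section Proj

/-- Binomial inversion. -/
theorem binomial_inversion (j k N : ℕ) (hj : j < N) :
    ∑ r ∈ Finset.range N, ((-1 : ℤ) ^ (r + k) * (r.choose k : ℤ) * (j.choose r : ℤ)) =
      if j = k then 1 else 0 := by
  have h1 : ∑ r ∈ Finset.range N, ((-1 : ℤ) ^ (r + k) * (r.choose k : ℤ) * (j.choose r : ℤ)) =
      ∑ r ∈ Finset.range (j + 1), ((-1 : ℤ) ^ (r + k) * (r.choose k : ℤ) * (j.choose r : ℤ)) := by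
    symm
    apply Finset.sum_subset
    · intro r hr
      rw [Finset.mem_range] at hr ⊢
      omega
    · intro r _ hr
      rw [Finset.mem_range] at hr
      rw [Nat.choose_eq_zero_of_lt (show j < r by omega)]
      simp
  rw [h1]
  rcases Nat.lt_or_ge j k with hlt | hle
  · rw [if_neg (by omega)]
    apply Finset.sum_eq_zero
    intro r hr
    rw [Finset.mem_range] at hr
    rw [Nat.choose_eq_zero_of_lt (by omega : r < k)]
    simp
  · obtain ⟨d, rfl⟩ := Nat.exists_eq_add_of_le hle
    rw [show k + d + 1 = k + (d + 1) by ring, Finset.sum_range_add]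
    have hz : ∑ r ∈ Finset.range k, ((-1 : ℤ) ^ (r + k) * (r.choose k : ℤ) * ((k + d).choose r : ℤ)) = 0 := by
      apply Finset.sum_eq_zero
      intro r hr
      rw [Finset.mem_range] at hr
      rw [Nat.choose_eq_zero_of_lt hr]
      simp
    rw [hz, zero_add]
    have hterm : ∀ m ∈ Finset.range (d + 1),
        ((-1 : ℤ) ^ (k + m + k) * ((k + m).choose k : ℤ) * ((k + d).choose (k + m) : ℤ)) =
          ((k + d).choose k : ℤ) * ((-1 : ℤ) ^ m * (d.choose m : ℤ)) := by
      intro m _
      have hc := Nat.choose_mul (n := k + d) (k := k + m) (s := k) (by omega)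
      rw [show k + d - k = d by omega, show k + m - k = m by omega] at hc
      have hpow : (-1 : ℤ) ^ (k + m + k) = (-1 : ℤ) ^ m := by
        rw [show k + m + k = m + 2 * k by ring, pow_add, pow_mul]
        simp
      rw [hpow]
      have hc' : (((k + d).choose (k + m) : ℕ) : ℤ) * ((k + m).choose k : ℤ) =
          ((k + d).choose k : ℤ) * (d.choose m : ℤ) := by exact_mod_cast hc
      calc (-1 : ℤ) ^ m * ((k + m).choose k : ℤ) * ((k + d).choose (k + m) : ℤ)
          = (-1 : ℤ) ^ m * ((((k + d).choose (k + m) : ℕ) : ℤ) * ((k + m).choose k : ℤ)) := by ring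
        _ = _ := by rw [hc']; ring
    rw [Finset.sum_congr rfl hterm, ← Finset.mul_sum, Int.alternating_sum_range_choose]
    by_cases hd : d = 0
    · subst hd
      simp
    · rw [if_neg hd, if_neg (by omega)]
      simp

/-- The coefficient in the eigenprojection formula. -/
noncomputable def coef (r k : ℕ) : ℚ :=
  ((-1 : ℚ) ^ (r + k)) / (Nat.factorial r : ℚ) * (Nat.choose r k : ℚ)

theorem coef_sum (j k N : ℕ) (hj : j < N) :
    ∑ r ∈ Finset.range N, coef r k * ((Nat.factorial r * Nat.choose j r : ℕ) : ℚ) =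
      if j = k then 1 else 0 := by
  have h := binomial_inversion j k N hj
  have h' := congrArg (fun z : ℤ => (z : ℚ)) h
  simp only [Int.cast_sum, Int.cast_mul, Int.cast_pow, Int.cast_neg, Int.cast_one, Int.cast_natCast,
    Int.cast_ite, Int.cast_zero] at h'
  rw [← h']
  apply Finset.sum_congr rfl
  intro r _
  unfold coef
  have hr : (Nat.factorial r : ℚ) ≠ 0 := by exact_mod_cast Nat.factorial_ne_zero r
  push_cast
  field_simp

/-- S18025 core: decomposition into eigenvectors and the action of the projections. -/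
theorem eigenprojection (v : K) :
    (∀ k : ℕ, (∑ᶠ r : ℕ, coef r k • inertiaR r v) ∈ Module.End.eigenspace inertia (k : ℚ)) ∧
    (∑ᶠ k : ℕ, ∑ᶠ r : ℕ, coef r k • inertiaR r v) = v := by
  classical
  have hv : v ∈ ⨆ n : ℕ, Module.End.eigenspace inertia (n : ℚ) := by
    rw [iSup_eigenspace_eq_top]; trivial
  obtain ⟨J, hJ⟩ := Submodule.mem_iSup_iff_exists_finset.mp hv
  obtain ⟨μ, hμ⟩ := (Submodule.mem_iSup_finset_iff_exists_sum _ _).mp hJ
  set N := J.sup id + 1 with hN
  have hJN : ∀ j ∈ J, j < N := fun j hj => Nat.lt_succ_of_le (Finset.le_sup (f := id) hj)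
  have hI : ∀ r : ℕ, inertiaR r v =
      ∑ j ∈ J, ((Nat.factorial r * Nat.choose j r : ℕ) : ℚ) • (μ j : K) := by
    intro r
    rw [← hμ, map_sum]
    apply Finset.sum_congr rfl
    intro j _
    exact inertiaR_apply_of_mem_eigenspace r j _ (μ j).2
  have hzero : ∀ r : ℕ, N ≤ r → inertiaR r v = 0 := by
    intro r hr
    rw [hI]
    apply Finset.sum_eq_zero
    intro j hj
    rw [Nat.choose_eq_zero_of_lt (lt_of_lt_of_le (hJN j hj) hr)]
    simp
  have hP : ∀ k : ℕ, (∑ᶠ r : ℕ, coef r k • inertiaR r v) = if k ∈ J then (μ k : K) else 0 := by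
    intro k
    rw [finsum_eq_sum_of_support_subset (s := Finset.range N)]
    · calc ∑ r ∈ Finset.range N, coef r k • inertiaR r v
          = ∑ r ∈ Finset.range N, ∑ j ∈ J,
              (coef r k * ((Nat.factorial r * Nat.choose j r : ℕ) : ℚ)) • (μ j : K) := by
            apply Finset.sum_congr rfl
            intro r _
            rw [hI, Finset.smul_sum]
            apply Finset.sum_congr rfl
            intro j _
            rw [smul_smul]
        _ = ∑ j ∈ J, (∑ r ∈ Finset.range N,
              coef r k * ((Nat.factorial r * Nat.choose j r : ℕ) : ℚ)) • (μ j : K) := by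
            rw [Finset.sum_comm]
            apply Finset.sum_congr rfl
            intro j _
            rw [Finset.sum_smul]
        _ = ∑ j ∈ J, (if j = k then (1 : ℚ) else 0) • (μ j : K) := by
            apply Finset.sum_congr rfl
            intro j hj
            rw [coef_sum j k N (hJN j hj)]
        _ = if k ∈ J then (μ k : K) else 0 := by
            simp [ite_smul]
    · intro r hr
      rw [Function.mem_support] at hr
      rw [Finset.coe_range, Set.mem_Iio]
      by_contra hcon
      exact hr (by rw [hzero r (not_lt.mp hcon), smul_zero])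
  refine ⟨?_, ?_⟩
  · intro k
    rw [hP]
    split_ifs
    · exact (μ k).2
    · exact Submodule.zero_mem _
  · rw [finsum_congr hP, finsum_eq_sum_of_support_subset (s := J)]
    · rw [← hμ]
      apply Finset.sum_congr rfl
      intro k hk
      rw [if_pos hk]
    · intro k hk
      rw [Function.mem_support] at hk
      by_contra hcon
      exact hk (if_neg hcon)

end Proj

end Groth.Agent.Lib.Helper96.Inertia
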