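import Mathlib

/-!
# Necessity of the Jacobian criterion for hypersurfaces

If `g` is a non-zero-divisor of `P = R[X_i : i ∈ σ]` (σ finite) and `P ⧸ (g)` is formally smooth over
`R`, then `1 ∈ (g, ∂g/∂X_i)`.  Also the general formula `D f = ∑ i, ∂f/∂X_i • D (X i)` for a
derivation on a polynomial ring in finitely many variables.
-/

open MvPolynomial KaehlerDifferential TensorProduct

namespace Groth.Agent.Lib.Helper96

universe u v w

theorem derivation_eq_sum_pderiv {R : Type u} [CommRing R] {σ : Type v} [Fintype σ] [DecidableEq σ]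
    {M : Type w} [AddCommGroup M] [Module R M] [Module (MvPolynomial σ R) M]
    [IsScalarTower R (MvPolynomial σ R) M]
    (D : Derivation R (MvPolynomial σ R) M) (f : MvPolynomial σ R) :
    D f = ∑ i, pderiv i f • D (X i) := by
  induction f using MvPolynomial.induction_on with
  | C a => simp
  | add p q hp hq => simp [hp, hq, add_smul, Finset.sum_add_distrib]
  | mul_X p j hp =>
    rw [Derivation.leibniz]
    have h1 : ∀ i : σ, pderiv i (p * X j) • D (X i) =
        p • (pderiv i (X j : MvPolynomial σ R) • D (X i)) +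
          (X j : MvPolynomial σ R) • (pderiv i p • D (X i)) := by
      intro i
      rw [Derivation.leibniz, add_smul, smul_eq_mul, smul_eq_mul, mul_smul, mul_smul]
    simp only [h1, Finset.sum_add_distrib, ← Finset.smul_sum, ← hp]
    congr 2
    rw [Finset.sum_eq_single j]
    · simp
    · intro i _ hij
      rw [pderiv_X_of_ne (Ne.symm hij), zero_smul]
    · intro h; exact absurd (Finset.mem_univ j) h

/-- Necessity of the Jacobian criterion for a hypersurface `P ⧸ (g)`, `g` a non-zero-divisor. -/
theorem exists_jacobian_relation_of_formallySmooth {R : Type u} [CommRing R] {σ : Type v}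
    [Fintype σ] (g : MvPolynomial σ R) (hg : g ∈ nonZeroDivisors (MvPolynomial σ R))
    (hs : Algebra.FormallySmooth R (MvPolynomial σ R ⧸ Ideal.span ({g} : Set (MvPolynomial σ R)))) :
    ∃ (c : σ → MvPolynomial σ R) (h : MvPolynomial σ R), ∑ i, c i * pderiv i g + h * g = 1 := by
  classical
  let P := MvPolynomial σ R
  let I : Ideal P := Ideal.span ({g} : Set P)
  let A := P ⧸ I
  have hI : I = Ideal.span ({g} : Set P) := rfl
  have hsurj : Function.Surjective (algebraMap P A) := Ideal.Quotient.mk_surjective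
  obtain ⟨l, hl⟩ := (Algebra.FormallySmooth.iff_split_injection (R := R) hsurj).mp hs
  have hker : RingHom.ker (algebraMap P A) = I := Ideal.mk_ker
  let K : Ideal P := RingHom.ker (algebraMap P A)
  have hKI : K = I := hker
  have hgK : g ∈ K := by rw [hKI]; exact Ideal.mem_span_singleton_self g
  have e1 : l (kerCotangentToTensor R P A (K.toCotangent ⟨g, hgK⟩)) = K.toCotangent ⟨g, hgK⟩ :=
    LinearMap.congr_fun hl (K.toCotangent ⟨g, hgK⟩)
  rw [kerCotangentToTensor_toCotangent] at e1
  have e2 : (D R P g) = ∑ i, pderiv i g • D R P (X i) := derivation_eq_sum_pderiv (D R P) g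
  -- choose lifts
  have hc : ∀ i : σ, ∃ c : P, ∃ hc : c * g ∈ K,
      l ((1 : A) ⊗ₜ[P] D R P (X i)) = K.toCotangent ⟨c * g, hc⟩ := by
    intro i
    obtain ⟨y, hy⟩ := K.toCotangent_surjective (l ((1 : A) ⊗ₜ[P] D R P (X i)))
    have hy2 : (y : P) ∈ I := hKI ▸ y.2
    obtain ⟨c, hc⟩ := Ideal.mem_span_singleton'.mp hy2
    refine ⟨c, by rw [hc]; exact y.2, ?_⟩
    rw [← hy]
    congr 1
    exact Subtype.ext hc.symm
  choose c hcK hc using hc
  refine ⟨c, ?_⟩
  have e3 : l ((1 : A) ⊗ₜ[P] D R P g) =
      K.toCotangent ⟨∑ i, pderiv i g * (c i * g), K.sum_mem fun i _ => K.mul_mem_left _ (hcK i)⟩ := by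
    rw [e2, TensorProduct.tmul_sum, map_sum]
    have : ∀ i, l ((1 : A) ⊗ₜ[P] (pderiv i g • D R P (X i))) =
        K.toCotangent (pderiv i g • ⟨c i * g, hcK i⟩) := by
      intro i
      rw [TensorProduct.tmul_smul, map_smul, hc i, map_smul]
    simp only [this, ← map_sum]
    congr 1
    apply Subtype.ext
    simp
  rw [e3, Ideal.toCotangent_eq] at e1
  simp only at e1
  rw [hKI, hI, Ideal.span_singleton_pow, Ideal.mem_span_singleton'] at e1
  obtain ⟨a, ha⟩ := e1
  refine ⟨-a, ?_⟩
  have hreg := (mem_nonZeroDivisors_iff.mp hg)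
  have : (∑ i, c i * pderiv i g + -a * g - 1) * g = 0 := by
    have : ∑ i, pderiv i g * (c i * g) = (∑ i, c i * pderiv i g) * g := by
      rw [Finset.sum_mul]; refine Finset.sum_congr rfl fun i _ => by ring
    rw [this] at ha
    linear_combination -ha
  have := hreg.2 _ this
  linear_combination this

end Groth.Agent.Lib.Helper96
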