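import Mathlib
import Groth.Agent.Lib.Helper96.JacobianNec

/-!
# Smoothness of plane charts `k[t,w]/(F(t) + G(t) w)` and `k[t,w]/(F(t) w + G(t))`

* `smooth_quot_of_pderiv_isUnit`: `R[X0,X1]/(g)` is smooth if some partial derivative of `g` is a
  unit modulo `g`.
* `smooth_chart_add`, `smooth_chart_mul`: if `F, G` are coprime the two charts are smooth.
* `not_smooth_charts`: over a field, if `F, G` are not both zero and not coprime then the two
  charts are not both smooth.
-/

open MvPolynomial

namespace Groth.Agent.Lib.Helper96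

universe u

theorem smooth_quot_of_pderiv_isUnit (R : Type u) [CommRing R] (j : Fin 2)
    (g : MvPolynomial (Fin 2) R)
    (h : IsUnit (Ideal.Quotient.mk (Ideal.span ({g} : Set (MvPolynomial (Fin 2) R))) (pderiv j g))) :
    Algebra.Smooth R (MvPolynomial (Fin 2) R ⧸ Ideal.span ({g} : Set (MvPolynomial (Fin 2) R))) := by
  let v : Unit → MvPolynomial (Fin 2) R := fun _ => g
  have hv : ({g} : Set (MvPolynomial (Fin 2) R)) = Set.range v := Set.range_const.symm
  rw [hv] at h ⊢
  let P : Algebra.PreSubmersivePresentation R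
      (MvPolynomial (Fin 2) R ⧸ Ideal.span (Set.range v)) (Fin 2) Unit :=
    Algebra.PreSubmersivePresentation.naive (R := R) (v := v) (fun _ : Unit => j)
    (fun _ _ _ => rfl)
  have hj : IsUnit P.jacobian := by
    rw [P.jacobian_eq_jacobiMatrix_det, Matrix.det_unique]
    have : P.jacobiMatrix default default = pderiv j g :=
      Algebra.PreSubmersivePresentation.jacobiMatrix_naive _ _ _ _ _ _
    rw [this]
    convert h using 1
    rfl
  let Q : Algebra.SubmersivePresentation R _ (Fin 2) Unit := { P with jacobian_isUnit := hj }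
  have := Q.isStandardSmooth
  infer_instance

/-- The embedding `R[t] → R[X0, X1]`, `t ↦ X0`. -/
noncomputable abbrev polyToMv (R : Type u) [CommRing R] :
    Polynomial R →ₐ[R] MvPolynomial (Fin 2) R := Polynomial.aeval (X 0)

theorem pderiv_one_polyToMv {R : Type u} [CommRing R] (F : Polynomial R) :
    pderiv (1 : Fin 2) (polyToMv R F) = 0 := by
  induction F using Polynomial.induction_on' with
  | add p q hp hq => simp only [map_add, hp, hq, add_zero]
  | monomial n a =>
    have h01 : (1 : Fin 2) ≠ 0 := by decide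
    simp [polyToMv, Polynomial.aeval_monomial, MvPolynomial.algebraMap_eq, Derivation.leibniz_pow,
      pderiv_X_of_ne h01.symm]

theorem pderiv_zero_polyToMv {R : Type u} [CommRing R] (F : Polynomial R) :
    pderiv (0 : Fin 2) (polyToMv R F) = polyToMv R (Polynomial.derivative F) := by
  induction F using Polynomial.induction_on' with
  | add p q hp hq => simp only [map_add, hp, hq]
  | monomial n a =>
    rcases n with _ | n
    · simp [polyToMv, MvPolynomial.algebraMap_eq]
    · simp [polyToMv, Polynomial.aeval_monomial, MvPolynomial.algebraMap_eq,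
        Derivation.leibniz_pow, mul_comm, mul_assoc]

theorem smooth_chart_add {R : Type u} [CommRing R] (F G : Polynomial R) (h : IsCoprime F G) :
    Algebra.Smooth R (MvPolynomial (Fin 2) R ⧸
      Ideal.span ({polyToMv R F + polyToMv R G * X 1} : Set (MvPolynomial (Fin 2) R))) := by
  apply smooth_quot_of_pderiv_isUnit R 1
  have hp : pderiv (1 : Fin 2) (polyToMv R F + polyToMv R G * X 1) = polyToMv R G := by
    rw [map_add, Derivation.leibniz, pderiv_one_polyToMv, pderiv_one_polyToMv, pderiv_X_self]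
    simp
  rw [hp]
  obtain ⟨a, b, hab⟩ := h
  refine IsUnit.of_mul_eq_one (Ideal.Quotient.mk _ (polyToMv R b - polyToMv R a * X 1)) ?_
  rw [← map_mul, ← map_one (Ideal.Quotient.mk _), ← sub_eq_zero, ← map_sub,
    Ideal.Quotient.eq_zero_iff_mem, Ideal.mem_span_singleton]
  refine ⟨- polyToMv R a, ?_⟩
  have := congrArg (polyToMv R) hab
  simp only [map_add, map_mul, map_one] at this
  linear_combination this

theorem smooth_chart_mul {R : Type u} [CommRing R] (F G : Polynomial R) (h : IsCoprime F G) :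
    Algebra.Smooth R (MvPolynomial (Fin 2) R ⧸
      Ideal.span ({polyToMv R F * X 1 + polyToMv R G} : Set (MvPolynomial (Fin 2) R))) := by
  apply smooth_quot_of_pderiv_isUnit R 1
  have hp : pderiv (1 : Fin 2) (polyToMv R F * X 1 + polyToMv R G) = polyToMv R F := by
    rw [map_add, Derivation.leibniz, pderiv_one_polyToMv, pderiv_one_polyToMv, pderiv_X_self]
    simp
  rw [hp]
  obtain ⟨a, b, hab⟩ := h
  refine IsUnit.of_mul_eq_one (Ideal.Quotient.mk _ (polyToMv R a - polyToMv R b * X 1)) ?_
  rw [← map_mul, ← map_one (Ideal.Quotient.mk _), ← sub_eq_zero, ← map_sub,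
    Ideal.Quotient.eq_zero_iff_mem, Ideal.mem_span_singleton]
  refine ⟨- polyToMv R b, ?_⟩
  have := congrArg (polyToMv R) hab
  simp only [map_add, map_mul, map_one] at this
  linear_combination this

theorem algHom_polyToMv {R : Type u} [CommRing R] {B : Type*} [CommRing B] [Algebra R B]
    (φ : MvPolynomial (Fin 2) R →ₐ[R] B) (H : Polynomial R) :
    φ (polyToMv R H) = Polynomial.aeval (φ (X 0)) H :=
  (Polynomial.aeval_algHom_apply φ (X 0) H).symm

theorem chart_add_ne_zero {R : Type u} [CommRing R] (F G : Polynomial R) (hFG : F ≠ 0 ∨ G ≠ 0) :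
    polyToMv R F + polyToMv R G * X 1 ≠ 0 := by
  intro h0
  let ρ : MvPolynomial (Fin 2) R →ₐ[R] Polynomial R := MvPolynomial.aeval ![Polynomial.X, 0]
  let ρ' : MvPolynomial (Fin 2) R →ₐ[R] Polynomial R := MvPolynomial.aeval ![Polynomial.X, 1]
  have e1 := congrArg ρ h0
  have e2 := congrArg ρ' h0
  simp only [map_add, map_mul, map_zero, algHom_polyToMv] at e1 e2
  simp [ρ, ρ'] at e1 e2
  rcases hFG with h | h
  · exact h e1
  · exact h (by rw [e1] at e2; simpa using e2)

theorem chart_mul_ne_zero {R : Type u} [CommRing R] (F G : Polynomial R) (hFG : F ≠ 0 ∨ G ≠ 0) :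
    polyToMv R F * X 1 + polyToMv R G ≠ 0 := by
  intro h0
  let ρ : MvPolynomial (Fin 2) R →ₐ[R] Polynomial R := MvPolynomial.aeval ![Polynomial.X, 0]
  let ρ' : MvPolynomial (Fin 2) R →ₐ[R] Polynomial R := MvPolynomial.aeval ![Polynomial.X, 1]
  have e1 := congrArg ρ h0
  have e2 := congrArg ρ' h0
  simp only [map_add, map_mul, map_zero, algHom_polyToMv] at e1 e2
  simp [ρ, ρ'] at e1 e2
  rcases hFG with h | h
  · exact h (by rw [e1] at e2; simpa using e2)
  · exact h e1

theorem not_smooth_charts {k : Type u} [Field k] (F G : Polynomial k) (hFG : F ≠ 0 ∨ G ≠ 0)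
    (h : ¬ IsCoprime F G) :
    ¬ (Algebra.Smooth k (MvPolynomial (Fin 2) k ⧸
        Ideal.span ({polyToMv k F + polyToMv k G * X 1} : Set (MvPolynomial (Fin 2) k))) ∧
      Algebra.Smooth k (MvPolynomial (Fin 2) k ⧸
        Ideal.span ({polyToMv k F * X 1 + polyToMv k G} : Set (MvPolynomial (Fin 2) k)))) := by
  classical
  rintro ⟨h1, h2⟩
  have hd : ¬ IsUnit (EuclideanDomain.gcd F G) :=
    fun hu => h (EuclideanDomain.gcd_isUnit_iff.mp hu)
  have hd0 : EuclideanDomain.gcd F G ≠ 0 := by
    intro h0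
    rw [EuclideanDomain.gcd_eq_zero_iff] at h0
    rcases hFG with h | h
    · exact h h0.1
    · exact h h0.2
  obtain ⟨p, hp, hpd⟩ := WfDvdMonoid.exists_irreducible_factor hd hd0
  have hpF : p ∣ F := hpd.trans (EuclideanDomain.gcd_dvd_left F G)
  have hpG : p ∣ G := hpd.trans (EuclideanDomain.gcd_dvd_right F G)
  have : Fact (Irreducible p) := ⟨hp⟩
  let t₀ : AdjoinRoot p := AdjoinRoot.root p
  let ev : MvPolynomial (Fin 2) k →ₐ[k] Polynomial (AdjoinRoot p) :=
    MvPolynomial.aeval ![Polynomial.C t₀, Polynomial.X]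
  have hev : ∀ H : Polynomial k, ev (polyToMv k H) = Polynomial.C (Polynomial.aeval t₀ H) := by
    intro H
    rw [algHom_polyToMv]
    have : ev (X 0) = (Polynomial.CAlgHom : AdjoinRoot p →ₐ[k] Polynomial (AdjoinRoot p)) t₀ := by
      simp [ev]
    rw [this, Polynomial.aeval_algHom_apply]
    rfl
  have hevX : ev (X 1) = Polynomial.X := by simp [ev]
  have hF0 : Polynomial.aeval t₀ F = 0 := by
    rw [AdjoinRoot.aeval_eq, AdjoinRoot.mk_eq_zero]; exact hpF
  have hG0 : Polynomial.aeval t₀ G = 0 := by
    rw [AdjoinRoot.aeval_eq, AdjoinRoot.mk_eq_zero]; exact hpG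
  set α := Polynomial.aeval t₀ (Polynomial.derivative F) with hα
  set β := Polynomial.aeval t₀ (Polynomial.derivative G) with hβ
  have hnzd : ∀ g : MvPolynomial (Fin 2) k, g ≠ 0 → g ∈ nonZeroDivisors (MvPolynomial (Fin 2) k) :=
    fun g hg => mem_nonZeroDivisors_of_ne_zero hg
  obtain ⟨c, a, hc⟩ := exists_jacobian_relation_of_formallySmooth _
    (hnzd _ (chart_add_ne_zero F G hFG)) h1.formallySmooth
  obtain ⟨c', a', hc'⟩ := exists_jacobian_relation_of_formallySmooth _
    (hnzd _ (chart_mul_ne_zero F G hFG)) h2.formallySmooth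
  rw [Fin.sum_univ_two] at hc hc'
  have e1 := congrArg ev hc
  have e2 := congrArg ev hc'
  simp only [map_add, map_mul, map_one, Derivation.leibniz, pderiv_one_polyToMv,
    pderiv_zero_polyToMv, hev, hevX, hF0, hG0, smul_eq_mul, pderiv_X_self] at e1 e2
  have h01 : (0 : Fin 2) ≠ 1 := by decide
  simp only [pderiv_X_of_ne h01.symm, map_zero, mul_zero, zero_mul, add_zero, zero_add, mul_one,
    ← hα, ← hβ] at e1 e2
  have u1 : IsUnit (Polynomial.C α + Polynomial.C β * Polynomial.X : Polynomial (AdjoinRoot p)) :=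
    IsUnit.of_mul_eq_one _ (by rw [mul_comm]; convert e1 using 2; ring)
  have u2 : IsUnit (Polynomial.C α * Polynomial.X + Polynomial.C β : Polynomial (AdjoinRoot p)) :=
    IsUnit.of_mul_eq_one _ (by rw [mul_comm]; convert e2 using 2; ring)
  have hβ0 : β = 0 := by
    have := Polynomial.natDegree_eq_zero_of_isUnit u1
    have h2 := Polynomial.coeff_eq_zero_of_natDegree_lt (n := 1) (by rw [this]; exact Nat.one_pos)
    simpa using h2
  have hα0 : α = 0 := by
    have := Polynomial.natDegree_eq_zero_of_isUnit u2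
    have h2 := Polynomial.coeff_eq_zero_of_natDegree_lt (n := 1) (by rw [this]; exact Nat.one_pos)
    simpa using h2
  rw [hα0, hβ0] at u1
  simp at u1

end Groth.Agent.Lib.Helper96
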