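import Mathlib
import Groth.Agent.Lib.Helper96.RegularFibres

/-!
# Regular morphisms, part 2: base change of the residue field and fppf descent (helper96)
-/

set_option autoImplicit false
set_option linter.style.haveILetI false

universe u

namespace Groth.Agent.Lib.Helper96.RegularFibres

open TensorProduct CategoryTheory CategoryTheory.Limits AlgebraicGeometry

section Abstract

variable {F : Scheme.{u}} {κ : Type u} [Field κ] (gF : F ⟶ Spec (.of κ))

/-- All stalks of all finite base field extensions of the `κ`-scheme `F` are regular. -/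
def StalksRegular : Prop :=
  ∀ (K : Type u) [Field K] [Algebra κ K], Module.Finite κ K →
    ∀ x' : ↥(pullback gF (Spec.map (CommRingCat.ofHom (algebraMap κ K)))),
      IsRegularLocalRing
        ((pullback gF (Spec.map (CommRingCat.ofHom (algebraMap κ K)))).presheaf.stalk x')

/-- The `κ`-algebra structure on sections of a `κ`-scheme. -/
noncomputable abbrev secAlgebra (W : F.Opens) : Algebra κ ↑Γ(F, W) :=
  ((Scheme.ΓSpecIso (.of κ)).inv ≫ gF.appTop ≫ F.presheaf.map (homOfLE le_top).op).hom.toAlgebra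

theorem stalksRegular_iff_affine [IsLocallyNoetherian F] :
    StalksRegular gF ↔ ∀ (W : F.Opens), IsAffineOpen W →
      letI := secAlgebra gF W
      CAlg.IsGeometricallyRegular κ ↑Γ(F, W) := by
  constructor
  · intro H W hW
    letI := secAlgebra gF W
    intro K _ _ hfin
    haveI := hfin
    haveI : IsNoetherianRing Γ(F, W) :=
      IsLocallyNoetherian.component_noetherian ⟨W, hW⟩
    haveI : IsNoetherianRing (K ⊗[κ] Γ(F, W)) :=
      isNoetherianRing_tensor_of_finite _ _ _
    rw [regular_chart_iff_field (κ := κ) (C := Γ(F, W)) gF hW.fromSpec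
      (fromSpec_comp_eq _ hW)]
    intro x' _
    exact H K hfin x'
  · intro H K _ _ hfin x'
    obtain ⟨_, ⟨W, hW, rfl⟩, hxW, -⟩ := F.isBasis_affineOpens.exists_subset_of_mem_open
      (Set.mem_univ ((pullback.fst gF
        (Spec.map (CommRingCat.ofHom (algebraMap κ K)))) x')) isOpen_univ
    letI := secAlgebra gF W
    haveI := H W hW K hfin
    haveI : IsOpenImmersion (hW.fromSpec : Spec (.of Γ(F, W)) ⟶ F) :=
      hW.isOpenImmersion_fromSpec
    refine (regular_chart_iff_field (κ := κ) (C := Γ(F, W))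
      gF hW.fromSpec (fromSpec_comp_eq _ hW)).mp inferInstance x' ?_
    rw [hW.range_fromSpec]
    exact hxW

theorem fibreStalksRegular_iff_stalksRegular {X Y : Scheme.{u}} (f : X ⟶ Y) (y : Y) :
    FibreStalksRegular f y ↔
      StalksRegular (κ := Y.residueField y) (f.fiberToSpecResidueField y) := Iff.rfl

end Abstract

section BaseChange

variable {F : Scheme.{u}} {κ : Type u} [Field κ] (gF : F ⟶ Spec (.of κ))
  {F' : Scheme.{u}} {κ' : Type u} [Field κ'] [Algebra κ κ'] (gF' : F' ⟶ Spec (.of κ'))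
  (θ : F' ⟶ F)
  (hpb : IsPullback θ gF' gF (Spec.map (CommRingCat.ofHom (algebraMap κ κ'))))

include hpb in
theorem exists_chart_baseChange {C : Type u} [CommRing C] [Algebra κ C]
    (j : Spec (.of C) ⟶ F) [IsOpenImmersion j]
    (hj : j ≫ gF = Spec.map (CommRingCat.ofHom (algebraMap κ C))) :
    ∃ j' : Spec (.of (κ' ⊗[κ] C)) ⟶ F', IsOpenImmersion j' ∧
      Set.range j' = θ ⁻¹' (Set.range j) ∧
      j' ≫ gF' = Spec.map (CommRingCat.ofHom (algebraMap κ' (κ' ⊗[κ] C))) := by
  let i₁ : Spec (.of (κ' ⊗[κ] C)) ≅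
      pullback (Spec.map (CommRingCat.ofHom (algebraMap κ κ')))
        (Spec.map (CommRingCat.ofHom (algebraMap κ C))) := (pullbackSpecIso κ κ' C).symm
  let j'' : Spec (.of (κ' ⊗[κ] C)) ⟶
      pullback gF (Spec.map (CommRingCat.ofHom (algebraMap κ κ'))) :=
    i₁.hom ≫ (pullbackSymmetry _ _).hom ≫ chartBC (K := κ') gF j hj
  have hrange'' : Set.range j'' =
      (pullback.fst gF (Spec.map (CommRingCat.ofHom (algebraMap κ κ')))) ⁻¹' (Set.range j) := by
    have hsurj : Function.Surjective (i₁.hom ≫ (pullbackSymmetry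
        (Spec.map (CommRingCat.ofHom (algebraMap κ κ')))
        (Spec.map (CommRingCat.ofHom (algebraMap κ C)))).hom) :=
      (i₁ ≪≫ pullbackSymmetry _ _).hom.homeomorph.surjective
    rw [← range_chartBC gF j hj]
    change Set.range ((i₁.hom ≫ (pullbackSymmetry _ _).hom) ≫ chartBC (K := κ') gF j hj) = _
    rw [Scheme.Hom.comp_base, TopCat.coe_comp, Set.range_comp, hsurj.range_eq, Set.image_univ]
  refine ⟨j'' ≫ hpb.isoPullback.inv, inferInstance, ?_, ?_⟩
  · ext x
    constructor
    · rintro ⟨z, rfl⟩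
      have h1 : θ ((j'' ≫ hpb.isoPullback.inv) z) =
          (pullback.fst gF (Spec.map (CommRingCat.ofHom (algebraMap κ κ')))) (j'' z) := by
        rw [← Scheme.Hom.comp_apply, Category.assoc, hpb.isoPullback_inv_fst]
        rfl
      change θ _ ∈ Set.range j
      rw [h1]
      have : j'' z ∈ Set.range j'' := ⟨z, rfl⟩
      rw [hrange''] at this
      exact this
    · intro hx
      have h2 : hpb.isoPullback.hom x ∈ Set.range j'' := by
        rw [hrange'']
        change (pullback.fst gF _) (hpb.isoPullback.hom x) ∈ Set.range j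
        rw [← Scheme.Hom.comp_apply, hpb.isoPullback_hom_fst]
        exact hx
      obtain ⟨z, hz⟩ := h2
      refine ⟨z, ?_⟩
      rw [Scheme.Hom.comp_apply, hz, ← Scheme.Hom.comp_apply, Iso.hom_inv_id]
      rfl
  · change (i₁.hom ≫ (pullbackSymmetry _ _).hom ≫ chartBC (K := κ') gF j hj) ≫
      hpb.isoPullback.inv ≫ gF' = _
    rw [hpb.isoPullback_inv_snd, Category.assoc, Category.assoc, chartBC_snd,
      pullbackSymmetry_hom_comp_snd]
    exact pullbackSpecIso_inv_fst κ κ' C

include hpb in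
theorem isLocallyNoetherian_of_baseChange [IsLocallyNoetherian F'] : IsLocallyNoetherian F := by
  refine ⟨fun W => ?_⟩
  letI := secAlgebra gF W.1
  haveI : IsOpenImmersion (W.2.fromSpec : Spec (.of Γ(F, W.1)) ⟶ F) :=
    W.2.isOpenImmersion_fromSpec
  obtain ⟨j', hj'1, hj'2, hj'3⟩ := exists_chart_baseChange gF gF' θ hpb (C := Γ(F, W.1))
    W.2.fromSpec (fromSpec_comp_eq _ W.2)
  haveI : IsLocallyNoetherian (Spec (.of (κ' ⊗[κ] Γ(F, W.1)))) :=
    isLocallyNoetherian_of_isOpenImmersion j'
  haveI : IsNoetherianRing (κ' ⊗[κ] Γ(F, W.1)) := isLocallyNoetherian_Spec.mp ‹_›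
  haveI : IsNoetherianRing (Γ(F, W.1) ⊗[κ] κ') :=
    isNoetherianRing_of_ringEquiv _ (Algebra.TensorProduct.comm κ κ' _).toRingEquiv
  exact isNoetherianRing_of_faithfullyFlat Γ(F, W.1) (Γ(F, W.1) ⊗[κ] κ')

include hpb in
theorem isLocallyNoetherian_baseChange [Algebra.EssFiniteType κ κ'] [IsLocallyNoetherian F] :
    IsLocallyNoetherian F' := by
  have key : ∀ x : F', ∃ U : F'.affineOpens, x ∈ U.1 ∧ IsNoetherianRing Γ(F', U.1) := by
    intro x
    obtain ⟨_, ⟨W, hW, rfl⟩, hxW, -⟩ := F.isBasis_affineOpens.exists_subset_of_mem_open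
      (Set.mem_univ (θ x)) isOpen_univ
    letI := secAlgebra gF W
    haveI : IsOpenImmersion (hW.fromSpec : Spec (.of Γ(F, W)) ⟶ F) :=
      hW.isOpenImmersion_fromSpec
    obtain ⟨j', hj'1, hj'2, hj'3⟩ := exists_chart_baseChange gF gF' θ hpb (C := Γ(F, W))
      hW.fromSpec (fromSpec_comp_eq _ hW)
    haveI := hj'1
    refine ⟨⟨j'.opensRange, isAffineOpen_opensRange j'⟩, ?_, ?_⟩
    · change x ∈ Set.range j'
      rw [hj'2, hW.range_fromSpec]
      exact hxW
    · haveI : IsNoetherianRing Γ(F, W) := IsLocallyNoetherian.component_noetherian ⟨W, hW⟩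
      haveI : IsNoetherianRing (Γ(F, W) ⊗[κ] κ') :=
        Algebra.EssFiniteType.isNoetherianRing Γ(F, W) _
      haveI : IsNoetherianRing (κ' ⊗[κ] Γ(F, W)) :=
        isNoetherianRing_of_ringEquiv _ (Algebra.TensorProduct.comm κ _ κ').toRingEquiv
      exact isNoetherianRing_of_ringEquiv (κ' ⊗[κ] Γ(F, W))
        ((Scheme.ΓSpecIso (.of (κ' ⊗[κ] Γ(F, W)))).symm ≪≫
          IsOpenImmersion.ΓIsoTop j').commRingCatIsoToRingEquiv
  choose S hS1 hS2 using key
  exact isLocallyNoetherian_of_affine_cover (S := S)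
    (eq_top_iff.mpr fun x _ => TopologicalSpace.Opens.mem_iSup.mpr ⟨x, hS1 x⟩) hS2

include hpb in
theorem stalksRegular_baseChange_iff [IsLocallyNoetherian F] [IsLocallyNoetherian F'] :
    StalksRegular gF ↔ StalksRegular gF' := by
  have hchart : ∀ (W : F.Opens) (hW : IsAffineOpen W),
      letI := secAlgebra gF W
      IsNoetherianRing Γ(F, W) ∧ IsNoetherianRing (κ' ⊗[κ] Γ(F, W)) ∧
      ∃ j' : Spec (.of (κ' ⊗[κ] Γ(F, W))) ⟶ F', IsOpenImmersion j' ∧
        Set.range j' = θ ⁻¹' (W : Set F) ∧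
        j' ≫ gF' = Spec.map (CommRingCat.ofHom (algebraMap κ' (κ' ⊗[κ] Γ(F, W)))) := by
    intro W hW
    letI := secAlgebra gF W
    haveI : IsOpenImmersion (hW.fromSpec : Spec (.of Γ(F, W)) ⟶ F) :=
      hW.isOpenImmersion_fromSpec
    obtain ⟨j', hj'1, hj'2, hj'3⟩ := exists_chart_baseChange gF gF' θ hpb (C := Γ(F, W))
      hW.fromSpec (fromSpec_comp_eq _ hW)
    haveI : IsLocallyNoetherian (Spec (.of (κ' ⊗[κ] Γ(F, W)))) :=
      isLocallyNoetherian_of_isOpenImmersion j'
    refine ⟨IsLocallyNoetherian.component_noetherian ⟨W, hW⟩, isLocallyNoetherian_Spec.mp ‹_›,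
      j', hj'1, ?_, hj'3⟩
    rw [hj'2, hW.range_fromSpec]
  constructor
  · intro H K' _ _ hfin x'
    obtain ⟨_, ⟨W, hW, rfl⟩, hxW, -⟩ := F.isBasis_affineOpens.exists_subset_of_mem_open
      (Set.mem_univ (θ ((pullback.fst gF'
        (Spec.map (CommRingCat.ofHom (algebraMap κ' K')))) x'))) isOpen_univ
    letI := secAlgebra gF W
    obtain ⟨hN1, hN2, j', hj'1, hj'2, hj'3⟩ := hchart W hW
    have hGR : CAlg.IsGeometricallyRegular κ Γ(F, W) := (stalksRegular_iff_affine gF).mp H W hW
    have hGR' := isGeometricallyRegular_baseChange κ κ' Γ(F, W) hGR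
    haveI := hGR' K' hfin
    refine (regular_chart_iff_field (κ := κ') (C := κ' ⊗[κ] Γ(F, W)) gF' j' hj'3).mp
      inferInstance x' ?_
    rw [hj'2]
    exact hxW
  · intro H
    rw [stalksRegular_iff_affine]
    intro W hW
    letI := secAlgebra gF W
    obtain ⟨hN1, hN2, j', hj'1, hj'2, hj'3⟩ := hchart W hW
    apply isGeometricallyRegular_of_baseChange κ κ' Γ(F, W)
    intro K' _ _ hfin
    haveI := hfin
    haveI : IsNoetherianRing (K' ⊗[κ'] (κ' ⊗[κ] Γ(F, W))) :=
      isNoetherianRing_tensor_of_finite _ _ _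
    rw [regular_chart_iff_field (κ := κ') (C := κ' ⊗[κ] Γ(F, W)) gF' j' hj'3]
    intro x' _
    exact H K' hfin x'

end BaseChange

section Descent

variable {X Y X' Y' : Scheme.{u}} (f : X ⟶ Y) (f' : X' ⟶ Y') (g' : X' ⟶ X) (g : Y' ⟶ Y)
  (hc : IsPullback g' f' f g) (y' : Y')

include hc in
lemma fibreMap_aux :
    (f'.fiberι y' ≫ g') ≫ f =
      (f'.fiberToSpecResidueField y' ≫ Spec.map (g.residueFieldMap y')) ≫
        Y.fromSpecResidueField (g y') := by
  rw [Category.assoc, hc.w, ← Category.assoc, f'.fiber_fac y', Category.assoc, Category.assoc,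
    Scheme.Hom.SpecMap_residueFieldMap_fromSpecResidueField]

/-- The map from the fibre of the base change to the fibre. -/
noncomputable def fibreMap : f'.fiber y' ⟶ f.fiber (g y') :=
  pullback.lift (f'.fiberι y' ≫ g')
    (f'.fiberToSpecResidueField y' ≫ Spec.map (g.residueFieldMap y'))
    (fibreMap_aux f f' g' g hc y')

lemma fibreMap_fiberι :
    fibreMap f f' g' g hc y' ≫ f.fiberι (g y') = f'.fiberι y' ≫ g' :=
  pullback.lift_fst _ _ _

lemma fibreMap_fiberToSpecResidueField :
    fibreMap f f' g' g hc y' ≫ f.fiberToSpecResidueField (g y') =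
      f'.fiberToSpecResidueField y' ≫ Spec.map (g.residueFieldMap y') :=
  pullback.lift_snd _ _ _

lemma isPullback_fibreMap :
    IsPullback (fibreMap f f' g' g hc y') (f'.fiberToSpecResidueField y')
      (f.fiberToSpecResidueField (g y')) (Spec.map (g.residueFieldMap y')) := by
  have h1 : IsPullback (f'.fiberι y') (f'.fiberToSpecResidueField y') f'
      (Y'.fromSpecResidueField y') := IsPullback.of_hasPullback _ _
  have h2 : IsPullback (f'.fiberι y' ≫ g') (f'.fiberToSpecResidueField y') f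
      (Y'.fromSpecResidueField y' ≫ g) := h1.paste_horiz hc
  have h3 : IsPullback (f.fiberι (g y')) (f.fiberToSpecResidueField (g y')) f
      (Y.fromSpecResidueField (g y')) := IsPullback.of_hasPullback _ _
  refine IsPullback.of_right ?_ (fibreMap_fiberToSpecResidueField f f' g' g hc y') h3
  rw [fibreMap_fiberι, Scheme.Hom.SpecMap_residueFieldMap_fromSpecResidueField]
  exact h2

end Descent

section FlatDescent

open MorphismProperty

theorem flat_codescendsAlong_faithfullyFlat :
    RingHom.CodescendsAlong RingHom.Flat RingHom.FaithfullyFlat := by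
  refine .mk _ RingHom.Flat.respectsIso fun R S T _ _ _ _ _ h h' ↦ ?_
  rw [RingHom.flat_algebraMap_iff] at h' ⊢
  rw [RingHom.faithfullyFlat_algebraMap_iff] at h
  exact Module.Flat.of_flat_tensorProduct R T S

instance flat_descendsAlong_fpqc :
    DescendsAlong @Flat (@Surjective ⊓ @Flat ⊓ @QuasiCompact) :=
  HasRingHomProperty.descendsAlong_flat flat_codescendsAlong_faithfullyFlat

set_option backward.isDefEq.respectTransparency.types false in
theorem flat_of_isPullback_of_fppf {X Y X' Y' : Scheme.{u}} (f : X ⟶ Y) (f' : X' ⟶ Y')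
    (g' : X' ⟶ X) (g : Y' ⟶ Y) [Flat g] [LocallyOfFinitePresentation g] [Surjective g]
    (hc : IsPullback g' f' f g) [Flat f'] : Flat f :=
  MorphismProperty.of_isPullback_of_descendsAlong (P := @Flat)
    (Q := @Surjective ⊓ @Flat ⊓ @LocallyOfFinitePresentation) hc.flip
    ⟨⟨inferInstance, inferInstance⟩, inferInstance⟩ inferInstance

end FlatDescent

section Assembly

variable {X Y : Scheme.{u}} (f : X ⟶ Y)

/-- All ring maps between affine opens are regular. -/
def AffineRegular : Prop :=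
  ∀ (U : X.Opens) (V : Y.Opens) (hU : IsAffineOpen U) (hV : IsAffineOpen V) (hUV : U ≤ f ⁻¹ᵁ V),
    letI := (f.appLE V U hUV).hom.toAlgebra
    CAlg.IsRegularHom Γ(Y, V) Γ(X, U)

theorem AffineRegular.flat (H : AffineRegular f) : Flat f := by
  rw [HasRingHomProperty.iff_appLE (P := @Flat)]
  intro V U e
  exact (H U.1 V.1 U.2 V.2 e).1

theorem AffineRegular.fibreStalksRegular (H : AffineRegular f) (y : Y) :
    FibreStalksRegular f y := by
  intro K _ _ hfin x'
  have hfx : (f.fiberι y ((pullback.fst (f.fiberToSpecResidueField y)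
      (Spec.map (CommRingCat.ofHom (algebraMap (Y.residueField y) K)))) x')) ∈ f ⁻¹' {y} := by
    rw [← f.range_fiberι y]
    exact ⟨_, rfl⟩
  obtain ⟨_, ⟨V, hV, rfl⟩, hyV, -⟩ := Y.isBasis_affineOpens.exists_subset_of_mem_open
    (Set.mem_univ y) isOpen_univ
  have hxV : (f.fiberι y ((pullback.fst (f.fiberToSpecResidueField y)
      (Spec.map (CommRingCat.ofHom (algebraMap (Y.residueField y) K)))) x')) ∈
      ((f ⁻¹ᵁ V : X.Opens) : Set X) := by
    have h1 : f (f.fiberι y ((pullback.fst (f.fiberToSpecResidueField y)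
      (Spec.map (CommRingCat.ofHom (algebraMap (Y.residueField y) K)))) x')) = y := hfx
    change f _ ∈ V
    rw [h1]
    exact hyV
  obtain ⟨_, ⟨U, hU, rfl⟩, hxU, hUV⟩ := X.isBasis_affineOpens.exists_subset_of_mem_open
    hxV (f ⁻¹ᵁ V).isOpen
  refine regular_stalk_of_fibreRegular f hV hU hUV y hyV ?_ K hfin x' hxU
  letI : Algebra Γ(Y, V) Γ(X, U) := (f.appLE V U hUV).hom.toAlgebra
  letI : Algebra Γ(Y, V) ↑(Y.residueField y) := (Y.evaluation V y hyV).hom.toAlgebra
  haveI : (RingHom.ker (Y.evaluation V y hyV).hom).IsPrime := RingHom.ker_isPrime _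
  obtain ⟨σ, hσ⟩ := exists_residueField_equiv hV y hyV
    (RingHom.ker (Y.evaluation V y hyV).hom) rfl
  exact fibreRegular_of_ringEquiv σ hσ ((isRegularHom_fibre_iff _ _ _).mp
    ((H U V hU hV hUV).2 (RingHom.ker (Y.evaluation V y hyV).hom)))

theorem affineRegular_of_flat_of_fibreStalksRegular [Flat f]
    (hN : ∀ y : Y, IsLocallyNoetherian (f.fiber y)) (hS : ∀ y : Y, FibreStalksRegular f y) :
    AffineRegular f := by
  intro U V hU hV hUV
  letI : Algebra Γ(Y, V) Γ(X, U) := (f.appLE V U hUV).hom.toAlgebra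
  refine ⟨?_, fun p hp => ?_⟩
  · exact (HasRingHomProperty.iff_appLE (P := @Flat)).mp ‹Flat f› ⟨V, hV⟩ ⟨U, hU⟩ hUV
  · have hy : hV.fromSpec ⟨p, hp⟩ ∈ V := by
      rw [← SetLike.mem_coe, ← hV.range_fromSpec]
      exact ⟨_, rfl⟩
    haveI := hN (hV.fromSpec ⟨p, hp⟩)
    have hker : RingHom.ker (Y.evaluation V (hV.fromSpec ⟨p, hp⟩) hy).hom = p :=
      ker_evaluation_fromSpec hV ⟨p, hp⟩ hy
    letI : Algebra Γ(Y, V) ↑(Y.residueField (hV.fromSpec ⟨p, hp⟩)) :=
      (Y.evaluation V (hV.fromSpec ⟨p, hp⟩) hy).hom.toAlgebra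
    obtain ⟨σ, hσ⟩ := exists_residueField_equiv hV (hV.fromSpec ⟨p, hp⟩) hy p hker
    have h1 := fibreRegular_of_fibreStalksRegular f hV hU hUV _ hy (hS _)
    have h2 : FibreRegular Γ(Y, V) Γ(X, U) p.ResidueField :=
      fibreRegular_of_ringEquiv σ.symm (fun a => by
        rw [RingEquiv.symm_apply_eq]
        exact (hσ a).symm) h1
    exact (isRegularHom_fibre_iff _ _ _).mpr h2

variable {X' Y' : Scheme.{u}} (f' : X' ⟶ Y') (g' : X' ⟶ X) (g : Y' ⟶ Y)

theorem essFiniteType_residueField [LocallyOfFiniteType g] (y' : Y') :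
    letI : Algebra (Y.residueField (g y')) (Y'.residueField y') :=
      (g.residueFieldMap y').hom.toAlgebra
    Algebra.EssFiniteType (Y.residueField (g y')) (Y'.residueField y') :=
  RingHom.EssFiniteType.residueFieldMap (LocallyOfFiniteType.stalkMap (f := g) y')

/-- **fppf descent of regular morphisms** (with locally Noetherian fibres). -/
theorem affineRegular_descent [Flat g] [LocallyOfFinitePresentation g] [Surjective g]
    (hc : IsPullback g' f' f g) :
    ((∀ y : Y, IsLocallyNoetherian (f.fiber y)) ∧ AffineRegular f) ↔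
      ((∀ y' : Y', IsLocallyNoetherian (f'.fiber y')) ∧ AffineRegular f') := by
  have hLN : ∀ y' : Y', IsLocallyNoetherian (f.fiber (g y')) ↔
      IsLocallyNoetherian (f'.fiber y') := by
    intro y'
    letI : Algebra (Y.residueField (g y')) (Y'.residueField y') :=
      (g.residueFieldMap y').hom.toAlgebra
    haveI : Algebra.EssFiniteType (Y.residueField (g y')) (Y'.residueField y') :=
      essFiniteType_residueField g y'
    exact ⟨fun h => isLocallyNoetherian_baseChange (κ := Y.residueField (g y'))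
        (κ' := Y'.residueField y') (f.fiberToSpecResidueField (g y'))
        (f'.fiberToSpecResidueField y') (fibreMap f f' g' g hc y')
        (isPullback_fibreMap f f' g' g hc y'),
      fun h => isLocallyNoetherian_of_baseChange (κ := Y.residueField (g y'))
        (κ' := Y'.residueField y') (f.fiberToSpecResidueField (g y'))
        (f'.fiberToSpecResidueField y') (fibreMap f f' g' g hc y')
        (isPullback_fibreMap f f' g' g hc y')⟩
  have hSR : ∀ y' : Y', IsLocallyNoetherian (f.fiber (g y')) → IsLocallyNoetherian (f'.fiber y') →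
      (FibreStalksRegular f (g y') ↔ FibreStalksRegular f' y') := by
    intro y' h1 h2
    letI : Algebra (Y.residueField (g y')) (Y'.residueField y') :=
      (g.residueFieldMap y').hom.toAlgebra
    exact stalksRegular_baseChange_iff (κ := Y.residueField (g y'))
        (κ' := Y'.residueField y') (f.fiberToSpecResidueField (g y'))
        (f'.fiberToSpecResidueField y') (fibreMap f f' g' g hc y')
        (isPullback_fibreMap f f' g' g hc y')
  constructor
  · rintro ⟨hN, hR⟩
    have hN' : ∀ y' : Y', IsLocallyNoetherian (f'.fiber y') := fun y' => (hLN y').mp (hN (g y'))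
    refine ⟨hN', ?_⟩
    haveI : Flat f := hR.flat
    haveI : Flat f' := MorphismProperty.of_isPullback hc ‹Flat f›
    exact affineRegular_of_flat_of_fibreStalksRegular f' hN'
      (fun y' => (hSR y' (hN _) (hN' _)).mp (hR.fibreStalksRegular f (g y')))
  · rintro ⟨hN', hR'⟩
    have hN : ∀ y : Y, IsLocallyNoetherian (f.fiber y) := fun y => by
      obtain ⟨y', rfl⟩ := g.surjective y
      exact (hLN y').mpr (hN' y')
    refine ⟨hN, ?_⟩
    haveI : Flat f' := hR'.flat
    haveI : Flat f := flat_of_isPullback_of_fppf f f' g' g hc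
    exact affineRegular_of_flat_of_fibreStalksRegular f hN (fun y => by
      obtain ⟨y', rfl⟩ := g.surjective y
      exact (hSR y' (hN _) (hN' _)).mpr (hR'.fibreStalksRegular f' y'))

end Assembly

end Groth.Agent.Lib.Helper96.RegularFibres
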