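import Mathlib
import Groth.Agent.Lib.Helper96.RegularFibres2
import Groth.Agent.S2675

/-!
# Normal morphisms: affine-local normality versus flat with geometrically normal fibres, and fppf
descent (helper96).  Parallel to `RegularFibres`, `RegularFibres2`.
-/

set_option autoImplicit false
set_option linter.style.haveILetI false

universe u

namespace Groth.Agent.Lib.Helper96.NormalFibres

open TensorProduct CategoryTheory CategoryTheory.Limits AlgebraicGeometry
open Groth.Agent.Lib.Helper96.RegularFibres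
open Groth.Agent.Lib.Helper49.NormalHom (isNormalRing_of_ringEquiv)

/-- An integrally closed domain. -/
def NormalLocal (R : Type u) [CommRing R] : Prop := IsDomain R ∧ IsIntegrallyClosed R

theorem NormalLocal.of_ringEquiv {R R' : Type u} [CommRing R] [CommRing R'] (e : R ≃+* R')
    (h : NormalLocal R) : NormalLocal R' := by
  obtain ⟨h1, h2⟩ := h
  exact ⟨e.symm.toMulEquiv.isDomain _, IsIntegrallyClosed.of_equiv e⟩

theorem isNormalRing_iff (R : Type u) [CommRing R] :
    EGA4.IsNormalRing R ↔ ∀ (p : Ideal R) [p.IsPrime], NormalLocal (Localization.AtPrime p) :=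
  Iff.rfl

section Algebra

/-- A symmetric reformulation of "the fibre of `A → S` over the point `A → κ` is geometrically
normal". -/
def FibreNormal (A S κ : Type u) [CommRing A] [CommRing S] [Algebra A S] [Field κ]
    [Algebra A κ] : Prop :=
  ∀ (K : Type u) [Field K] [Algebra A K] [Algebra κ K] [IsScalarTower A κ K],
    Module.Finite κ K → EGA4.IsNormalRing (K ⊗[A] S)

variable (A S κ : Type u) [CommRing A] [CommRing S] [Algebra A S] [Field κ] [Algebra A κ]

theorem isGeomNormal_tensor_iff :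
    EGA4.IsGeomNormal κ (κ ⊗[A] S) ↔ FibreNormal A S κ := by
  constructor
  · intro h K _ _ _ _ hfin
    exact isNormalRing_of_ringEquiv (R := K ⊗[κ] (κ ⊗[A] S)) (R' := K ⊗[A] S)
      (Algebra.TensorProduct.cancelBaseChange A κ κ K S).toRingEquiv (h K hfin)
  · intro h K _ _ hfin
    letI : Algebra A K := ((algebraMap κ K).comp (algebraMap A κ)).toAlgebra
    haveI : IsScalarTower A κ K := IsScalarTower.of_algebraMap_eq (fun _ => rfl)
    exact isNormalRing_of_ringEquiv (R' := K ⊗[κ] (κ ⊗[A] S)) (R := K ⊗[A] S)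
      (Algebra.TensorProduct.cancelBaseChange A κ κ K S).toRingEquiv.symm (h K hfin)

variable {A S κ}

theorem fibreNormal_of_ringEquiv {κ₂ : Type u} [Field κ₂] [Algebra A κ₂] (σ : κ ≃+* κ₂)
    (hσ : ∀ a : A, σ (algebraMap A κ a) = algebraMap A κ₂ a) (h : FibreNormal A S κ) :
    FibreNormal A S κ₂ := by
  intro K _ _ _ _ hfin
  letI : Algebra κ K := ((algebraMap κ₂ K).comp σ.toRingHom).toAlgebra
  haveI : IsScalarTower A κ K := IsScalarTower.of_algebraMap_eq (fun a => by
    change algebraMap A K a = algebraMap κ₂ K (σ (algebraMap A κ a))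
    rw [hσ, ← IsScalarTower.algebraMap_apply])
  have hfin' : Module.Finite κ K :=
    Module.Finite.of_equiv_equiv σ.symm (RingEquiv.refl K) (by
      ext x
      change algebraMap κ₂ K (σ (σ.symm x)) = algebraMap κ₂ K x
      rw [RingEquiv.apply_symm_apply])
  exact h K hfin'

theorem isNormalHom_fibre_iff (A S : Type u) [CommRing A] [CommRing S] [Algebra A S]
    (p : Ideal A) [p.IsPrime] :
    EGA4.IsGeomNormal p.ResidueField (p.Fiber S) ↔ FibreNormal A S p.ResidueField :=
  isGeomNormal_tensor_iff A S p.ResidueField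

end Algebra

section Scheme

theorem normalStalks_iff_of_isOpenImmersion {Z Z' : Scheme.{u}} (h : Z ⟶ Z')
    [IsOpenImmersion h] :
    (∀ z : Z, NormalLocal (Z.presheaf.stalk z)) ↔
      ∀ z' : Z', z' ∈ Set.range h → NormalLocal (Z'.presheaf.stalk z') := by
  constructor
  · rintro H _ ⟨z, rfl⟩
    exact (H z).of_ringEquiv (asIso (h.stalkMap z)).commRingCatIsoToRingEquiv.symm
  · intro H z
    exact (H _ ⟨z, rfl⟩).of_ringEquiv (asIso (h.stalkMap z)).commRingCatIsoToRingEquiv

theorem normalStalks_Spec_iff (R : CommRingCat.{u}) :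
    (∀ z : Spec R, NormalLocal ((Spec R).presheaf.stalk z)) ↔ EGA4.IsNormalRing R := by
  rw [isNormalRing_iff]
  constructor
  · intro H p hp
    let x : Spec R := ⟨p, hp⟩
    letI : Algebra ↑R ↑((Spec R).presheaf.stalk x) := StructureSheaf.stalkAlgebra (↑R) x
    haveI : IsLocalization.AtPrime (↑((Spec R).presheaf.stalk x)) p :=
      StructureSheaf.IsLocalization.to_stalk R x
    exact (H x).of_ringEquiv (IsLocalization.algEquiv p.primeCompl
      ((Spec R).presheaf.stalk x) (Localization.AtPrime p)).toRingEquiv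
  · intro H x
    haveI : x.asIdeal.IsPrime := x.isPrime
    letI : Algebra ↑R ↑((Spec R).presheaf.stalk x) := StructureSheaf.stalkAlgebra (↑R) x
    haveI : IsLocalization.AtPrime (↑((Spec R).presheaf.stalk x)) x.asIdeal :=
      StructureSheaf.IsLocalization.to_stalk R x
    exact (H x.asIdeal).of_ringEquiv (IsLocalization.algEquiv x.asIdeal.primeCompl
      (Localization.AtPrime x.asIdeal) ((Spec R).presheaf.stalk x)).toRingEquiv

/-- The master lemma in the normal case. -/
theorem normal_chart_iff {F : Scheme.{u}} {κ K C : Type u} [Field κ] [CommRing K]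
    [CommRing C] [Algebra κ K] [Algebra κ C] (g : F ⟶ Spec (.of κ)) (j : Spec (.of C) ⟶ F)
    (hj : j ≫ g = Spec.map (CommRingCat.ofHom (algebraMap κ C))) [IsOpenImmersion j] :
    EGA4.IsNormalRing (K ⊗[κ] C) ↔
      ∀ x' : ↥(pullback g (Spec.map (CommRingCat.ofHom (algebraMap κ K)))),
        (pullback.fst g (Spec.map (CommRingCat.ofHom (algebraMap κ K)))) x' ∈ Set.range j →
          NormalLocal
            ((pullback g (Spec.map (CommRingCat.ofHom (algebraMap κ K)))).presheaf.stalk x') := by
  let i₁ : Spec (.of (C ⊗[κ] K)) ≅ pullback (Spec.map (CommRingCat.ofHom (algebraMap κ C)))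
      (Spec.map (CommRingCat.ofHom (algebraMap κ K))) := (pullbackSpecIso κ C K).symm
  let j'' := i₁.hom ≫ chartBC (K := K) g j hj
  have hrange : Set.range j'' =
      (pullback.fst g (Spec.map (CommRingCat.ofHom (algebraMap κ K)))) ⁻¹' (Set.range j) := by
    have hsurj : Function.Surjective i₁.hom := i₁.hom.homeomorph.surjective
    rw [← range_chartBC g j hj]
    change Set.range (i₁.hom ≫ chartBC (K := K) g j hj) = _
    rw [Scheme.Hom.comp_base, TopCat.coe_comp, Set.range_comp, hsurj.range_eq, Set.image_univ]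
  have h1 : EGA4.IsNormalRing (K ⊗[κ] C) ↔ EGA4.IsNormalRing (C ⊗[κ] K) :=
    ⟨fun h => isNormalRing_of_ringEquiv (R := K ⊗[κ] C) (R' := C ⊗[κ] K)
        (Algebra.TensorProduct.comm κ K C).toRingEquiv h,
      fun h => isNormalRing_of_ringEquiv (R' := K ⊗[κ] C) (R := C ⊗[κ] K)
        (Algebra.TensorProduct.comm κ C K).toRingEquiv h⟩
  rw [h1, ← normalStalks_Spec_iff (CommRingCat.of (C ⊗[κ] K)),
    normalStalks_iff_of_isOpenImmersion j'', hrange]
  rfl

end Scheme

section Abstract

variable {F : Scheme.{u}} {κ : Type u} [Field κ] (gF : F ⟶ Spec (.of κ))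

/-- All stalks of all finite base field extensions of the `κ`-scheme `F` are normal. -/
def StalksNormal : Prop :=
  ∀ (K : Type u) [Field K] [Algebra κ K], Module.Finite κ K →
    ∀ x' : ↥(pullback gF (Spec.map (CommRingCat.ofHom (algebraMap κ K)))),
      NormalLocal
        ((pullback gF (Spec.map (CommRingCat.ofHom (algebraMap κ K)))).presheaf.stalk x')

theorem stalksNormal_iff_affine :
    StalksNormal gF ↔ ∀ (W : F.Opens), IsAffineOpen W →
      letI := secAlgebra gF W
      EGA4.IsGeomNormal κ ↑Γ(F, W) := by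
  constructor
  · intro H W hW
    letI := secAlgebra gF W
    intro K _ _ hfin
    rw [normal_chart_iff (κ := κ) (C := Γ(F, W)) gF hW.fromSpec
      (fromSpec_comp_eq _ hW)]
    intro x' _
    exact H K hfin x'
  · intro H K _ _ hfin x'
    obtain ⟨_, ⟨W, hW, rfl⟩, hxW, -⟩ := F.isBasis_affineOpens.exists_subset_of_mem_open
      (Set.mem_univ ((pullback.fst gF
        (Spec.map (CommRingCat.ofHom (algebraMap κ K)))) x')) isOpen_univ
    letI := secAlgebra gF W
    haveI : IsOpenImmersion (hW.fromSpec : Spec (.of Γ(F, W)) ⟶ F) :=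
      hW.isOpenImmersion_fromSpec
    refine (normal_chart_iff (κ := κ) (C := Γ(F, W))
      gF hW.fromSpec (fromSpec_comp_eq _ hW)).mp (H W hW K hfin) x' ?_
    rw [hW.range_fromSpec]
    exact hxW

end Abstract

section BaseChange

variable {F : Scheme.{u}} {κ : Type u} [Field κ] (gF : F ⟶ Spec (.of κ))
  {F' : Scheme.{u}} {κ' : Type u} [Field κ'] [Algebra κ κ'] (gF' : F' ⟶ Spec (.of κ'))
  (θ : F' ⟶ F)
  (hpb : IsPullback θ gF' gF (Spec.map (CommRingCat.ofHom (algebraMap κ κ'))))

include hpb in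
theorem stalksNormal_baseChange_iff [Algebra.EssFiniteType κ κ'] [IsLocallyNoetherian F] :
    StalksNormal gF ↔ StalksNormal gF' := by
  have hchart : ∀ (W : F.Opens) (hW : IsAffineOpen W),
      letI := secAlgebra gF W
      IsNoetherianRing Γ(F, W) ∧
      ∃ j' : Spec (.of (κ' ⊗[κ] Γ(F, W))) ⟶ F', IsOpenImmersion j' ∧
        Set.range j' = θ ⁻¹' (W : Set F) ∧
        j' ≫ gF' = Spec.map (CommRingCat.ofHom (algebraMap κ' (κ' ⊗[κ] Γ(F, W)))) := by
    intro W hW
    letI := secAlgebra gF W
    haveI : IsOpenImmersion (hW.fromSpec : Spec (.of Γ(F, W)) ⟶ F) :=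
      hW.isOpenImmersion_fromSpec
    obtain ⟨j', hj'1, hj'2, hj'3⟩ := exists_chart_baseChange gF gF' θ hpb (C := Γ(F, W))
      hW.fromSpec (fromSpec_comp_eq _ hW)
    refine ⟨IsLocallyNoetherian.component_noetherian ⟨W, hW⟩, j', hj'1, ?_, hj'3⟩
    rw [hj'2, hW.range_fromSpec]
  constructor
  · intro H K' _ _ hfin x'
    obtain ⟨_, ⟨W, hW, rfl⟩, hxW, -⟩ := F.isBasis_affineOpens.exists_subset_of_mem_open
      (Set.mem_univ (θ ((pullback.fst gF'
        (Spec.map (CommRingCat.ofHom (algebraMap κ' K')))) x'))) isOpen_univ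
    letI := secAlgebra gF W
    obtain ⟨hN1, j', hj'1, hj'2, hj'3⟩ := hchart W hW
    have hGN : EGA4.IsGeomNormal κ Γ(F, W) := (stalksNormal_iff_affine gF).mp H W hW
    have hGN' : EGA4.IsGeomNormal κ' (κ' ⊗[κ] Γ(F, W)) :=
      (Groth.Agent.S2675.result κ Γ(F, W) κ').mp hGN
    refine (normal_chart_iff (κ := κ') (C := κ' ⊗[κ] Γ(F, W)) gF' j' hj'3).mp
      (hGN' K' hfin) x' ?_
    rw [hj'2]
    exact hxW
  · intro H
    rw [stalksNormal_iff_affine]
    intro W hW
    letI := secAlgebra gF W
    obtain ⟨hN1, j', hj'1, hj'2, hj'3⟩ := hchart W hW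
    rw [Groth.Agent.S2675.result κ Γ(F, W) κ']
    intro K' _ _ hfin
    rw [normal_chart_iff (κ := κ') (C := κ' ⊗[κ] Γ(F, W)) gF' j' hj'3]
    intro x' _
    exact H K' hfin x'

end BaseChange

section Fibres

variable {X Y : Scheme.{u}} (f : X ⟶ Y)

/-- All stalks of all finite base field extensions of the fibre over `y` are normal. -/
def FibreStalksNormal (y : Y) : Prop :=
  StalksNormal (κ := Y.residueField y) (f.fiberToSpecResidueField y)

variable {V : Y.Opens} (hV : IsAffineOpen V) {U : X.Opens} (hU : IsAffineOpen U)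
  (e : U ≤ f ⁻¹ᵁ V) (y : Y) (hy : y ∈ V)

include hV hU in
theorem fibreNormal_of_fibreStalksNormal (H : FibreStalksNormal f y) :
    letI : Algebra Γ(Y, V) Γ(X, U) := (f.appLE V U e).hom.toAlgebra
    letI : Algebra Γ(Y, V) ↑(Y.residueField y) := (Y.evaluation V y hy).hom.toAlgebra
    FibreNormal Γ(Y, V) Γ(X, U) (Y.residueField y) := by
  letI : Algebra Γ(Y, V) Γ(X, U) := (f.appLE V U e).hom.toAlgebra
  letI : Algebra Γ(Y, V) ↑(Y.residueField y) := (Y.evaluation V y hy).hom.toAlgebra
  rw [← isGeomNormal_tensor_iff]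
  obtain ⟨j, hj1, hj2, hj3⟩ := exists_chart f hV hU e y hy
  intro K _ _ hfin
  rw [normal_chart_iff (κ := Y.residueField y)
    (C := (Y.residueField y) ⊗[Γ(Y, V)] Γ(X, U)) (f.fiberToSpecResidueField y) j hj3]
  intro x' _
  exact H K hfin x'

include hV hU in
theorem normal_stalk_of_fibreNormal
    (H : letI : Algebra Γ(Y, V) Γ(X, U) := (f.appLE V U e).hom.toAlgebra
      letI : Algebra Γ(Y, V) ↑(Y.residueField y) := (Y.evaluation V y hy).hom.toAlgebra
      FibreNormal Γ(Y, V) Γ(X, U) (Y.residueField y))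
    (K : Type u) [Field K] [Algebra (Y.residueField y) K] (hfin : Module.Finite (Y.residueField y) K)
    (x' : ↥(pullback (f.fiberToSpecResidueField y)
      (Spec.map (CommRingCat.ofHom (algebraMap (Y.residueField y) K)))))
    (hx' : f.fiberι y ((pullback.fst (f.fiberToSpecResidueField y)
      (Spec.map (CommRingCat.ofHom (algebraMap (Y.residueField y) K)))) x') ∈ U) :
    NormalLocal ((pullback (f.fiberToSpecResidueField y)
      (Spec.map (CommRingCat.ofHom (algebraMap (Y.residueField y) K)))).presheaf.stalk x') := by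
  letI : Algebra Γ(Y, V) Γ(X, U) := (f.appLE V U e).hom.toAlgebra
  letI : Algebra Γ(Y, V) ↑(Y.residueField y) := (Y.evaluation V y hy).hom.toAlgebra
  rw [← isGeomNormal_tensor_iff] at H
  obtain ⟨j, hj1, hj2, hj3⟩ := exists_chart f hV hU e y hy
  refine (normal_chart_iff (κ := Y.residueField y)
    (C := (Y.residueField y) ⊗[Γ(Y, V)] Γ(X, U)) (f.fiberToSpecResidueField y) j hj3).mp
    (H K hfin) x' ?_
  rw [hj2]
  exact hx'

end Fibres

section Assembly

variable {X Y : Scheme.{u}} (f : X ⟶ Y)

/-- All ring maps between affine opens are normal. -/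
def AffineNormal : Prop :=
  ∀ (U : X.Opens) (V : Y.Opens) (hU : IsAffineOpen U) (hV : IsAffineOpen V) (hUV : U ≤ f ⁻¹ᵁ V),
    letI := (f.appLE V U hUV).hom.toAlgebra
    EGA4.IsNormalHom Γ(Y, V) Γ(X, U)

theorem AffineNormal.flat (H : AffineNormal f) : Flat f := by
  rw [HasRingHomProperty.iff_appLE (P := @Flat)]
  intro V U e
  exact (H U.1 V.1 U.2 V.2 e).1

theorem AffineNormal.fibreStalksNormal (H : AffineNormal f) (y : Y) :
    FibreStalksNormal f y := by
  intro K _ _ hfin x'
  have hfx : (f.fiberι y ((pullback.fst (f.fiberToSpecResidueField y)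
      (Spec.map (CommRingCat.ofHom (algebraMap (Y.residueField y) K)))) x')) ∈ f ⁻¹' {y} := by
    rw [← f.range_fiberι y]
    exact ⟨_, rfl⟩
  obtain ⟨_, ⟨V, hV, rfl⟩, hyV, -⟩ := Y.isBasis_affineOpens.exists_subset_of_mem_open
    (Set.mem_univ y) isOpen_univ
  have hxV : (f.fiberι y ((pullback.fst (f.fiberToSpecResidueField y)
      (Spec.map (CommRingCat.ofHom (algebraMap (Y.residueField y) K)))) x')) ∈
      ((f ⁻¹ᵁ V : X.Opens) : Set X) := by
    have h1 : f (f.fiberι y ((pullback.fst (f.fiberToSpecResidueField y)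
      (Spec.map (CommRingCat.ofHom (algebraMap (Y.residueField y) K)))) x')) = y := hfx
    change f _ ∈ V
    rw [h1]
    exact hyV
  obtain ⟨_, ⟨U, hU, rfl⟩, hxU, hUV⟩ := X.isBasis_affineOpens.exists_subset_of_mem_open
    hxV (f ⁻¹ᵁ V).isOpen
  refine normal_stalk_of_fibreNormal f hV hU hUV y hyV ?_ K hfin x' hxU
  letI : Algebra Γ(Y, V) Γ(X, U) := (f.appLE V U hUV).hom.toAlgebra
  letI : Algebra Γ(Y, V) ↑(Y.residueField y) := (Y.evaluation V y hyV).hom.toAlgebra
  haveI : (RingHom.ker (Y.evaluation V y hyV).hom).IsPrime := RingHom.ker_isPrime _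
  obtain ⟨σ, hσ⟩ := exists_residueField_equiv hV y hyV
    (RingHom.ker (Y.evaluation V y hyV).hom) rfl
  exact fibreNormal_of_ringEquiv σ hσ ((isNormalHom_fibre_iff _ _ _).mp
    ((H U V hU hV hUV).2 (RingHom.ker (Y.evaluation V y hyV).hom)))

theorem affineNormal_of_flat_of_fibreStalksNormal [Flat f]
    (hS : ∀ y : Y, FibreStalksNormal f y) :
    AffineNormal f := by
  intro U V hU hV hUV
  letI : Algebra Γ(Y, V) Γ(X, U) := (f.appLE V U hUV).hom.toAlgebra
  refine ⟨?_, fun p hp => ?_⟩
  · exact (HasRingHomProperty.iff_appLE (P := @Flat)).mp ‹Flat f› ⟨V, hV⟩ ⟨U, hU⟩ hUV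
  · have hy : hV.fromSpec ⟨p, hp⟩ ∈ V := by
      rw [← SetLike.mem_coe, ← hV.range_fromSpec]
      exact ⟨_, rfl⟩
    have hker : RingHom.ker (Y.evaluation V (hV.fromSpec ⟨p, hp⟩) hy).hom = p :=
      ker_evaluation_fromSpec hV ⟨p, hp⟩ hy
    letI : Algebra Γ(Y, V) ↑(Y.residueField (hV.fromSpec ⟨p, hp⟩)) :=
      (Y.evaluation V (hV.fromSpec ⟨p, hp⟩) hy).hom.toAlgebra
    obtain ⟨σ, hσ⟩ := exists_residueField_equiv hV (hV.fromSpec ⟨p, hp⟩) hy p hker
    have h1 := fibreNormal_of_fibreStalksNormal f hV hU hUV _ hy (hS _)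
    have h2 : FibreNormal Γ(Y, V) Γ(X, U) p.ResidueField :=
      fibreNormal_of_ringEquiv σ.symm (fun a => by
        rw [RingEquiv.symm_apply_eq]
        exact (hσ a).symm) h1
    exact (isNormalHom_fibre_iff _ _ _).mpr h2

variable {X' Y' : Scheme.{u}} (f' : X' ⟶ Y') (g' : X' ⟶ X) (g : Y' ⟶ Y)

/-- **fppf descent of normal morphisms** (with locally Noetherian fibres). -/
theorem affineNormal_descent [Flat g] [LocallyOfFinitePresentation g] [Surjective g]
    (hc : IsPullback g' f' f g) :
    ((∀ y : Y, IsLocallyNoetherian (f.fiber y)) ∧ AffineNormal f) ↔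
      ((∀ y' : Y', IsLocallyNoetherian (f'.fiber y')) ∧ AffineNormal f') := by
  have hLN : ∀ y' : Y', IsLocallyNoetherian (f.fiber (g y')) ↔
      IsLocallyNoetherian (f'.fiber y') := by
    intro y'
    letI : Algebra (Y.residueField (g y')) (Y'.residueField y') :=
      (g.residueFieldMap y').hom.toAlgebra
    haveI : Algebra.EssFiniteType (Y.residueField (g y')) (Y'.residueField y') :=
      essFiniteType_residueField g y'
    exact ⟨fun h => isLocallyNoetherian_baseChange (κ := Y.residueField (g y'))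
        (κ' := Y'.residueField y') (f.fiberToSpecResidueField (g y'))
        (f'.fiberToSpecResidueField y') (fibreMap f f' g' g hc y')
        (isPullback_fibreMap f f' g' g hc y'),
      fun h => isLocallyNoetherian_of_baseChange (κ := Y.residueField (g y'))
        (κ' := Y'.residueField y') (f.fiberToSpecResidueField (g y'))
        (f'.fiberToSpecResidueField y') (fibreMap f f' g' g hc y')
        (isPullback_fibreMap f f' g' g hc y')⟩
  have hSR : ∀ y' : Y', IsLocallyNoetherian (f.fiber (g y')) →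
      (FibreStalksNormal f (g y') ↔ FibreStalksNormal f' y') := by
    intro y' h1
    letI : Algebra (Y.residueField (g y')) (Y'.residueField y') :=
      (g.residueFieldMap y').hom.toAlgebra
    haveI : Algebra.EssFiniteType (Y.residueField (g y')) (Y'.residueField y') :=
      essFiniteType_residueField g y'
    exact stalksNormal_baseChange_iff (κ := Y.residueField (g y'))
        (κ' := Y'.residueField y') (f.fiberToSpecResidueField (g y'))
        (f'.fiberToSpecResidueField y') (fibreMap f f' g' g hc y')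
        (isPullback_fibreMap f f' g' g hc y')
  constructor
  · rintro ⟨hN, hR⟩
    have hN' : ∀ y' : Y', IsLocallyNoetherian (f'.fiber y') := fun y' => (hLN y').mp (hN (g y'))
    refine ⟨hN', ?_⟩
    haveI : Flat f := hR.flat
    haveI : Flat f' := MorphismProperty.of_isPullback hc ‹Flat f›
    exact affineNormal_of_flat_of_fibreStalksNormal f'
      (fun y' => (hSR y' (hN _)).mp (hR.fibreStalksNormal f (g y')))
  · rintro ⟨hN', hR'⟩
    have hN : ∀ y : Y, IsLocallyNoetherian (f.fiber y) := fun y => by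
      obtain ⟨y', rfl⟩ := g.surjective y
      exact (hLN y').mpr (hN' y')
    refine ⟨hN, ?_⟩
    haveI : Flat f' := hR'.flat
    haveI : Flat f := flat_of_isPullback_of_fppf f f' g' g hc
    exact affineNormal_of_flat_of_fibreStalksNormal f (fun y => by
      obtain ⟨y', rfl⟩ := g.surjective y
      exact (hSR y' (hN _)).mpr (hR'.fibreStalksNormal f' y'))

end Assembly

end Groth.Agent.Lib.Helper96.NormalFibres
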