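import Mathlib.Topology.Algebra.Group.Basic
import Mathlib.Topology.Algebra.OpenSubgroup
import Mathlib.Topology.Separation.Profinite
import Mathlib.GroupTheory.FiniteAbelian.Basic
import Mathlib.GroupTheory.Torsion
import Mathlib.GroupTheory.Index
import Mathlib.GroupTheory.Finiteness
import Mathlib.Algebra.Order.Field.Rat
import Mathlib.Algebra.Module.CharacterModule

set_option autoImplicit false
universe u v

namespace Groth.Agent.Lib.Helper96

/-- `ℚ/ℤ` is a torsion group. -/
theorem QZ_isAddTorsion : IsAddTorsion (ℚ ⧸ AddSubgroup.zmultiples (1 : ℚ)) := by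
  intro x
  obtain ⟨q, rfl⟩ := QuotientAddGroup.mk_surjective x
  rw [isOfFinAddOrder_iff_nsmul_eq_zero]
  refine ⟨q.den, q.den_pos, ?_⟩
  rw [← QuotientAddGroup.mk_nsmul, QuotientAddGroup.eq_zero_iff, AddSubgroup.mem_zmultiples_iff]
  refine ⟨q.num, ?_⟩
  rw [nsmul_eq_mul, zsmul_eq_mul, mul_one, Rat.den_mul_eq_num]

section
variable {B : Type u} [AddCommGroup B] [TopologicalSpace B] [IsTopologicalAddGroup B]

/-- The range of a homomorphism with open kernel out of a compactly generated group is finitely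
generated. -/
theorem fg_range_of_compactlyGenerated
    (hcg : ∃ K : Set B, IsCompact K ∧ AddSubgroup.closure K = ⊤)
    {Q : Type v} [AddCommGroup Q] (χ : B →+ Q) (hχ : IsOpen (χ.ker : Set B)) :
    AddGroup.FG χ.range := by
  obtain ⟨K, hK, hgen⟩ := hcg
  have hopen : ∀ b : B, IsOpen ((fun x : B => x - b) ⁻¹' (χ.ker : Set B)) := fun b =>
    hχ.preimage (continuous_id.sub continuous_const)
  have hcover : K ⊆ ⋃ b : B, (fun x : B => x - b) ⁻¹' (χ.ker : Set B) := by
    intro x _
    rw [Set.mem_iUnion]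
    refine ⟨x, ?_⟩
    show x - x ∈ χ.ker
    rw [sub_self]
    exact χ.ker.zero_mem
  obtain ⟨t, ht⟩ := hK.elim_finite_subcover _ hopen hcover
  have hfin : (χ '' K).Finite := by
    refine Set.Finite.subset (t.finite_toSet.image χ) ?_
    rintro _ ⟨x, hx, rfl⟩
    have := ht hx
    simp only [Set.mem_iUnion] at this
    obtain ⟨b, hb, hxb⟩ := this
    refine ⟨b, hb, ?_⟩
    have h0 : χ (x - b) = 0 := hxb
    rw [map_sub, sub_eq_zero] at h0
    exact h0.symm
  rw [AddGroup.fg_iff_addSubgroup_fg, AddSubgroup.fg_iff]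
  refine ⟨χ '' K, ?_, hfin⟩
  rw [← AddMonoidHom.map_closure, hgen, AddMonoidHom.range_eq_map]

end

/-- `ℚ/ℤ` is divisible, hence characters extend along injective homomorphisms. -/
theorem exists_character_extension {A' : Type u} {B' : Type v} [AddCommGroup A'] [AddCommGroup B']
    (f : A' →+ B') (hf : Function.Injective f) (χ : A' →+ ℚ ⧸ AddSubgroup.zmultiples (1 : ℚ)) :
    ∃ ψ : B' →+ ℚ ⧸ AddSubgroup.zmultiples (1 : ℚ), ψ.comp f = χ :=
  (Module.Baer.of_divisible (AddCircle (1 : ℚ))).extension_property_addMonoidHom f hf χ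

/-- A subgroup of a topological group containing the image of an open subgroup under an
inducing homomorphism with open range is open. -/
theorem isOpen_of_image_le {A : Type u} {B : Type v} [AddCommGroup A] [TopologicalSpace A]
    [AddCommGroup B] [TopologicalSpace B] [IsTopologicalAddGroup B]
    (i : A →+ B) (hind : Topology.IsInducing i) (hopen : IsOpen (Set.range i))
    (N : AddSubgroup A) (hN : IsOpen (N : Set A)) (H : AddSubgroup B)
    (hle : ∀ a ∈ N, i a ∈ H) : IsOpen (H : Set B) := by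
  obtain ⟨O, hO, hON⟩ := hind.isOpen_iff.mp hN
  apply AddSubgroup.isOpen_of_mem_nhds H (g := 0)
  have h0 : (0 : B) ∈ O ∩ Set.range i := by
    refine ⟨?_, 0, map_zero i⟩
    have : (0 : A) ∈ i ⁻¹' O := by rw [hON]; exact N.zero_mem
    simpa using this
  refine Filter.mem_of_superset ((hO.inter hopen).mem_nhds h0) ?_
  rintro _ ⟨hbO, a, rfl⟩
  apply hle
  have : a ∈ i ⁻¹' O := hbO
  rw [hON] at this
  exact this

/-- van Dantzig: in a locally compact, Hausdorff, totally disconnected topological abelian group,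
every neighbourhood of `0` contains an open subgroup. -/
theorem exists_open_addSubgroup_subset {B : Type u} [AddCommGroup B] [TopologicalSpace B]
    [IsTopologicalAddGroup B] [T2Space B] [LocallyCompactSpace B] [TotallyDisconnectedSpace B]
    {O : Set B} (hO : O ∈ nhds (0 : B)) :
    ∃ W : AddSubgroup B, IsOpen (W : Set B) ∧ (W : Set B) ⊆ O := by
  obtain ⟨O', hO'O, hO'open, h0O'⟩ := mem_nhds_iff.mp hO
  obtain ⟨K, hK, h0K, hKO'⟩ := exists_compact_subset hO'open h0O'
  obtain ⟨V, hVclopen, h0V, hVK⟩ :=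
    (loc_compact_Haus_tot_disc_of_zero_dim (H := B)).mem_nhds_iff.mp
      (isOpen_interior.mem_nhds h0K)
  have hVcompact : IsCompact V := hK.of_isClosed_subset hVclopen.1 (hVK.trans interior_subset)
  obtain ⟨T, hT, hVT⟩ := compact_open_separated_add_right hVcompact hVclopen.2 (le_refl V)
  let S : AddSubgroup B :=
    { carrier := {x | ∀ w ∈ V, w + x ∈ V ∧ w - x ∈ V}
      zero_mem' := by
        intro w hw
        rw [add_zero, sub_zero]
        exact ⟨hw, hw⟩
      add_mem' := by
        intro x y hx hy w hw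
        constructor
        · rw [← add_assoc]
          exact (hy _ (hx w hw).1).1
        · rw [← sub_sub]
          exact (hy _ (hx w hw).2).2
      neg_mem' := by
        intro x hx w hw
        rw [← sub_eq_add_neg, sub_neg_eq_add]
        exact ⟨(hx w hw).2, (hx w hw).1⟩ }
  refine ⟨S, ?_, ?_⟩
  · apply AddSubgroup.isOpen_of_mem_nhds S (g := 0)
    have hT' : T ∩ -T ∈ nhds (0 : B) := Filter.inter_mem hT (neg_mem_nhds_zero B hT)
    refine Filter.mem_of_superset hT' ?_
    rintro x ⟨hx1, hx2⟩ w hw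
    constructor
    · exact hVT (Set.add_mem_add hw hx1)
    · rw [sub_eq_add_neg]
      exact hVT (Set.add_mem_add hw hx2)
  · intro x hx
    have := (hx 0 h0V).1
    rw [zero_add] at this
    exact hO'O (hKO' (interior_subset (hVK this)))

/-- Extension of a character killing `i⁻¹(W)` for an open subgroup `W`, with open kernel. -/
theorem exists_character_extension_of_open_subgroup {A : Type u} {B : Type v}
    [AddCommGroup A] [AddCommGroup B] [TopologicalSpace B] [IsTopologicalAddGroup B]
    (i : A →+ B) (W : AddSubgroup B) (hW : IsOpen (W : Set B))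
    (χ : A →+ ℚ ⧸ AddSubgroup.zmultiples (1 : ℚ)) (hχ : ∀ a, i a ∈ W → χ a = 0) :
    ∃ ψ : B →+ ℚ ⧸ AddSubgroup.zmultiples (1 : ℚ), IsOpen (ψ.ker : Set B) ∧ ψ.comp i = χ := by
  let N' : AddSubgroup A := W.comap i
  let ibar : A ⧸ N' →+ B ⧸ W := QuotientAddGroup.map N' W i le_rfl
  have hinj : Function.Injective ibar := by
    rw [injective_iff_map_eq_zero]
    intro x hx
    obtain ⟨a, rfl⟩ := QuotientAddGroup.mk_surjective x
    have h1 : ((i a : B) : B ⧸ W) = 0 := hx
    rw [QuotientAddGroup.eq_zero_iff] at h1 ⊢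
    exact h1
  let χbar : A ⧸ N' →+ ℚ ⧸ AddSubgroup.zmultiples (1 : ℚ) :=
    QuotientAddGroup.lift N' χ (fun a ha => hχ a ha)
  obtain ⟨ψbar, hψbar⟩ := exists_character_extension ibar hinj χbar
  refine ⟨ψbar.comp (QuotientAddGroup.mk' W), ?_, ?_⟩
  · refine AddSubgroup.isOpen_mono (H₁ := W) ?_ hW
    intro w hw
    show ψbar (QuotientAddGroup.mk' W w) = 0
    have : QuotientAddGroup.mk' W w = 0 := (QuotientAddGroup.eq_zero_iff w).mpr hw
    rw [this, map_zero]
  · ext a
    show ψbar ((i a : B) : B ⧸ W) = χ a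
    have h1 : ((i a : B) : B ⧸ W) = ibar (a : A ⧸ N') := rfl
    rw [h1]
    have h2 : ψbar (ibar (a : A ⧸ N')) = χbar (a : A ⧸ N') := by rw [← hψbar]; rfl
    rw [h2]
    rfl

/-- A character with open kernel on a compactly generated group has kernel of finite index. -/
theorem finiteIndex_ker_of_isOpen_ker {B : Type u} [AddCommGroup B] [TopologicalSpace B]
    [IsTopologicalAddGroup B] (hcg : ∃ K : Set B, IsCompact K ∧ AddSubgroup.closure K = ⊤)
    (χ : B →+ ℚ ⧸ AddSubgroup.zmultiples (1 : ℚ)) (hχ : IsOpen (χ.ker : Set B)) :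
    χ.ker.FiniteIndex := by
  have hfg : AddGroup.FG χ.range := fg_range_of_compactlyGenerated hcg χ hχ
  have htor : IsAddTorsion χ.range := QZ_isAddTorsion.addSubgroup χ.range
  have hfin : Finite χ.range := AddCommGroup.finite_of_fg_isAddTorsion _ htor
  exact AddSubgroup.finiteIndex_ker χ

/-- In a compactly generated group, an element outside an open subgroup `W` is outside some open
subgroup of finite index containing `W`. -/
theorem exists_open_finiteIndex_not_mem {B : Type u} [AddCommGroup B] [TopologicalSpace B]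
    [IsTopologicalAddGroup B] (hcg : ∃ K : Set B, IsCompact K ∧ AddSubgroup.closure K = ⊤)
    (W : AddSubgroup B) (hW : IsOpen (W : Set B)) (b : B) (hb : b ∉ W) :
    ∃ B' : AddSubgroup B, IsOpen (B' : Set B) ∧ B'.FiniteIndex ∧ W ≤ B' ∧ b ∉ B' := by
  have hx : ((b : B) : B ⧸ W) ≠ 0 := fun h => hb ((QuotientAddGroup.eq_zero_iff b).mp h)
  obtain ⟨c, hc⟩ := CharacterModule.exists_character_apply_ne_zero_of_ne_zero hx
  let c' : B ⧸ W →+ ℚ ⧸ AddSubgroup.zmultiples (1 : ℚ) := c
  let ψ : B →+ ℚ ⧸ AddSubgroup.zmultiples (1 : ℚ) := c'.comp (QuotientAddGroup.mk' W)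
  have hWψ : W ≤ ψ.ker := by
    intro w hw
    show c' (QuotientAddGroup.mk' W w) = 0
    have : QuotientAddGroup.mk' W w = 0 := (QuotientAddGroup.eq_zero_iff w).mpr hw
    rw [this, map_zero]
  have hopen : IsOpen (ψ.ker : Set B) := AddSubgroup.isOpen_mono hWψ hW
  exact ⟨ψ.ker, hopen, finiteIndex_ker_of_isOpen_ker hcg ψ hopen, hWψ, fun h => hc h⟩

/-- Key lemma: for a strict homomorphism `i : A → B` into a locally compact, Hausdorff, totally
disconnected, compactly generated abelian group, every open subgroup of finite index of `A` contains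
the preimage of an open subgroup of finite index of `B`. -/
theorem exists_open_finiteIndex_comap_le {A : Type u} {B : Type v}
    [AddCommGroup A] [TopologicalSpace A]
    [AddCommGroup B] [TopologicalSpace B] [IsTopologicalAddGroup B]
    [T2Space B] [LocallyCompactSpace B] [TotallyDisconnectedSpace B]
    (hcg : ∃ K : Set B, IsCompact K ∧ AddSubgroup.closure K = ⊤)
    (i : A →+ B) (hind : Topology.IsInducing i)
    (U : AddSubgroup A) (hU : IsOpen (U : Set A)) (hUfi : U.FiniteIndex) :
    ∃ V : AddSubgroup B, IsOpen (V : Set B) ∧ V.FiniteIndex ∧ V.comap i ≤ U := by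
  classical
  obtain ⟨O, hO, hOU⟩ := hind.isOpen_iff.mp hU
  have h0O : (0 : B) ∈ O := by
    have : (0 : A) ∈ i ⁻¹' O := by rw [hOU]; exact U.zero_mem
    simpa using this
  obtain ⟨W, hWopen, hWO⟩ := exists_open_addSubgroup_subset (hO.mem_nhds h0O)
  have hWU : ∀ a, i a ∈ W → a ∈ U := by
    intro a ha
    have : a ∈ i ⁻¹' O := hWO ha
    rw [hOU] at this
    exact this
  -- for each class `q` of `A ⧸ U` a character of `A ⧸ U` not vanishing at `q` (if `q ≠ 0`)
  have hc : ∀ q : A ⧸ U, ∃ c : A ⧸ U →+ ℚ ⧸ AddSubgroup.zmultiples (1 : ℚ), q ≠ 0 → c q ≠ 0 := by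
    intro q
    by_cases hq : q = 0
    · exact ⟨0, fun h => absurd hq h⟩
    · obtain ⟨c, hc⟩ := CharacterModule.exists_character_apply_ne_zero_of_ne_zero hq
      exact ⟨c, fun _ => hc⟩
  choose c hc using hc
  have hψ : ∀ q : A ⧸ U, ∃ ψ : B →+ ℚ ⧸ AddSubgroup.zmultiples (1 : ℚ),
      IsOpen (ψ.ker : Set B) ∧ ψ.comp i = (c q).comp (QuotientAddGroup.mk' U) := by
    intro q
    refine exists_character_extension_of_open_subgroup i W hWopen _ ?_
    intro a ha
    show c q (QuotientAddGroup.mk' U a) = 0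
    have : QuotientAddGroup.mk' U a = 0 := (QuotientAddGroup.eq_zero_iff a).mpr (hWU a ha)
    rw [this, map_zero]
  choose ψ hψopen hψcomp using hψ
  haveI : Finite (A ⧸ U) := AddSubgroup.finite_quotient_of_finiteIndex
  refine ⟨⨅ q : A ⧸ U, (ψ q).ker, ?_, ?_, ?_⟩
  · rw [AddSubgroup.coe_iInf]
    exact isOpen_iInter_of_finite hψopen
  · exact AddSubgroup.finiteIndex_iInf fun q => finiteIndex_ker_of_isOpen_ker hcg (ψ q) (hψopen q)
  · intro a ha
    rw [AddSubgroup.mem_comap, AddSubgroup.mem_iInf] at ha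
    by_contra haU
    have hq : (QuotientAddGroup.mk' U a) ≠ 0 := fun h => haU ((QuotientAddGroup.eq_zero_iff a).mp h)
    have h1 : ψ (QuotientAddGroup.mk' U a) (i a) = 0 := ha _
    have h2 : ψ (QuotientAddGroup.mk' U a) (i a) =
        c (QuotientAddGroup.mk' U a) (QuotientAddGroup.mk' U a) := by
      have := congrArg (fun f => f a) (hψcomp (QuotientAddGroup.mk' U a))
      exact this
    rw [h2] at h1
    exact hc _ hq h1

end Groth.Agent.Lib.Helper96
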