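import Mathlib
import Groth.Agent.Lib.Helper96.FlatFibreSmooth
import Groth.Agent.Lib.Helper96.GeomRegular
import Groth.Agent.Lib.Helper96.RegularLocalGlobal2

/-!
# Regular homomorphisms induce formally smooth maps of local rings (helper96)

If `R → Λ` is a regular homomorphism with `Λ` Noetherian and `q` is a prime of `Λ` over `r`, then
`Λ_q` is formally smooth over `R_r` for the adic topology of its maximal ideal
(EGA `0_IV` 19.7.1 + 22.5.8).
-/

set_option autoImplicit false
set_option linter.style.haveILetI false
set_option linter.unusedSectionVars false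

universe u

namespace Groth.Agent.Lib.Helper96.RegularLocSmooth

open IsLocalRing TensorProduct

/-- A surjective homomorphism of local rings maps the maximal ideal onto the maximal ideal. -/
theorem map_maximalIdeal_of_surjective {R S : Type*} [CommRing R] [CommRing S] [IsLocalRing R]
    [IsLocalRing S] (f : R →+* S) (hf : Function.Surjective f) :
    (maximalIdeal R).map f = maximalIdeal S := by
  apply le_antisymm
  · rw [Ideal.map_le_iff_le_comap]
    intro x hx
    rw [Ideal.mem_comap, mem_maximalIdeal, mem_nonunits_iff]
    intro hu
    obtain ⟨y, hy⟩ := hu.exists_right_inv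
    obtain ⟨z, rfl⟩ := hf y
    -- `x z - 1 ∈ ker f`, so if `x z` were a non-unit then `1 ∈ ker`… use locality directly
    have h1 : f (x * z - 1) = 0 := by rw [map_sub, map_mul, hy, map_one, sub_self]
    have hxz : x * z ∈ maximalIdeal R := Ideal.mul_mem_right _ _ hx
    have hunit : IsUnit (1 - x * z) := isUnit_one_sub_self_of_mem_nonunits _ hxz
    have h2 : f (1 - x * z) = 0 := by
      rw [← neg_sub, map_neg, h1, neg_zero]
    have := hunit.map f
    rw [h2] at this
    exact not_isUnit_zero this
  · intro y hy
    obtain ⟨x, rfl⟩ := hf y
    refine Ideal.mem_map_of_mem _ ?_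
    rw [mem_maximalIdeal, mem_nonunits_iff] at hy ⊢
    exact fun hu => hy (hu.map f)

/-- The localization of a local ring at its maximal ideal is the ring itself. -/
theorem bijective_algebraMap_atPrime_maximalIdeal (F : Type*) [CommRing F] [IsLocalRing F] :
    Function.Bijective (algebraMap F (Localization.AtPrime (maximalIdeal F))) := by
  have hM : (maximalIdeal F).primeCompl ≤ IsUnit.submonoid F := by
    intro a ha
    by_contra hu
    exact ha ((IsLocalRing.mem_maximalIdeal a).mpr hu)
  have hfun : ⇑(IsLocalization.atUnits F (maximalIdeal F).primeCompl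
      (S := Localization.AtPrime (maximalIdeal F)) hM) =
      algebraMap F (Localization.AtPrime (maximalIdeal F)) :=
    funext fun x => (IsLocalization.atUnits F (maximalIdeal F).primeCompl
      (S := Localization.AtPrime (maximalIdeal F)) hM).commutes x
  rw [← hfun]
  exact AlgEquiv.bijective _

set_option maxHeartbeats 400000 in
/-- Abstract form: flat, with a geometrically regular local closed fibre `F`. -/
theorem isAdicFormallySmooth_of_flat_of_geometricallyRegular_fibre {A B : Type u} [CommRing A]
    [CommRing B] [IsLocalRing A] [IsLocalRing B] [IsNoetherianRing B] [Algebra A B]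
    [IsLocalHom (algebraMap A B)] [Module.Flat A B]
    {k F : Type u} [Field k] [CommRing F] [Algebra A k] [Algebra k F] [Algebra A F]
    [IsScalarTower A k F] [IsLocalRing F] [IsNoetherianRing F]
    (hk : Function.Surjective (algebraMap A k))
    (hm : RingHom.ker (algebraMap A k) = maximalIdeal A)
    (π : B →ₐ[A] F) (hπ : Function.Surjective π)
    (hkerπ : RingHom.ker π.toRingHom = (maximalIdeal A).map (algebraMap A B))
    (hgeo : CAlg.IsGeometricallyRegular k F) :
    CAlgX.IsAdicFormallySmooth A B (maximalIdeal B) := by
  classical
  have h5 := (isGeometricallyRegular_iff_forall_adicFormallySmooth (k := k) (A := F)).mp hgeo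
    (maximalIdeal F)
  have hbij := bijective_algebraMap_atPrime_maximalIdeal F
  let π₀ : B →ₐ[A] Localization.AtPrime (maximalIdeal F) :=
    (IsScalarTower.toAlgHom A F (Localization.AtPrime (maximalIdeal F))).comp π
  have hπ₀ : Function.Surjective π₀ := hbij.2.comp hπ
  have hkerπ₀ : RingHom.ker π₀.toRingHom = (maximalIdeal A).map (algebraMap A B) := by
    rw [← hkerπ]
    ext x
    rw [RingHom.mem_ker, RingHom.mem_ker]
    change algebraMap F (Localization.AtPrime (maximalIdeal F)) (π x) = 0 ↔ π x = 0
    rw [map_eq_zero_iff _ hbij.1]
  have hmax : (maximalIdeal B).map π₀.toRingHom =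
      maximalIdeal (Localization.AtPrime (maximalIdeal F)) :=
    map_maximalIdeal_of_surjective (R := B)
      (S := Localization.AtPrime (maximalIdeal F)) π₀.toRingHom hπ₀
  refine FlatFibreSmooth.isAdicFormallySmooth_of_flat_of_fibre hk hm π₀ hπ₀ hkerπ₀ ?_
  rw [hmax]
  exact h5

set_option maxHeartbeats 400000 in
/-- **Regular local homomorphisms are formally smooth** (EGA `0_IV` 19.7.1 + 22.5.8). -/
theorem isAdicFormallySmooth_of_isRegularHom_local {A B : Type u} [CommRing A] [CommRing B]
    [IsLocalRing A] [IsLocalRing B] [IsNoetherianRing B] [Algebra A B]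
    [IsLocalHom (algebraMap A B)] (h : CAlg.IsRegularHom A B) :
    CAlgX.IsAdicFormallySmooth A B (maximalIdeal B) := by
  classical
  obtain ⟨hflat, hfib⟩ := h
  haveI := hflat
  obtain ⟨hN, hgeo⟩ := hfib (maximalIdeal A)
  haveI := hN
  have hk : Function.Surjective (algebraMap A (maximalIdeal A).ResidueField) :=
    Ideal.algebraMap_residueField_surjective _
  have hm : RingHom.ker (algebraMap A (maximalIdeal A).ResidueField) = maximalIdeal A :=
    Ideal.ker_algebraMap_residueField _
  let π : B →ₐ[A] (maximalIdeal A).Fiber B := Algebra.TensorProduct.includeRight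
  have hπ : Function.Surjective π := FlatFibreSmooth.includeRight_surjective hk B
  have hkerπ : RingHom.ker π.toRingHom = (maximalIdeal A).map (algebraMap A B) := by
    have h1 := FlatFibreSmooth.ker_includeRight hk B
    rw [hm] at h1
    exact h1
  have hloc : IsLocalHom (algebraMap A B) := inferInstance
  have hle : (maximalIdeal A).map (algebraMap A B) ≤ maximalIdeal B :=
    ((IsLocalRing.local_hom_TFAE (algebraMap A B)).out 0 2).mp hloc
  haveI : Nontrivial ((maximalIdeal A).Fiber B) := by
    refine ⟨⟨π 1, 0, fun h1 => ?_⟩⟩
    have h2 : (1 : B) ∈ RingHom.ker π.toRingHom := h1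
    rw [hkerπ] at h2
    exact (Ideal.ne_top_iff_one _).mp (IsLocalRing.maximalIdeal.isMaximal B).ne_top (hle h2)
  haveI : IsLocalRing ((maximalIdeal A).Fiber B) := IsLocalRing.of_surjective' π.toRingHom hπ
  exact isAdicFormallySmooth_of_flat_of_geometricallyRegular_fibre hk hm π hπ hkerπ hgeo

variable {R Λ : Type u} [CommRing R] [CommRing Λ] [Algebra R Λ] [IsNoetherianRing Λ]

/-- **Regular homomorphisms are formally smooth on local rings.** -/
theorem isAdicFormallySmooth_localization_of_isRegularHom (h : CAlg.IsRegularHom R Λ)
    (q : Ideal Λ) [q.IsPrime]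
    [inst1 : Algebra (Localization.AtPrime (q.comap (algebraMap R Λ))) (Localization.AtPrime q)]
    [inst2 : IsScalarTower R (Localization.AtPrime (q.comap (algebraMap R Λ)))
      (Localization.AtPrime q)] :
    CAlgX.IsAdicFormallySmooth (Localization.AtPrime (q.comap (algebraMap R Λ)))
      (Localization.AtPrime q) (maximalIdeal (Localization.AtPrime q)) := by
  classical
  -- the algebra structure is the canonical one
  have hinst : inst1 = (Localization.localRingHom (q.comap (algebraMap R Λ)) q
      (algebraMap R Λ) rfl).toAlgebra := by
    apply Algebra.algebra_ext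
    intro x
    have hcomp : (@algebraMap _ _ _ _ inst1) =
        Localization.localRingHom (q.comap (algebraMap R Λ)) q (algebraMap R Λ) rfl := by
      apply IsLocalization.ringHom_ext (q.comap (algebraMap R Λ)).primeCompl
      ext a
      rw [RingHom.comp_apply, RingHom.comp_apply, Localization.localRingHom_to_map,
        ← IsScalarTower.algebraMap_apply R (Localization.AtPrime (q.comap (algebraMap R Λ)))
          (Localization.AtPrime q),
        IsScalarTower.algebraMap_apply R Λ (Localization.AtPrime q)]
    rw [hcomp]
    rfl
  subst hinst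
  letI : Algebra (Localization.AtPrime (q.comap (algebraMap R Λ))) (Localization.AtPrime q) :=
    (Localization.localRingHom (q.comap (algebraMap R Λ)) q (algebraMap R Λ) rfl).toAlgebra
  have hreg := isRegularHom_localRingHom R Λ h q
  haveI : IsNoetherianRing (Localization.AtPrime q) :=
    IsLocalization.isNoetherianRing q.primeCompl _ inferInstance
  haveI : IsLocalHom (algebraMap (Localization.AtPrime (q.comap (algebraMap R Λ)))
      (Localization.AtPrime q)) :=
    Localization.isLocalHom_localRingHom _ _ _ rfl
  exact isAdicFormallySmooth_of_isRegularHom_local hreg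

end Groth.Agent.Lib.Helper96.RegularLocSmooth
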