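import Mathlib

/-!
# Trace of `h²` on irreducible `sl₂`-modules (helper96)
-/

open LieModule

namespace Groth.Agent.Lib.Helper96.Sl2Trace

/-- `3 * ∑_{j<m} (n - 2j)² = 3mn² - 6nm(m-1) + 2m(m-1)(2m-1)`. -/
theorem three_mul_sum_sq (n : ℤ) (m : ℕ) :
    3 * ∑ j ∈ Finset.range m, (n - 2 * (j : ℤ)) ^ 2 =
      3 * m * n ^ 2 - 6 * n * m * (m - 1) + 2 * m * (m - 1) * (2 * m - 1) := by
  induction m with
  | zero => simp
  | succ m ih =>
    rw [Finset.sum_range_succ, mul_add, ih]
    push_cast
    ring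

theorem sum_sq_eq (n : ℕ) :
    ∑ j ∈ Finset.range (n + 1), ((n : ℤ) - 2 * (j : ℤ)) ^ 2 = 2 * ((n + 2).choose 3 : ℤ) := by
  have h1 := three_mul_sum_sq (n : ℤ) (n + 1)
  have h2 : (6 : ℤ) * ((n + 2).choose 3 : ℤ) = (n + 2) * (n + 1) * n := by
    have := Nat.descFactorial_eq_factorial_mul_choose (n + 2) 3
    have h3 : (n + 2).descFactorial 3 = (n + 2) * (n + 1) * n := by
      simp [Nat.descFactorial]
      ring
    rw [h3] at this
    have h4 : Nat.factorial 3 = 6 := rfl
    rw [h4] at this
    exact_mod_cast this.symm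
  have h5 : 3 * ∑ j ∈ Finset.range (n + 1), ((n : ℤ) - 2 * (j : ℤ)) ^ 2 =
      3 * (2 * ((n + 2).choose 3 : ℤ)) := by
    rw [h1]
    push_cast
    nlinarith [h2]
  exact mul_left_cancel₀ (by norm_num : (3 : ℤ) ≠ 0) h5

section Irred

universe u v w

variable (k : Type u) [Field k] [IsAlgClosed k] [CharZero k]
  (L : Type v) [LieRing L] [LieAlgebra k L]
  (h e f : L) (t : IsSl2Triple h e f) (hspan : t.toLieSubalgebra k = ⊤)
  (W : Type w) [AddCommGroup W] [Module k W] [LieRingModule L W] [LieModule k L W]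
  [FiniteDimensional k W] [LieModule.IsIrreducible k L W]

include t hspan in
theorem exists_basis_of_irreducible :
    ∃ (n : ℕ) (B : Module.Basis (Fin (n + 1)) k W),
      ∀ j : Fin (n + 1), ⁅h, B j⁆ = ((n : k) - 2 * ((j : ℕ) : k)) • B j := by
  haveI : Nontrivial W := LieModule.nontrivial_of_isIrreducible k L W
  obtain ⟨μ, m, hm, P⟩ := t.exists_hasPrimitiveVectorWith (R := k) (M := W)
  obtain ⟨n, hn⟩ := P.exists_nat
  let v : Fin (n + 1) → W := fun j => ((toEnd k L W f) ^ (j : ℕ)) m
  have hv : ∀ j : Fin (n + 1), ⁅h, v j⁆ = ((n : k) - 2 * ((j : ℕ) : k)) • v j := by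
    intro j
    have := P.lie_h_pow_toEnd_f (j : ℕ)
    rw [hn] at this
    exact this
  have hne : ∀ j : Fin (n + 1), v j ≠ 0 := fun j =>
    P.pow_toEnd_f_ne_zero_of_eq_nat hn (Nat.lt_succ_iff.mp j.2)
  have hli : LinearIndependent k v := by
    apply Module.End.eigenvectors_linearIndependent' (toEnd k L W h)
      (fun j : Fin (n + 1) => (n : k) - 2 * ((j : ℕ) : k))
    · intro a b hab
      have h1 : (2 : k) * ((a : ℕ) : k) = 2 * ((b : ℕ) : k) := by
        have := sub_right_injective hab
        exact this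
      have h2 : ((a : ℕ) : k) = ((b : ℕ) : k) := mul_left_cancel₀ two_ne_zero h1
      exact Fin.ext (Nat.cast_injective h2)
    · intro j
      refine ⟨?_, hne j⟩
      rw [Module.End.mem_eigenspace_iff]
      exact hv j
  -- the span is a Lie submodule
  have hf_mem : ∀ w ∈ Submodule.span k (Set.range v), ⁅f, w⁆ ∈ Submodule.span k (Set.range v) := by
    intro w hw
    induction hw using Submodule.span_induction with
    | zero => simp
    | add a b _ _ ha hb => rw [lie_add]; exact add_mem ha hb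
    | smul c a _ ha => rw [lie_smul]; exact Submodule.smul_mem _ c ha
    | mem a ha =>
      obtain ⟨j, rfl⟩ := ha
      have h1 : ⁅f, v j⁆ = ((toEnd k L W f) ^ ((j : ℕ) + 1)) m := P.lie_f_pow_toEnd_f (j : ℕ)
      by_cases hj : (j : ℕ) + 1 < n + 1
      · rw [h1]
        exact Submodule.subset_span ⟨⟨(j : ℕ) + 1, hj⟩, rfl⟩
      · have hjn : (j : ℕ) = n := by have := j.2; omega
        rw [h1, hjn, P.pow_toEnd_f_eq_zero_of_eq_nat hn]
        exact Submodule.zero_mem _
  have he_mem : ∀ w ∈ Submodule.span k (Set.range v), ⁅e, w⁆ ∈ Submodule.span k (Set.range v) := by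
    intro w hw
    induction hw using Submodule.span_induction with
    | zero => simp
    | add a b _ _ ha hb => rw [lie_add]; exact add_mem ha hb
    | smul c a _ ha => rw [lie_smul]; exact Submodule.smul_mem _ c ha
    | mem a ha =>
      obtain ⟨j, rfl⟩ := ha
      obtain ⟨j, hj⟩ := j
      cases j with
      | zero =>
        have : ⁅e, v ⟨0, hj⟩⁆ = 0 := by
          show ⁅e, ((toEnd k L W f) ^ 0) m⁆ = 0
          simpa using P.lie_e
        rw [this]; exact Submodule.zero_mem _
      | succ i =>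
        have : ⁅e, v ⟨i + 1, hj⟩⁆ = (((i : k) + 1) * (μ - i)) • ((toEnd k L W f) ^ i) m :=
          P.lie_e_pow_succ_toEnd_f i
        rw [this]
        apply Submodule.smul_mem
        exact Submodule.subset_span ⟨⟨i, by omega⟩, rfl⟩
  have hh_mem : ∀ w ∈ Submodule.span k (Set.range v), ⁅h, w⁆ ∈ Submodule.span k (Set.range v) := by
    intro w hw
    induction hw using Submodule.span_induction with
    | zero => simp
    | add a b _ _ ha hb => rw [lie_add]; exact add_mem ha hb
    | smul c a _ ha => rw [lie_smul]; exact Submodule.smul_mem _ c ha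
    | mem a ha =>
      obtain ⟨j, rfl⟩ := ha
      rw [hv j]
      exact Submodule.smul_mem _ _ (Submodule.subset_span ⟨j, rfl⟩)
  let U : LieSubmodule k L W :=
    { toSubmodule := Submodule.span k (Set.range v)
      lie_mem := by
        intro x w hw
        have hx : x ∈ t.toLieSubalgebra k := by rw [hspan]; trivial
        obtain ⟨c₁, c₂, c₃, rfl⟩ := IsSl2Triple.mem_toLieSubalgebra_iff.mp hx
        rw [t.lie_e_f, add_lie, add_lie, smul_lie, smul_lie, smul_lie]
        exact add_mem (add_mem (Submodule.smul_mem _ _ (he_mem w hw))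
          (Submodule.smul_mem _ _ (hf_mem w hw))) (Submodule.smul_mem _ _ (hh_mem w hw)) }
  have hUne : U ≠ ⊥ := by
    intro hU
    have hm0 : v ⟨0, Nat.succ_pos n⟩ ∈ U := Submodule.subset_span ⟨_, rfl⟩
    rw [hU, LieSubmodule.mem_bot] at hm0
    exact hne _ hm0
  have hUtop : U = ⊤ := (IsSimpleOrder.eq_bot_or_eq_top U).resolve_left hUne
  have hspan_top : ⊤ ≤ Submodule.span k (Set.range v) := by
    intro w _
    have : w ∈ U := by rw [hUtop]; trivial
    exact this
  refine ⟨n, Module.Basis.mk hli hspan_top, ?_⟩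
  intro j
  rw [Module.Basis.mk_apply]
  exact hv j

include t hspan in
theorem trace_sq_of_irreducible :
    LinearMap.trace k W ((toEnd k L W h) ^ 2) =
      2 * (((Module.finrank k W + 1).choose 3 : ℕ) : k) := by
  obtain ⟨n, B, hB⟩ := exists_basis_of_irreducible k L h e f t hspan W
  have hrank : Module.finrank k W = n + 1 := by
    rw [Module.finrank_eq_card_basis B, Fintype.card_fin]
  rw [hrank, LinearMap.trace_eq_matrix_trace k B, Matrix.trace]
  have hdiag : ∀ j : Fin (n + 1), Matrix.diag (LinearMap.toMatrix B B ((toEnd k L W h) ^ 2)) j =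
      ((n : k) - 2 * ((j : ℕ) : k)) ^ 2 := by
    intro j
    rw [Matrix.diag_apply, LinearMap.toMatrix_apply]
    have h2 : ((toEnd k L W h) ^ 2) (B j) = (((n : k) - 2 * ((j : ℕ) : k)) ^ 2) • B j := by
      rw [pow_two, Module.End.mul_apply, toEnd_apply_apply, toEnd_apply_apply, hB j, lie_smul, hB j,
        smul_smul, pow_two]
    rw [h2, map_smul, Finsupp.smul_apply, Module.Basis.repr_self, Finsupp.single_eq_same, smul_eq_mul,
      mul_one]
  rw [Finset.sum_congr rfl (fun j _ => hdiag j), Fin.sum_univ_eq_sum_range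
    (fun j : ℕ => ((n : k) - 2 * (j : k)) ^ 2) (n + 1)]
  have hz := sum_sq_eq n
  have hz' := congrArg (fun z : ℤ => (z : k)) hz
  simp only [Int.cast_sum, Int.cast_pow, Int.cast_sub, Int.cast_mul, Int.cast_natCast,
    Int.cast_ofNat] at hz'
  rw [hz']

end Irred

end Groth.Agent.Lib.Helper96.Sl2Trace
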